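import Cfsg.Agent.S5120
import Cfsg.Agent.Lib.Fusion.Centric
import Cfsg.Agent.Lib.Fusion.SubsystemCompare

/-!
The subsystem generated by the automorphisms of `p`-power order of the centric subgroups, the
decomposition of every map through it, and the labels of maps.
-/

set_option autoImplicit false
set_option linter.unusedSectionVars false

namespace Cfsg.Agent.Lib.Fusion.PrimeIndex

open Cfsg Cfsg.FusionSystem
open Cfsg.Agent.S5120 (Transported transportSystem)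

variable {Ω : Type*} [Group Ω] {S : Subgroup Ω}

/-- An element of `p`-power order. -/
def IsPEl (p : ℕ) {A : Type*} [Monoid A] (a : A) : Prop := ∃ k : ℕ, a ^ p ^ k = 1

theorem IsPEl.of_orderOf {p : ℕ} {A : Type*} [Monoid A] {a : A} {k : ℕ} (h : orderOf a = p ^ k) :
    IsPEl p a := ⟨k, h ▸ pow_orderOf_eq_one a⟩

theorem IsPEl.map {p : ℕ} {A B : Type*} [Monoid A] [Monoid B] (f : A →* B) {a : A}
    (h : IsPEl p a) : IsPEl p (f a) := by
  obtain ⟨k, hk⟩ := h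
  exact ⟨k, by rw [← map_pow, hk, map_one]⟩

theorem IsPEl.orderOf_pow {p : ℕ} [Fact p.Prime] {A : Type*} [Monoid A] {a : A}
    (h : IsPEl p a) : ∃ k : ℕ, orderOf a = p ^ k := by
  obtain ⟨k, hk⟩ := h
  obtain ⟨j, -, hj⟩ := (Nat.dvd_prime_pow (Fact.out : p.Prime)).1 (orderOf_dvd_of_pow_eq_one hk)
  exact ⟨j, hj⟩

theorem isPEl_conjAut {p : ℕ} (hS : IsPGroup p S) {P : Subgroup Ω} {g : Ω} (hg : g ∈ S)
    (hn : g ∈ Subgroup.normalizer (P : Set Ω)) : IsPEl p (conjAut hn) := by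
  obtain ⟨k, hk⟩ := hS ⟨g, hg⟩
  refine ⟨k, ?_⟩
  show (P.normalizerMonoidHom ⟨g, hn⟩) ^ p ^ k = 1
  rw [← map_pow]
  convert map_one P.normalizerMonoidHom
  exact Subtype.ext (by simpa using congrArg Subtype.val hk)

/-- Contains the automorphisms of `p`-power order of all centric subgroups. -/
def GenProp (F : FusionSystem S) (p : ℕ) (D : FusionSystem S) : Prop :=
  ∀ R : Subgroup Ω, F.IsCentric R → ∀ τ ∈ F.autGroup R, IsPEl p τ → autHom τ ∈ D.Hom R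

/-- The subsystem generated by the automorphisms of `p`-power order of the centric subgroups. -/
def gen (F : FusionSystem S) (p : ℕ) : FusionSystem S where
  Hom P := {φ | φ ∈ F.Hom P ∧ ∀ D : FusionSystem S, GenProp F p D → φ ∈ D.Hom P}
  le_of_mem h := F.le_of_mem h.1
  injective_of_mem h := F.injective_of_mem h.1
  conj_mem hP hg := ⟨F.conj_mem hP hg, fun D _ => D.conj_mem hP hg⟩
  comp_mem hφ hψ h := ⟨F.comp_mem hφ.1 hψ.1 h, fun D hD => D.comp_mem (hφ.2 D hD) (hψ.2 D hD) h⟩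
  inv_mem := by
    rintro P φ ⟨hφ, hφD⟩
    obtain ⟨c, hc, hcr, hl, -⟩ := exists_inv F hφ rfl
    refine ⟨c, ⟨hc, fun D hD => ?_⟩, fun x => hl x _⟩
    obtain ⟨c', hc', -, hl', -⟩ := exists_inv D (hφD D hD) rfl
    convert hc' using 1
    ext ⟨_, x, rfl⟩
    exact (hl x _).trans (hl' x _).symm

theorem gen_le (F : FusionSystem S) (p : ℕ) : gen F p ≤ F := fun _ _ h => h.1

theorem gen_le_of {F : FusionSystem S} {p : ℕ} {D : FusionSystem S} (hD : GenProp F p D) :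
    gen F p ≤ D := fun _ _ h => h.2 D hD

theorem genProp_gen (F : FusionSystem S) (p : ℕ) : GenProp F p (gen F p) :=
  fun R hR τ hτ hp => ⟨autHom_mem F hR.1 hτ, fun _ hD => hD R hR τ hτ hp⟩

/-- An automorphism of `S` as a map. -/
theorem autHom_S_mem (α : MulAut S) (x : S) : autHom α x ∈ S := (α x).2

/-- The decomposition `φ = α ∘ e`. -/
def Dec (F : FusionSystem S) (p : ℕ) (α : MulAut S) {P : Subgroup Ω} (φ : P →* Ω) : Prop :=
  α ∈ F.autGroup S ∧ ∃ e ∈ (gen F p).Hom P, ∀ (x : P) (hx : e x ∈ S), φ x = autHom α ⟨e x, hx⟩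

variable {p : ℕ} [Fact p.Prime] [Finite S] {F : FusionSystem S}

theorem Dec.of_gen {P : Subgroup Ω} {φ : P →* Ω} (h : φ ∈ (gen F p).Hom P) : Dec F p 1 φ :=
  ⟨one_mem _, φ, h, fun _ _ => rfl⟩

theorem Dec.to_gen {P : Subgroup Ω} {φ : P →* Ω} (h : Dec F p 1 φ) : φ ∈ (gen F p).Hom P := by
  obtain ⟨-, e, he, hx⟩ := h
  rwa [show φ = e from MonoidHom.ext fun x => hx x (apply_mem he x)]

theorem Dec.autHom_self {α : MulAut S} (hα : α ∈ F.autGroup S) : Dec F p α (autHom α) :=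
  ⟨hα, S.subtype, subtype_mem _ le_rfl, fun _ _ => rfl⟩

theorem Dec.mem {α : MulAut S} {P : Subgroup Ω} {φ : P →* Ω} (h : Dec F p α φ) : φ ∈ F.Hom P := by
  obtain ⟨hα, e, he, hx⟩ := h
  exact mem_of_comp F (gen_le F p P he) (autHom_mem F le_rfl hα) (apply_mem he)
    fun x => hx x _

theorem Dec.restr {α : MulAut S} {P R : Subgroup Ω} {φ : P →* Ω} (h : Dec F p α φ) (hR : R ≤ P) :
    Dec F p α (Fusion.restr hR φ) := by
  obtain ⟨hα, e, he, hx⟩ := h
  exact ⟨hα, Fusion.restr hR e, restr_mem _ he hR, fun x hxS => hx _ hxS⟩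

/-- The generated subsystem is invariant under the automorphisms of `S`. -/
theorem gen_transported (hS : IsPGroup p S) {α : MulAut S} (hα : α ∈ F.autGroup S) {P : Subgroup Ω}
    {φ : P →* Ω} (hφ : φ ∈ (gen F p).Hom P) :
    ∃ χ ∈ (gen F p).Hom (img (autHom α) P),
      ∀ (x : P) (hx : (x : Ω) ∈ S) (hφS : φ x ∈ S) (h : autHom α ⟨x, hx⟩ ∈ img (autHom α) P),
        χ ⟨autHom α ⟨x, hx⟩, h⟩ = autHom α ⟨φ x, hφS⟩ := by
  suffices h : gen F p ≤ transportSystem (gen F p) α from (h P hφ).2.2.2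
  refine gen_le_of fun R hR τ hτ hp => ⟨hR.1, fun x => hR.1 (τ x).2,
    R.subtype_injective.comp τ.injective, ?_⟩
  have hθ : Fusion.restr hR.1 (autHom α) ∈ F.Hom R := restr_mem F (autHom_mem F le_rfl hα) hR.1
  have hθr : (Fusion.restr hR.1 (autHom α)).range = img (autHom α) R := range_restr hR.1 _
  set e := isoOf _ (F.injective_of_mem hθ) hθr with he
  have hR' : F.IsCentric (img (autHom α) R) := isCentric_of_isConj hR ⟨_, hθ, hθr⟩
  refine ⟨autHom (MulAut.congr e τ), genProp_gen F p _ hR' _ (exists_mulAut_congr F hθ hθr hτ)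
    (hp.map (MulAut.congr e).toMonoidHom), fun x hx hφ h => ?_⟩
  have hex : (⟨autHom α ⟨x, hx⟩, h⟩ : img (autHom α) R) = e x := Subtype.ext rfl
  show autHom (MulAut.congr e τ) ⟨autHom α ⟨x, hx⟩, h⟩ = _
  rw [hex, autHom_apply]
  show ((e (τ (e.symm (e x))) : img (autHom α) R) : Ω) = _
  rw [e.symm_apply_apply, he, isoOf_coe]
  rfl

theorem autHom_inv_apply {α : MulAut S} (y : S) (h : autHom α⁻¹ y ∈ S) :
    autHom α ⟨autHom α⁻¹ y, h⟩ = y := congrArg Subtype.val (α.apply_symm_apply y)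

theorem autHom_apply_inv {α : MulAut S} (y : S) (h : autHom α y ∈ S) :
    autHom α⁻¹ ⟨autHom α y, h⟩ = y := congrArg Subtype.val (α.symm_apply_apply y)

/-- Composition of decompositions. -/
theorem Dec.comp (hS : IsPGroup p S) {α β : MulAut S} {P Q : Subgroup Ω} {φ : P →* Ω}
    {ψ : Q →* Ω} (hφ : Dec F p α φ) (hψ : Dec F p β ψ) (h : ∀ x, φ x ∈ Q) {ρ : P →* Ω}
    (hρ : ∀ x, ρ x = ψ ⟨φ x, h x⟩) : Dec F p (β * α) ρ := by
  obtain ⟨hα, e, he, hex⟩ := hφ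
  obtain ⟨hβ, e', he', hex'⟩ := hψ
  obtain ⟨χ, hχ, hχe⟩ := gen_transported hS (inv_mem hα) he'
  have hm : ∀ x, e x ∈ img (autHom α⁻¹) Q := fun x => by
    refine mem_img.2 ⟨φ x, source_le he' (h x), h x, ?_⟩
    simp only [hex x (apply_mem he x)]
    exact autHom_apply_inv ⟨e x, apply_mem he x⟩ _
  refine ⟨mul_mem hβ hα, compose e χ hm, compose_mem _ he hχ hm, fun x hx => ?_⟩
  have e1 : autHom α⁻¹ ⟨φ x, source_le he' (h x)⟩ = e x := by
    simp only [hex x (apply_mem he x)]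
    exact autHom_apply_inv ⟨e x, apply_mem he x⟩ _
  have e2 := hχe ⟨φ x, h x⟩ (source_le he' (h x)) (apply_mem he' _) (e1 ▸ hm x)
  simp only [e1] at e2
  simp only [compose_apply, e2, hρ x, hex' _ (apply_mem he' _)]
  show ((β _ : S) : Ω) = ((β (α (α⁻¹ _)) : S) : Ω)
  rw [MulAut.inv_apply, MulEquiv.apply_symm_apply]

/-- Inverses of decompositions. -/
theorem Dec.inv (hS : IsPGroup p S) {α : MulAut S} {P Q : Subgroup Ω} {φ : P →* Ω}
    (hφ : Dec F p α φ) {c : Q →* Ω} (hQ : φ.range = Q)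
    (hc : ∀ (x : P) (hx : φ x ∈ Q), c ⟨φ x, hx⟩ = x) : Dec F p α⁻¹ c := by
  subst hQ
  obtain ⟨hα, e, he, hex⟩ := hφ
  obtain ⟨e', he', -, hl, -⟩ := exists_inv (gen F p) he rfl
  obtain ⟨χ, hχ, hχe⟩ := gen_transported hS hα he'
  have himg : img (autHom α) e.range = φ.range := by
    ext y
    rw [mem_img]
    constructor
    · rintro ⟨_, hyS, ⟨x, rfl⟩, rfl⟩
      exact ⟨x, hex x hyS⟩
    · rintro ⟨x, rfl⟩
      exact ⟨e x, apply_mem he x, ⟨x, rfl⟩, (hex x _).symm⟩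
  revert χ
  rw [himg]
  intro χ hχ hχe
  refine ⟨inv_mem hα, χ, hχ, ?_⟩
  rintro ⟨_, x, rfl⟩ hxS
  have hxe : e x ∈ S := apply_mem he x
  have e1 : φ x = autHom α ⟨e x, hxe⟩ := hex x hxe
  have he'x : e' ⟨e x, ⟨x, rfl⟩⟩ = (x : Ω) := hl x _
  have e2 := hχe ⟨e x, ⟨x, rfl⟩⟩ hxe (he'x.symm ▸ source_le he x.2) (e1 ▸ ⟨x, rfl⟩)
  have e2' : χ ⟨autHom α ⟨e x, hxe⟩, e1 ▸ ⟨x, rfl⟩⟩ = autHom α ⟨x, source_le he x.2⟩ :=
    e2.trans (congrArg (autHom α) (Subtype.ext he'x))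
  have e3 : χ ⟨φ x, ⟨x, rfl⟩⟩ = autHom α ⟨x, source_le he x.2⟩ := by
    simp only [e1]
    exact e2'
  refine (hc x _).trans ?_
  have e4 : (⟨χ ⟨φ x, ⟨x, rfl⟩⟩, hxS⟩ : S) = ⟨autHom α ⟨x, source_le he x.2⟩, (α _).2⟩ :=
    Subtype.ext e3
  exact ((congrArg (autHom α⁻¹) e4).trans
    (autHom_apply_inv ⟨(x : Ω), source_le he x.2⟩ _)).symm

/-- A larger source, then `p`-power elements: generation of an automorphism group. -/
theorem autGroup_le_of_pelts {T : Subgroup Ω} [Finite T] (hT : IsPGroup p T) {E : FusionSystem T}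
    (hE : E.IsSaturated p) {P : Subgroup Ω} (hP : E.IsFullyNormalized P) (hlt : P < T)
    (X : Subgroup (MulAut P)) (hX : ∀ τ ∈ E.autGroup P, IsPEl p τ → τ ∈ X)
    (hbig : ∀ ψ ∈ E.Hom (normalizerIn T P), ∀ α : MulAut P,
      (∀ (x : Ω) (hx : x ∈ P) (hN : x ∈ normalizerIn T P), ψ ⟨x, hN⟩ = (α ⟨x, hx⟩ : Ω)) → α ∈ X) :
    E.autGroup P ≤ X := by
  have := finite_mulAut (P := P) hlt.le
  set A := E.autGroup P
  obtain ⟨⟨-, R, hR⟩, -⟩ := IsSaturated.automized_receptive hT hE hP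
  let M : Subgroup A := Subgroup.normalClosure ((R : Subgroup A) : Set A)
  have hMX : M ≤ X.subgroupOf A := by
    refine (Subgroup.closure_le _).2 fun a ha => hX _ a.2 ?_
    obtain ⟨r, hr, hc⟩ := Group.mem_conjugatesOfSet_iff.1 ha
    obtain ⟨c, rfl⟩ := isConj_iff.1 hc
    obtain ⟨k, hk⟩ := R.2 ⟨r, hr⟩
    refine ⟨k, ?_⟩
    have hk' : r ^ p ^ k = 1 := by simpa using congrArg Subtype.val hk
    show ((c * r * c⁻¹ : A) : MulAut P) ^ p ^ k = 1
    rw [← SubmonoidClass.coe_pow, conj_pow, hk', mul_one, mul_inv_cancel]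
    rfl
  have hN : Subgroup.normalizer ((R : Subgroup A) : Set A) ≤ X.subgroupOf A := by
    rintro ⟨α, hα⟩ hαN
    obtain ⟨ψ, hψ, hext⟩ := exists_extension_of_normalizes hT hE hP hα (fun β hβ => by
      have hβA : β ∈ A := autInducedBy_le_autGroup E hlt.le hβ
      have h1 := (Subgroup.mem_normalizer_iff.1 hαN ⟨β, hβA⟩).1 (by rw [hR]; exact hβ)
      rw [hR] at h1
      exact h1)
    exact hbig ψ hψ α hext
  have := eq_top_of_frattini M (X.subgroupOf A) R Subgroup.subset_normalClosure hN hMX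
  intro α hα
  exact (this ▸ Subgroup.mem_top (⟨α, hα⟩ : A) : (⟨α, hα⟩ : A) ∈ X.subgroupOf A)

/-- The maps having a decomposition. -/
def decSystem (hS : IsPGroup p S) (F : FusionSystem S) : FusionSystem S where
  Hom P := {φ | φ ∈ F.Hom P ∧ ∃ α, Dec F p α φ}
  le_of_mem h := F.le_of_mem h.1
  injective_of_mem h := F.injective_of_mem h.1
  conj_mem hP hg := ⟨F.conj_mem hP hg, 1, Dec.of_gen ((gen F p).conj_mem hP hg)⟩
  comp_mem := by
    rintro P Q φ ψ ⟨hφ, α, hα⟩ ⟨hψ, β, hβ⟩ h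
    exact ⟨F.comp_mem hφ hψ h, β * α, hα.comp hS hβ h fun _ => rfl⟩
  inv_mem := by
    rintro P φ ⟨hφ, α, hα⟩
    obtain ⟨c, hc, -, hl, -⟩ := exists_inv F hφ rfl
    exact ⟨c, ⟨hc, α⁻¹, hα.inv hS rfl hl⟩, fun x => hl x _⟩

/-- Every map decomposes. -/
theorem exists_dec (hS : IsPGroup p S) (hF : F.IsSaturated p) {P : Subgroup Ω} {φ : P →* Ω}
    (hφ : φ ∈ F.Hom P) : ∃ α, Dec F p α φ := by
  suffices h : F ≤ decSystem (p := p) hS F from (h P hφ).2
  refine alperin_ind hS hF _ (fun α hα => mem_autGroup_of_hom _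
    ⟨autHom_mem F le_rfl hα, α, Dec.autHom_self hα⟩) fun P hP ih => ?_
  refine autGroup_le_of_pelts hS hF hP.2.1 (IsEssential.lt hF hS hP) _ (fun τ hτ hp => ?_)
    fun ψ hψ α hext => mem_autGroup_of_hom _ ?_
  · exact mem_autGroup_of_hom _ ⟨autHom_mem F hP.1.1 hτ, 1,
      Dec.of_gen (genProp_gen F p P hP.1 τ hτ hp)⟩
  · have hlt := lt_normalizerIn hS (IsEssential.lt hF hS hP)
    have : Finite (normalizerIn S P) := finite_of_le (normalizerIn_le _ _)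
    have hcard : Nat.card P < Nat.card (normalizerIn S P) := by
      by_contra hge
      exact hlt.ne (Subgroup.eq_of_le_of_card_ge hlt.le (not_lt.1 hge))
    have e : autHom α = Fusion.restr hlt.le ψ :=
      MonoidHom.ext fun x => (hext x x.2 (hlt.le x.2)).symm
    rw [e]
    exact restr_mem _ (ih _ hcard ψ hψ) _

/-- The automorphisms of `p`-power order of every subgroup lie in the generated subsystem. -/
theorem mem_gen_of_isPEl (hS : IsPGroup p S) (hF : F.IsSaturated p) {P : Subgroup Ω} (hP : P ≤ S)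
    {τ : MulAut P} (hτ : τ ∈ F.autGroup P) (hp : IsPEl p τ) : autHom τ ∈ (gen F p).Hom P := by
  obtain ⟨Q, hPQ, hQ⟩ := exists_fullyNormalized F hP
  obtain ⟨φ, hφ, hr⟩ := hPQ
  set i := isoOf φ (F.injective_of_mem hφ) hr with hi
  have := finite_mulAut (P := Q) hQ.1
  have hτ' : MulAut.congr i τ ∈ F.autGroup Q := exists_mulAut_congr F hφ hr hτ
  have hzp : IsPGroup p (Subgroup.zpowers (MulAut.congr i τ)) := by
    obtain ⟨k, hk⟩ := hp.map (MulAut.congr i).toMonoidHom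
    rintro ⟨x, hx⟩
    obtain ⟨n, rfl⟩ := Subgroup.mem_zpowers_iff.1 hx
    refine ⟨k, Subtype.ext ?_⟩
    show ((MulAut.congr i τ) ^ n) ^ p ^ k = 1
    rw [← zpow_natCast, zpow_comm, zpow_natCast]
    rw [show (MulAut.congr i τ) ^ p ^ k = 1 from hk, one_zpow]
  obtain ⟨γ, hγ, hγτ⟩ := IsFullyAutomized.exists_conj
    (IsSaturated.automized_receptive hS hF hQ).1 (Subgroup.zpowers_le.2 hτ') hzp
  obtain ⟨s, hs, hse⟩ := mem_autInducedBy.1 (hγτ _ (Subgroup.mem_zpowers _))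
  -- `φ' = γ ∘ φ` conjugates `τ` into an inner map
  have hφQ : ∀ x, φ x ∈ Q := fun x => hr ▸ ⟨x, rfl⟩
  let φ' := compose φ (autHom γ) hφQ
  have hφ' : φ' ∈ F.Hom P := compose_mem F hφ (autHom_mem F hQ.1 hγ) hφQ
  have hφ'r : φ'.range = Q := by rw [range_compose, hr, img_self, range_autHom]
  obtain ⟨c, hc, hcr, hcl, -⟩ := exists_inv F hφ' hφ'r
  obtain ⟨α, hα⟩ := exists_dec hS hF hφ'
  have hφ'Q : ∀ x, φ' x ∈ Q := fun x => hφ'r ▸ ⟨x, rfl⟩
  have hsQ : ∀ y : Q, conjHom Q s y ∈ Q := by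
    intro y
    show s * (y : Ω) * s⁻¹ ∈ Q
    rw [← hse y]
    exact SetLike.coe_mem _
  have h1 : Dec F p α (compose φ' (conjHom Q s) hφ'Q) := by
    have := hα.comp hS (Dec.of_gen ((gen F p).conj_mem hQ.1 hs)) hφ'Q
      (ρ := compose φ' (conjHom Q s) hφ'Q) fun _ => rfl
    rwa [one_mul] at this
  have h2 := h1.comp hS (hα.inv hS hφ'r hcl) (fun x => hsQ _) (ρ := autHom τ) fun x => by
    have e : s * φ' x * s⁻¹ = φ' (τ x) := by
      have h3 := hse ⟨φ' x, hφ'Q x⟩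
      rw [← h3]
      show ((γ (MulAut.congr i τ (γ.symm (γ (i x)))) : Q) : Ω) = ((γ (i (τ x)) : Q) : Ω)
      rw [MulEquiv.symm_apply_apply]
      show ((γ (i (τ (i.symm (i x)))) : Q) : Ω) = _
      rw [MulEquiv.symm_apply_apply]
    show ((τ x : P) : Ω) = c ⟨s * φ' x * s⁻¹, _⟩
    simp only [e]
    exact (hcl (τ x) _).symm
  rw [inv_mul_cancel] at h2
  exact h2.to_gen

/-- The elements of `Aut_F(S)` acting as generated maps on a centric subgroup. -/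
def critSet (F : FusionSystem S) (p : ℕ) : Set (MulAut S) :=
  {α | α ∈ F.autGroup S ∧ ∃ (P : Subgroup Ω) (hP : P ≤ S), F.IsCentric P ∧
    Fusion.restr hP (autHom α) ∈ (gen F p).Hom P}

/-- The subgroup of `Aut_F(S)` forced by the generated subsystem. -/
def baseAut (F : FusionSystem S) (p : ℕ) : Subgroup (MulAut S) := Subgroup.closure (critSet F p)

theorem baseAut_le : baseAut F p ≤ F.autGroup S := (Subgroup.closure_le _).2 fun _ h => h.1

theorem baseAut_conj (hS : IsPGroup p S) {α b : MulAut S} (hα : α ∈ F.autGroup S)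
    (hb : b ∈ baseAut F p) : α * b * α⁻¹ ∈ baseAut F p := by
  induction hb using Subgroup.closure_induction with
  | mem b hb =>
    refine Subgroup.subset_closure ?_
    obtain ⟨hbA, P, hP, hPc, hbP⟩ := hb
    refine ⟨mul_mem (mul_mem hα hbA) (inv_mem hα), img (autHom α) P,
      (img_le_range _ P).trans (range_autHom α).le, ?_, ?_⟩
    · exact isCentric_of_isConj hPc (isConj_img F (autHom_mem F le_rfl hα) hP)
    · set P' := img (autHom α) P
      have hP' : P' ≤ S := (img_le_range _ P).trans (range_autHom α).le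
      have hm : ∀ x : P', autHom α⁻¹ ⟨x, hP' x.2⟩ ∈ P := by
        rintro ⟨_, x, hx, rfl⟩
        exact (autHom_apply_inv x _).symm ▸ hx
      have h1 : Dec F p α⁻¹ (Fusion.restr hP' (autHom α⁻¹)) :=
        (Dec.autHom_self (inv_mem hα)).restr hP'
      have h2 := h1.comp hS (Dec.of_gen hbP) hm
        (ρ := compose (Fusion.restr hP' (autHom α⁻¹)) (Fusion.restr hP (autHom b)) hm) fun _ => rfl
      have h3 := h2.comp hS (Dec.autHom_self hα) (fun x => (b _).2)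
        (ρ := Fusion.restr hP' (autHom (α * b * α⁻¹))) fun x => rfl
      rw [one_mul, mul_inv_cancel] at h3
      exact h3.to_gen
  | one => simp
  | mul a c _ _ ha hc =>
    rw [show α * (a * c) * α⁻¹ = α * a * α⁻¹ * (α * c * α⁻¹) by group]
    exact mul_mem ha hc
  | inv a _ ha =>
    rw [show α * a⁻¹ * α⁻¹ = (α * a * α⁻¹)⁻¹ by group]
    exact inv_mem ha

/-- The labels of a map: modulo the forced subgroup. -/
def Lab (F : FusionSystem S) (p : ℕ) (α : MulAut S) {P : Subgroup Ω} (φ : P →* Ω) : Prop :=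
  α ∈ F.autGroup S ∧ ∃ b ∈ baseAut F p, Dec F p (α * b) φ

theorem Lab.of_dec {α : MulAut S} {P : Subgroup Ω} {φ : P →* Ω} (h : Dec F p α φ) : Lab F p α φ :=
  ⟨h.1, 1, one_mem _, by rwa [mul_one]⟩

theorem Lab.of_gen {P : Subgroup Ω} {φ : P →* Ω} (h : φ ∈ (gen F p).Hom P) : Lab F p 1 φ :=
  Lab.of_dec (Dec.of_gen h)

theorem Lab.autHom_self {α : MulAut S} (hα : α ∈ F.autGroup S) : Lab F p α (autHom α) :=
  Lab.of_dec (Dec.autHom_self hα)

theorem Lab.mem {α : MulAut S} {P : Subgroup Ω} {φ : P →* Ω} (h : Lab F p α φ) : φ ∈ F.Hom P := by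
  obtain ⟨-, b, -, hb⟩ := h
  exact hb.mem

theorem Lab.restr {α : MulAut S} {P R : Subgroup Ω} {φ : P →* Ω} (h : Lab F p α φ) (hR : R ≤ P) :
    Lab F p α (Fusion.restr hR φ) := by
  obtain ⟨hα, b, hb, hd⟩ := h
  exact ⟨hα, b, hb, hd.restr hR⟩

theorem Lab.comp (hS : IsPGroup p S) {α β : MulAut S} {P Q : Subgroup Ω} {φ : P →* Ω}
    {ψ : Q →* Ω} (hφ : Lab F p α φ) (hψ : Lab F p β ψ) (h : ∀ x, φ x ∈ Q) {ρ : P →* Ω}
    (hρ : ∀ x, ρ x = ψ ⟨φ x, h x⟩) : Lab F p (β * α) ρ := by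
  obtain ⟨hα, a, ha, hda⟩ := hφ
  obtain ⟨hβ, b, hb, hdb⟩ := hψ
  refine ⟨mul_mem hβ hα, α⁻¹ * b * α⁻¹⁻¹ * a, mul_mem (baseAut_conj hS (inv_mem hα) hb) ha, ?_⟩
  have h1 := hda.comp hS hdb h hρ
  rwa [show β * α * (α⁻¹ * b * α⁻¹⁻¹ * a) = β * b * (α * a) by group]

theorem Lab.inv (hS : IsPGroup p S) {α : MulAut S} {P Q : Subgroup Ω} {φ : P →* Ω}
    (hφ : Lab F p α φ) {c : Q →* Ω} (hQ : φ.range = Q)
    (hc : ∀ (x : P) (hx : φ x ∈ Q), c ⟨φ x, hx⟩ = x) : Lab F p α⁻¹ c := by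
  obtain ⟨hα, a, ha, hd⟩ := hφ
  refine ⟨inv_mem hα, α * a⁻¹ * α⁻¹, baseAut_conj hS hα (inv_mem ha), ?_⟩
  have := hd.inv hS hQ hc
  rwa [show α⁻¹ * (α * a⁻¹ * α⁻¹) = (α * a)⁻¹ by group]

theorem Lab.mul_base (hS : IsPGroup p S) {α b : MulAut S} {P : Subgroup Ω} {φ : P →* Ω}
    (h : Lab F p α φ) (hb : b ∈ baseAut F p) : Lab F p (α * b) φ := by
  obtain ⟨hα, a, ha, hd⟩ := h
  refine ⟨mul_mem hα (baseAut_le hb), b⁻¹ * a, mul_mem (inv_mem hb) ha, ?_⟩
  rwa [mul_assoc, mul_inv_cancel_left]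

theorem exists_lab (hS : IsPGroup p S) (hF : F.IsSaturated p) {P : Subgroup Ω} {φ : P →* Ω}
    (hφ : φ ∈ F.Hom P) : ∃ α, Lab F p α φ := by
  obtain ⟨α, hα⟩ := exists_dec hS hF hφ
  exact ⟨α, Lab.of_dec hα⟩

/-- On a centric subgroup the label is unique modulo the forced subgroup. -/
theorem Lab.unique (hS : IsPGroup p S) {α β : MulAut S} {P : Subgroup Ω} {φ : P →* Ω}
    (hP : F.IsCentric P) (h : Lab F p α φ) (h' : Lab F p β φ) : β⁻¹ * α ∈ baseAut F p := by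
  obtain ⟨hα, a, ha, hda⟩ := h
  obtain ⟨hβ, b, hb, hdb⟩ := h'
  suffices h1 : (β * b)⁻¹ * (α * a) ∈ baseAut F p by
    have h2 := mul_mem (mul_mem hb h1) (inv_mem ha)
    rwa [show b * ((β * b)⁻¹ * (α * a)) * a⁻¹ = β⁻¹ * α by group] at h2
  obtain ⟨hαa, e, he, hex⟩ := hda
  obtain ⟨hβb, e', he', hex'⟩ := hdb
  refine Subgroup.subset_closure ⟨mul_mem (inv_mem hβb) hαa, e.range, range_le he,
    isCentric_of_isConj hP ⟨e, gen_le F p P he, rfl⟩, ?_⟩
  obtain ⟨c, hc, hcr, hl, -⟩ := exists_inv (gen F p) he rfl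
  refine mem_of_comp (gen F p) hc he' (fun y => hcr.le ⟨y, rfl⟩) ?_
  rintro ⟨_, x, rfl⟩
  refine Eq.trans ?_ (congrArg e' (Subtype.ext (hl x _))).symm
  show autHom ((β * b)⁻¹ * (α * a)) ⟨e x, _⟩ = e' x
  have h3 : ((β * b)⁻¹ * (α * a)) ⟨e x, apply_mem he x⟩ = ⟨e' x, apply_mem he' x⟩ := by
    rw [MulAut.mul_apply, MulAut.inv_apply, MulEquiv.symm_apply_eq]
    refine Subtype.ext ?_
    rw [← autHom_apply, ← autHom_apply]
    exact (hex x _).symm.trans (hex' x _)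
  exact congrArg Subtype.val h3

end Cfsg.Agent.Lib.Fusion.PrimeIndex
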