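import Cfsg.Agent.Lib.Fusion.PrimeIndex.FocalFix

/-!
The centralizer in `S` of a normal subsystem: existence and strong closure.
-/

set_option autoImplicit false
set_option linter.unusedSectionVars false

namespace Cfsg.Agent.Lib.Fusion.PrimeIndex

open Cfsg Cfsg.FusionSystem

variable {Ω : Type*} [Group Ω] {S T : Subgroup Ω} {p : ℕ} [Fact p.Prime] [Finite S]
  {F : FusionSystem S} {E : FusionSystem T}

/-- `X` centralizes the subsystem `E`. -/
def CentX (F : FusionSystem S) (E : FusionSystem T) (X : Subgroup Ω) : Prop :=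
  X ≤ centralizerIn S T ∧ ∀ P : Subgroup Ω, E.Hom P ⊆ F.centralizerHom X P

theorem le_centralizerIn_of_centX (hTS : T ≤ S) {X : Subgroup Ω} (hX : X ≤ centralizerIn S T) :
    T ≤ centralizerIn S X := fun t ht => mem_centralizerIn.2 ⟨hTS ht, fun x hx =>
  ((mem_centralizerIn.1 (hX hx)).2 t ht).symm⟩

theorem centralizerIn_mono {Q : Subgroup Ω} (hQ : Q ≤ T) :
    centralizerIn S T ≤ centralizerIn S Q := fun c hc =>
  mem_centralizerIn.2 ⟨hc.1, fun x hx => (mem_centralizerIn.1 hc).2 x (hQ hx)⟩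

/-- The image of a centralizing subgroup under a map defined on `T X` centralizes. -/
theorem centX_transport (W : WNData p F E) {X : Subgroup Ω} (hX : CentX F E X)
    {ψ : ↥(T ⊔ X) →* Ω} (hψ : ψ ∈ F.Hom (T ⊔ X)) : CentX F E (img ψ X) := by
  have := W.finite
  have hTS := W.le
  have hTY : T ≤ T ⊔ X := le_sup_left
  have hcl := W.inv.2.1
  have hψT : ∀ t : ↥(T ⊔ X), (t : Ω) ∈ T → ψ t ∈ T := fun t ht =>
    StronglyClosed.map_mem hcl hψ t ht
  have hXS : img ψ X ≤ S := (img_le_range ψ X).trans (range_le hψ)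
  have hr : (restr hTY ψ).range = T := by
    refine Subgroup.eq_of_le_of_card_ge ?_
      (card_range_eq (F.injective_of_mem (restr_mem F hψ hTY))).ge
    rintro _ ⟨t, rfl⟩
    exact hψT _ t.2
  set α := isoOf _ (F.injective_of_mem (restr_mem F hψ hTY)) hr with hα
  have hαF : α ∈ F.autGroup T := mem_autGroup_of_hom F (restr_mem F hψ hTY)
  have hXc : img ψ X ≤ centralizerIn S T := by
    rintro _ ⟨x, hx, rfl⟩
    refine mem_centralizerIn_iff_conj.2 ⟨apply_mem hψ x, fun t ht => ?_⟩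
    obtain ⟨u, hu⟩ := hr.ge ht
    rw [← hu, restr_apply, ← map_inv, ← map_mul, ← map_mul]
    exact congrArg ψ (Subtype.ext ((mem_centralizerIn_iff_conj.1 (hX.1 hx)).2 u u.2))
  have hTC := le_centralizerIn_of_centX hTS hXc
  refine ⟨hXc, fun P χ hχ => ?_⟩
  have hPT := source_le hχ
  obtain ⟨χ', hχ', hχe⟩ := W.inv.2.2.1 P hPT χ hχ α⁻¹ (inv_mem hαF)
  set P₀ := (P.subgroupOf T).map (T.subtype.comp (α⁻¹).toMonoidHom) with hP₀
  obtain ⟨-, -, -, b, hb, hext, hfix⟩ := hX.2 _ hχ'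
  have hP₀T : P₀ ≤ T := by
    rintro _ ⟨u, -, rfl⟩
    exact SetLike.coe_mem _
  have hPψ : P ⊔ img ψ X ≤ ψ.range :=
    sup_le (fun t ht => by obtain ⟨u, hu⟩ := hr.ge (hPT ht); exact ⟨_, hu⟩) (img_le_range ψ X)
  obtain ⟨d, hd, hdr, hdl, hdl'⟩ := exists_inv F hψ rfl
  set d' := restr hPψ d with hd'
  have hd'F : d' ∈ F.Hom (P ⊔ img ψ X) := restr_mem F hd hPψ
  have hdα : ∀ (t : Ω) (ht : t ∈ T) (h : t ∈ ψ.range),
      d ⟨t, h⟩ = ((α⁻¹ ⟨t, ht⟩ : T) : Ω) := by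
    intro t ht h
    have e : t = ψ ⟨(α⁻¹ ⟨t, ht⟩ : T), hTY (SetLike.coe_mem _)⟩ := by
      refine (congrArg Subtype.val (α.apply_symm_apply ⟨t, ht⟩)).symm.trans ?_
      rfl
    rw [show (⟨t, h⟩ : ψ.range) = ⟨ψ ⟨(α⁻¹ ⟨t, ht⟩ : T), hTY (SetLike.coe_mem _)⟩, ⟨_, rfl⟩⟩ from
      Subtype.ext e]
    exact hdl _ _
  have hdP : ∀ (x : P), d' ⟨x, Subgroup.mem_sup_left x.2⟩ ∈ P₀ := fun x =>
    ⟨⟨x, hPT x.2⟩, x.2, (hdα x (hPT x.2) _).symm⟩
  have hdX : ∀ y, ∀ h : y ∈ P ⊔ img ψ X, y ∈ img ψ X → d' ⟨y, h⟩ ∈ X := by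
    intro y h hy
    obtain ⟨z, hzY, hzX, rfl⟩ := mem_img.1 hy
    show d ⟨ψ ⟨z, hzY⟩, _⟩ ∈ X
    rw [hdl]
    exact hzX
  have hm1 : ∀ y, d' y ∈ P₀ ⊔ X := by
    intro y
    have h1 : d'.range ≤ P₀ ⊔ X := by
      rw [← img_self, img_sup d' le_sup_left le_sup_right]
      refine sup_le_sup ?_ ?_
      · rintro _ ⟨⟨z, h⟩, hz, rfl⟩
        exact hdP ⟨z, hz⟩
      · rintro _ ⟨⟨z, h⟩, hz, rfl⟩
        exact hdX z h hz
    exact h1 ⟨y, rfl⟩
  let e₁ := compose d' b hm1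
  have he₁ : e₁ ∈ F.Hom (P ⊔ img ψ X) := compose_mem F hd'F hb hm1
  have hm2 : ∀ y, e₁ y ∈ T ⊔ X := by
    intro y
    have h1 : b.range ≤ T ⊔ X := by
      rw [← img_self, img_sup b le_sup_left le_sup_right]
      refine sup_le_sup ?_ ?_
      · rintro _ ⟨⟨z, h⟩, hz, rfl⟩
        exact (congrArg (· ∈ T) (hext ⟨z, hz⟩)).mpr (apply_mem hχ' _)
      · rintro _ ⟨⟨z, h⟩, hz, rfl⟩
        exact (congrArg (· ∈ X) (hfix ⟨z, hz⟩)).mpr hz
    exact h1 ⟨_, rfl⟩
  refine ⟨W.inv.1 P hχ, hPT.trans hTC, fun x => hTC (apply_mem hχ x), compose e₁ ψ hm2,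
    compose_mem F he₁ hψ hm2, fun x => ?_, fun y => ?_⟩
  · show ψ ⟨b ⟨d' ⟨x, _⟩, _⟩, _⟩ = χ x
    have hxT := hPT x.2
    have hm : ((α⁻¹ ⟨x, hxT⟩ : T) : Ω) ∈ P₀ := ⟨⟨x, hxT⟩, x.2, rfl⟩
    have e : b ⟨d' ⟨x, Subgroup.mem_sup_left x.2⟩, hm1 _⟩ =
        ((α⁻¹ ⟨χ x, apply_mem hχ x⟩ : T) : Ω) := by
      rw [show (⟨d' ⟨x, Subgroup.mem_sup_left x.2⟩, hm1 _⟩ : ↥(P₀ ⊔ X)) =
        Subgroup.inclusion le_sup_left ⟨_, hm⟩ from Subtype.ext (hdα x hxT _), hext]
      exact hχe x (apply_mem hχ x) hm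
    refine (congrArg ψ (Subtype.ext (a2 := (⟨_, hTY (SetLike.coe_mem (α⁻¹ ⟨χ x, apply_mem hχ x⟩))⟩ :
      ↥(T ⊔ X))) e)).trans ?_
    exact congrArg Subtype.val (α.apply_symm_apply ⟨χ x, apply_mem hχ x⟩)
  · obtain ⟨z, hzY, hzX, hz⟩ := mem_img.1 y.2
    show ψ ⟨b ⟨d' ⟨y, _⟩, _⟩, _⟩ = y
    have e : b ⟨d' ⟨y, Subgroup.mem_sup_right y.2⟩, hm1 _⟩ = z := by
      refine Eq.trans (congrArg b (Subtype.ext ?_)) (hfix ⟨z, hzX⟩)
      show d ⟨y, _⟩ = z
      simp only [← hz]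
      exact hdl _ _
    refine (congrArg ψ (Subtype.ext (a2 := (⟨z, hzY⟩ : ↥(T ⊔ X))) e)).trans hz

/-- Comparison of a twisted extension with a map agreeing with it on the base. -/
theorem foc_diff {Q' : Subgroup Ω} (hQ' : Q' ≤ S)
    {A : MulAut (ctr S Q')} (hA : A ∈ F.autGroup (ctr S Q')) {α : MulAut Q'}
    (hAα : ∀ x : Q', ((A ⟨x, le_ctr S Q' x.2⟩ : _) : Ω) = ((α x : Q') : Ω))
    (hAf : ∀ y ∈ (centralizerSystem F Q' hQ').focalSubgroup, ∀ h : y ∈ ctr S Q',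
      A ⟨y, h⟩ = ⟨y, h⟩)
    {Z : Subgroup Ω} (hQZ : Q' ≤ Z) (hZ : Z ≤ ctr S Q') {c : Z →* Ω} (hc : c ∈ F.Hom Z)
    (hcQ : ∀ x : Q', c ⟨x, hQZ x.2⟩ = ((α x : Q') : Ω))
    {w : Z} (hw : (w : Ω) ∈ centralizerIn S Q') :
    ∃ h : (c w)⁻¹ * ((A ⟨w, hZ w.2⟩ : _) : Ω) ∈ ctr S Q', A ⟨_, h⟩ = ⟨_, h⟩ := by
  obtain ⟨d, hd, hdr, hdl, hdl'⟩ := exists_inv F hc rfl
  have hm : ∀ y, d y ∈ ctr S Q' := fun y => hZ (hdr.le ⟨y, rfl⟩)
  let κ := compose d (autHom A) hm
  have hκ : κ ∈ F.Hom c.range := compose_mem F hd (autHom_mem F (ctr_le hQ') hA) hm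
  have hQc : Q' ≤ c.range := fun x hx =>
    ⟨⟨(α.symm ⟨x, hx⟩ : Q'), hQZ (SetLike.coe_mem _)⟩, by rw [hcQ, MulEquiv.apply_symm_apply]⟩
  have hκv : ∀ (z : Z) (y : c.range), (y : Ω) = c z →
      κ y = ((A ⟨z, hZ z.2⟩ : _) : Ω) := by
    intro z y hy
    rw [show y = ⟨c z, ⟨z, rfl⟩⟩ from Subtype.ext hy]
    show ((A ⟨d ⟨c z, _⟩, _⟩ : _) : Ω) = _
    simp only [hdl z ⟨z, rfl⟩]
  have hAw : ((A ⟨w, hZ w.2⟩ : _) : Ω) ∈ centralizerIn S Q' := by
    refine mem_centralizerIn_iff_conj.2 ⟨ctr_le hQ' (A _).2, fun x hx => ?_⟩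
    obtain ⟨x₀, hx₀⟩ := α.surjective ⟨x, hx⟩
    have e : (⟨(w : Ω), hZ w.2⟩ : ctr S Q') * ⟨x₀, le_ctr S Q' x₀.2⟩ * ⟨w, hZ w.2⟩⁻¹ =
        ⟨x₀, le_ctr S Q' x₀.2⟩ :=
      Subtype.ext ((mem_centralizerIn_iff_conj.1 hw).2 x₀ x₀.2)
    have h1 := congrArg (fun z => ((A z : _) : Ω)) e
    simp only [map_mul, map_inv, Subgroup.coe_mul, Subgroup.coe_inv, hAα x₀, hx₀] at h1
    exact h1
  have hcw : c w ∈ centralizerIn S Q' := by
    refine mem_centralizerIn_iff_conj.2 ⟨apply_mem hc w, fun x hx => ?_⟩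
    obtain ⟨x₀, hx₀⟩ := α.surjective ⟨x, hx⟩
    have e : w * ⟨x₀, hQZ x₀.2⟩ * w⁻¹ = ⟨x₀, hQZ x₀.2⟩ :=
      Subtype.ext ((mem_centralizerIn_iff_conj.1 hw).2 x₀ x₀.2)
    have h1 := congrArg c e
    simp only [map_mul, map_inv, hcQ x₀, hx₀] at h1
    exact h1
  set Q₂ := Subgroup.zpowers (c w) with hQ₂
  have hQ₂c : Q₂ ≤ c.range := Subgroup.zpowers_le.2 ⟨w, rfl⟩
  have hle : Q₂ ⊔ Q' ≤ c.range := sup_le hQ₂c hQc
  have hQ₂C : Q₂ ≤ centralizerIn S Q' := Subgroup.zpowers_le.2 hcw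
  have hgen : ∀ y : Q₂, restr hQ₂c κ y ∈ centralizerIn S Q' := by
    intro y
    have h1 : (restr hQ₂c κ).range ≤ centralizerIn S Q' := by
      rw [range_restr]
      rintro _ ⟨z, ⟨j, hj⟩, rfl⟩
      have hz : z = (⟨c w, ⟨w, rfl⟩⟩ : c.range) ^ j := Subtype.ext (by
        rw [Subgroup.coe_zpow]; exact hj.symm)
      rw [hz, map_zpow, hκv w _ rfl]
      exact Subgroup.zpow_mem _ hAw j
    exact h1 ⟨y, rfl⟩
  have hmem : restr hQ₂c κ ∈ (centralizerSystem F Q' hQ').Hom Q₂ := by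
    refine ⟨restr_mem F hκ _, hQ₂C, hgen, restr hle κ, restr_mem F hκ hle, fun _ => rfl, ?_⟩
    intro x
    refine (hκv ⟨(α.symm x : Q'), hQZ (SetLike.coe_mem _)⟩ _ ?_).trans ?_
    · rw [hcQ, MulEquiv.apply_symm_apply]
      rfl
    · rw [hAα, MulEquiv.apply_symm_apply]
  have hval : (c w)⁻¹ * ((A ⟨w, hZ w.2⟩ : _) : Ω) ∈
      (centralizerSystem F Q' hQ').focalSubgroup :=
    Subgroup.subset_closure ⟨Q₂, _, ⟨c w, Subgroup.mem_zpowers _⟩, hmem,
      congrArg (fun z => (c w)⁻¹ * z) (hκv w _ rfl).symm⟩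
  have hC : (c w)⁻¹ * ((A ⟨w, hZ w.2⟩ : _) : Ω) ∈ ctr S Q' :=
    Subgroup.mem_sup_right (Subgroup.mul_mem _ (Subgroup.inv_mem _ hcw) hAw)
  exact ⟨hC, hAf _ hval hC⟩

/-- Powers of an automorphism fixing its own displacement. -/
theorem pow_apply_of_fix {G : Type*} [Group G] {a : MulAut G} {x : G}
    (h : a (x⁻¹ * a x) = x⁻¹ * a x) (k : ℕ) : (a ^ k) x = x * (x⁻¹ * a x) ^ k := by
  have e : a x = x * (x⁻¹ * a x) := (mul_inv_cancel_left _ _).symm
  generalize x⁻¹ * a x = w at h e ⊢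
  induction k with
  | zero => simp
  | succ k ih => rw [pow_succ', MulAut.mul_apply, ih, map_mul, map_pow, h, e, mul_assoc, ← pow_succ']

theorem pow_card_ctr {Q' : Subgroup Ω} (hQ' : Q' ≤ S) (y : ctr S Q') : y ^ Nat.card S = 1 :=
  Subtype.ext (by
    have h : (⟨y, ctr_le hQ' y.2⟩ : S) ^ Nat.card S = 1 := pow_card_eq_one'
    rw [SubmonoidClass.coe_pow]
    exact congrArg Subtype.val h)

/-- The automorphisms of a centric subgroup, and twisted extensions of their powers at a fully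
normalized conjugate. -/
theorem exists_twist_pow (hS : IsPGroup p S) (hE : E.IsNormalIn F p) {Q Q' : Subgroup Ω}
    (hQ : E.IsCentric Q) (hQ' : F.IsFullyNormalized Q') {β : normalizerIn S Q →* Ω}
    (hβ : β ∈ F.Hom (normalizerIn S Q)) (himg : img β Q = Q') {g : MulAut Q}
    (hg : g ∈ E.autGroup Q) :
    ∃ A ∈ F.autGroup (ctr S Q'), ∃ α : MulAut Q',
      (∀ x : Q', ((A ⟨x, le_ctr S Q' x.2⟩ : _) : Ω) = ((α x : Q') : Ω)) ∧
      (∀ (x : Q) (h : (x : Ω) ∈ normalizerIn S Q)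
        (h' : (((g ^ Nat.card S) x : Q) : Ω) ∈ normalizerIn S Q) (hx : β ⟨x, h⟩ ∈ Q'),
        ((α ⟨β ⟨x, h⟩, hx⟩ : Q') : Ω) = β ⟨_, h'⟩) ∧
      (∀ y ∈ (centralizerSystem F Q' hQ'.1).focalSubgroup, ∀ h : y ∈ ctr S Q',
        A ⟨y, h⟩ = ⟨y, h⟩) := by
  have W : WNData p F E := ⟨hS, hE.1.2.1, hE.1.1, hE.1.2.2⟩
  have hQS := hQ.1.trans W.le
  have hcF := restr_mem F hβ (le_normalizerIn hQS)
  have hr : (restr (le_normalizerIn hQS) β).range = Q' := (range_restr _ _).trans himg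
  set i := isoOf _ (F.injective_of_mem hcF) hr
  have hQ'c := isCentric_img W hQ ⟨_, hcF, hr⟩
  have hg' := congr_mem_of_invariant W.inv hQ.1 hcF hr hg
  obtain ⟨a, ha, ha₁, ha₂⟩ := autGroup_le_twistSub hS hE hQ'c hg'
  have hfix := fix_focal hS W.saturated (IsSaturated.fullyCentralized hS W.saturated hQ') ha ha₂
  set k := Nat.card S
  set α := MulAut.congr i g with hα
  have hak : ∀ (j : ℕ) (x : Q'),
      (((a ^ j) ⟨x, le_ctr S Q' x.2⟩ : _) : Ω) = (((α ^ j) x : Q') : Ω) := by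
    intro j
    induction j with
    | zero => intro x; rfl
    | succ j ih =>
      intro x
      rw [pow_succ', pow_succ', MulAut.mul_apply, MulAut.mul_apply,
        show (a ^ j) ⟨x, le_ctr S Q' x.2⟩ = ⟨(α ^ j) x, le_ctr S Q' ((α ^ j) x).2⟩
          from Subtype.ext (ih x)]
      exact ha₁ _
  refine ⟨a ^ k, pow_mem ha k, α ^ k, hak k, fun x h h' hx => ?_, hfix⟩
  rw [hα, ← map_pow]
  show ((i ((g ^ k) (i.symm ⟨β ⟨x, h⟩, hx⟩)) : Q') : Ω) = _
  have e : (⟨β ⟨x, h⟩, hx⟩ : Q') = i x := Subtype.ext rfl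
  rw [e, MulEquiv.symm_apply_apply]
  rfl

/-- The join of the centralizing subgroups centralizes. -/
theorem centX_sSup (hS : IsPGroup p S) (hE : E.IsNormalIn F p) :
    CentX F E (sSup {X | CentX F E X}) := by
  have W : WNData p F E := ⟨hS, hE.1.2.1, hE.1.1, hE.1.2.2⟩
  have := W.finite
  have hTS := W.le
  set C := sSup {X | CentX F E X} with hC
  have hCT : C ≤ centralizerIn S T := sSup_le fun X hX => hX.1
  have hCS : C ≤ S := hCT.trans (centralizerIn_le S T)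
  have hTC := le_centralizerIn_of_centX hTS hCT
  refine ⟨hCT, fun P φ hφ => ?_⟩
  refine (alperin W.pgroupT W.satE (centralizingSystem E F C hCS hTC) (fun Q hQ => ?_) P hφ).2
  have hQn : E.IsFullyNormalized Q := by
    rcases hQ with rfl | hess
    · exact isFullyNormalized_top E
    · exact hess.2.1
  have hQc : E.IsCentric Q := by
    rcases hQ with rfl | hess
    · exact isCentric_self E
    · exact hess.1
  have hQS := hQc.1.trans hTS
  obtain ⟨Q', hQQ', hQ'⟩ := exists_fullyNormalized F hQS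
  obtain ⟨β, hβ, hβN, himg⟩ := IsSaturated.exists_normalizer_map hS W.saturated hQ' hQQ'
  have := finite_mulAut (P := Q) hQc.1
  set A := E.autGroup Q with hA
  obtain ⟨⟨-, R, hR⟩, -⟩ := IsSaturated.automized_receptive W.pgroupT W.satE hQn
  set Wsub := ((centralizingSystem E F C hCS hTC).autGroup Q).subgroupOf A with hWsub
  have hRW : (R : Subgroup A) ≤ Wsub := by
    rw [hR]
    exact fun g hg => autInducedBy_le_autGroup (centralizingSystem E F C hCS hTC) hQc.1 hg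
  obtain ⟨m, hm⟩ : ∃ m, Nat.card S = p ^ m := IsPGroup.iff_card.1 hS
  have htop : Wsub = ⊤ := eq_top_of_pow_mem Wsub R hRW (m := m + m) fun g => by
    set k := Nat.card S
    obtain ⟨a, ha, α, haα, hαg, hfix⟩ := exists_twist_pow hS hE hQc hQ' hβ himg g.2
    have hCN : centralizerIn S T ≤ normalizerIn S Q :=
      (centralizerIn_mono hQc.1).trans (centralizerIn_le_normalizerIn S Q)
    have hβC : ∀ c : normalizerIn S Q, (c : Ω) ∈ centralizerIn S T →
        β c ∈ centralizerIn S Q' := by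
      intro c hc
      refine mem_centralizerIn_iff_conj.2 ⟨apply_mem hβ c, fun z hz => ?_⟩
      rw [← himg] at hz
      obtain ⟨z, hzN, hzQ, rfl⟩ := mem_img.1 hz
      rw [← map_inv, ← map_mul, ← map_mul]
      exact congrArg β (Subtype.ext ((mem_centralizerIn_iff_conj.1 hc).2 z (hQc.1 hzQ)))
    have hQN : Q ≤ normalizerIn S Q := le_normalizerIn hQS
    -- `a ^ k` fixes the image of every centralizing subgroup
    have hfixC : ∀ y : normalizerIn S Q, (y : Ω) ∈ C → ∀ h : β y ∈ ctr S Q',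
        (a ^ k) ⟨β y, h⟩ = ⟨β y, h⟩ := by
      let K : Subgroup (ctr S Q') := MonoidHom.eqLocus (a ^ k).toMonoidHom (MonoidHom.id _)
      suffices hsub : C ≤ ((K.map (ctr S Q').subtype).comap β).map (normalizerIn S Q).subtype by
        intro y hy h
        obtain ⟨z, hz, hzy⟩ := hsub hy
        obtain ⟨w, hw, hwz⟩ := hz
        have e : (⟨β y, h⟩ : ctr S Q') = w :=
          Subtype.ext ((congrArg β (Subtype.ext (a1 := y) (a2 := z) hzy.symm)).trans hwz.symm)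
        rw [e]
        exact hw
      refine sSup_le fun X hX => ?_
      intro x hx
      have hxN := hCN (hX.1 hx)
      refine ⟨⟨x, hxN⟩, ?_, rfl⟩
      have hgk : autHom ((g : MulAut Q) ^ k) ∈ E.Hom Q := autHom_mem E hQc.1 (pow_mem g.2 k)
      set Y := Q ⊔ X with hY
      obtain ⟨-, -, -, b, hb, hext, hfx⟩ := hX.2 _ hgk
      have hYN : Y ≤ normalizerIn S Q := sup_le hQN (hX.1.trans hCN)
      set β₁ := restr hYN β
      have hβ₁ : β₁ ∈ F.Hom Y := restr_mem F hβ hYN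
      obtain ⟨d, hd, hdr, hdl, hdl'⟩ := exists_inv F hβ₁ rfl
      have hdY : ∀ y, d y ∈ Y := fun y => hdr.le ⟨y, rfl⟩
      have hbY : ∀ y, b y ∈ normalizerIn S Q := by
        intro y
        have h1 : b.range ≤ normalizerIn S Q := by
          rw [← img_self, img_sup b le_sup_left le_sup_right]
          refine sup_le ?_ ?_
          · rintro _ ⟨⟨z, h⟩, hz, rfl⟩
            exact (congrArg (· ∈ normalizerIn S Q) (hext ⟨z, hz⟩)).mpr (hQN (SetLike.coe_mem _))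
          · rintro _ ⟨⟨z, h⟩, hz, rfl⟩
            exact (congrArg (· ∈ normalizerIn S Q) (hfx ⟨z, hz⟩)).mpr (hCN (hX.1 hz))
        exact h1 ⟨y, rfl⟩
      let c := compose (compose d b hdY) β (fun y => hbY _)
      have hc : c ∈ F.Hom β₁.range := compose_mem F (compose_mem F hd hb hdY) hβ _
      have hcv : ∀ (z : Y) (y : β₁.range), (y : Ω) = β₁ z → c y = β ⟨b z, hbY z⟩ := by
        intro z y hy
        rw [show y = ⟨β₁ z, ⟨z, rfl⟩⟩ from Subtype.ext hy]
        show β ⟨b ⟨d ⟨β₁ z, _⟩, _⟩, _⟩ = _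
        simp only [hdl z ⟨z, rfl⟩]
        rfl
      have hQZ : Q' ≤ β₁.range := by
        rw [range_restr, ← himg]
        exact img_mono β le_sup_left
      have hZ : β₁.range ≤ ctr S Q' := by
        rw [range_restr, img_sup β hQN (hX.1.trans hCN), himg]
        refine sup_le_sup_left ?_ _
        rintro _ ⟨z, hz, rfl⟩
        exact hβC z (hX.1 hz)
      have hw : β ⟨x, hxN⟩ ∈ centralizerIn S Q' := hβC _ (hX.1 hx)
      have hwr : β ⟨x, hxN⟩ ∈ β₁.range := ⟨⟨x, Subgroup.mem_sup_right hx⟩, rfl⟩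
      obtain ⟨h1, h2⟩ := foc_diff hQ'.1 ha haα hfix hQZ hZ hc (fun z => by
        obtain ⟨q, hqN, hq, hqz⟩ := mem_img.1 (himg.ge z.2)
        have e1 := hαg ⟨q, hq⟩ hqN (hQN (SetLike.coe_mem _)) (hqz.symm ▸ z.2)
        rw [show (⟨β ⟨q, hqN⟩, hqz.symm ▸ z.2⟩ : Q') = z from Subtype.ext hqz] at e1
        rw [e1]
        refine (hcv ⟨q, Subgroup.mem_sup_left hq⟩ _ hqz.symm).trans ?_
        exact congrArg β (Subtype.ext (hext ⟨q, hq⟩))) (w := ⟨_, hwr⟩) hw
      have hcw : c ⟨_, hwr⟩ = β ⟨x, hxN⟩ :=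
        (hcv ⟨x, Subgroup.mem_sup_right hx⟩ _ rfl).trans (congrArg β (Subtype.ext (hfx ⟨x, hx⟩)))
      let v : ctr S Q' := ⟨β ⟨x, hxN⟩, hZ hwr⟩
      have hv : a (v⁻¹ * a v) = v⁻¹ * a v := by
        rw [show v⁻¹ * a v = ⟨_, h1⟩ from Subtype.ext (congrArg (fun z => z⁻¹ * _) hcw.symm)]
        exact h2
      refine ⟨v, ?_, rfl⟩
      show (a ^ k) v = v
      rw [pow_apply_of_fix hv, pow_card_ctr hQ'.1, mul_one]
    have hYN : Q ⊔ C ≤ normalizerIn S Q := sup_le hQN (hCT.trans hCN)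
    set β' := restr hYN β with hβ'
    have hβ'F : β' ∈ F.Hom (Q ⊔ C) := restr_mem F hβ hYN
    have hm1 : ∀ y, β' y ∈ ctr S Q' := by
      intro y
      have h1 : β'.range ≤ ctr S Q' := by
        rw [range_restr, img_sup β hQN (hCT.trans hCN), himg]
        refine sup_le_sup_left ?_ _
        rintro _ ⟨z, hz, rfl⟩
        exact hβC z (hCT hz)
      exact h1 ⟨y, rfl⟩
    set τ : MulAut Q := (g : MulAut Q) ^ (k * k) with hτ
    have hτE : τ ∈ A := pow_mem g.2 _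
    have haQ : ∀ (j : ℕ) (x : Q) (h : β ⟨x, hQN x.2⟩ ∈ ctr S Q'),
        (((a ^ j) ⟨β ⟨x, hQN x.2⟩, h⟩ : _) : Ω) =
          β ⟨((((g : MulAut Q) ^ k) ^ j) x : Q), hQN (SetLike.coe_mem _)⟩ := by
      intro j
      induction j with
      | zero => intro x h; rfl
      | succ j ih =>
        intro x h
        have hmem : ∀ y : Q, β ⟨y, hQN y.2⟩ ∈ Q' := fun y =>
          himg.le (apply_mem_img β ⟨y, hQN y.2⟩ y.2)
        rw [pow_succ', pow_succ', MulAut.mul_apply, MulAut.mul_apply,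
          show (a ^ j) ⟨β ⟨x, hQN x.2⟩, h⟩ =
            ⟨β ⟨((((g : MulAut Q) ^ k) ^ j) x : Q), hQN (SetLike.coe_mem _)⟩,
              le_ctr S Q' (hmem _)⟩ from Subtype.ext (ih x h)]
        exact (haα ⟨_, hmem _⟩).trans (hαg _ _ _ _)
    let e := compose β' (autHom (a ^ k)) hm1
    have he : e ∈ F.Hom (Q ⊔ C) :=
      compose_mem F hβ'F (autHom_mem F (ctr_le hQ'.1) (pow_mem ha k)) hm1
    have heQ : ∀ (z : Ω) (hz : z ∈ Q) (h : z ∈ Q ⊔ C),
        e ⟨z, h⟩ = β' ⟨τ ⟨z, hz⟩, Subgroup.mem_sup_left (τ _).2⟩ := fun z hz h => by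
      refine (haQ k ⟨z, hz⟩ _).trans ?_
      exact congrArg β (Subtype.ext (by rw [hτ, pow_mul]; rfl))
    have heX : ∀ (z : Ω) (hz : z ∈ C) (h : z ∈ Q ⊔ C), e ⟨z, h⟩ = β' ⟨z, h⟩ := fun z hz h =>
      congrArg Subtype.val (hfixC ⟨z, hYN h⟩ hz _)
    have hm2 : ∀ y, e y ∈ β'.range := by
      intro y
      have h1 : e.range ≤ β'.range := by
        rw [← img_self, img_sup e le_sup_left le_sup_right]
        refine sup_le ?_ ?_
        · rintro _ ⟨⟨z, h⟩, hz, rfl⟩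
          exact ⟨_, (heQ z hz h).symm⟩
        · rintro _ ⟨⟨z, h⟩, hz, rfl⟩
          exact ⟨_, (heX z hz h).symm⟩
      exact h1 ⟨y, rfl⟩
    obtain ⟨d, hd, -, hdl, -⟩ := exists_inv F hβ'F rfl
    refine Subgroup.mem_subgroupOf.2 ?_
    show ((g ^ p ^ (m + m) : A) : MulAut Q) ∈ _
    rw [SubmonoidClass.coe_pow, pow_add, ← hm]
    refine mem_autGroup_of_hom _ ⟨autHom_mem E hQc.1 hτE, autHom_mem F hQS
      (autGroup_le_of_isSubsystemOf W.inv.1 hQc.1 hτE), hQc.1.trans hTC,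
      fun z => hTC (hQc.1 (τ z).2), compose e d hm2, compose_mem F he hd hm2, fun z => ?_,
      fun z => ?_⟩
    · show d ⟨e ⟨z, _⟩, _⟩ = _
      simp only [heQ z z.2]
      exact hdl _ _
    · show d ⟨e ⟨z, _⟩, _⟩ = _
      simp only [heX z z.2]
      exact hdl _ _
  exact fun g hg => Subgroup.mem_subgroupOf.1
    (htop ▸ Subgroup.mem_top (⟨g, hg⟩ : A) : (⟨g, hg⟩ : A) ∈ Wsub)

/-- The same inside a saturated subsystem containing `E`. -/
theorem isCentric_inf_sub (W : WNData p F E) {U : Subgroup Ω} {G : FusionSystem U} (hUS' : U ≤ S)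
    (hTU : T ≤ U) (hGs : G.IsSaturated p) (hGF : G.IsSubsystemOf F) (hEG : E.IsSubsystemOf G)
    {R : Subgroup Ω} (hRc : G.IsCentric R)
    (hRr : G.IsRadical p R) : E.IsCentric (R ⊓ T) := by
  have := W.finite
  have hUS := hUS'
  have := finite_of_le hUS
  have hUp := W.pgroup.to_le hUS
  have hTc : G.StronglyClosed T := ⟨hTU, fun Q hQ φ hφ x => W.inv.2.1.2 Q hQ φ (hGF Q hφ) x⟩
  have hRS := hRc.1
  have := finite_of_le hRS
  have hcl := hTc
  set P := R ⊓ T with hP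
  have hPS : P ≤ U := inf_le_left.trans hRS
  have hRP : ∀ r ∈ R, r ∈ Subgroup.normalizer (P : Set Ω) := by
    intro r hr
    have := finite_of_le hPS
    exact mem_normalizer_of_finite fun x hx =>
      ⟨R.mul_mem (R.mul_mem hr hx.1) (R.inv_mem hr), W.conj_mem (hUS (hRS hr)) hx.2⟩
  obtain ⟨P', hPP', hP'⟩ := exists_fullyNormalized G hPS
  obtain ⟨β, hβ, hβN, himg⟩ := IsSaturated.exists_normalizer_map hUp hGs hP' hPP'
  have hRN : R ≤ normalizerIn U P := fun r hr => mem_normalizerIn.2 ⟨hRS hr, hRP r hr⟩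
  set R' := img β R with hR'
  have hbR : restr hRN β ∈ G.Hom R := restr_mem G hβ hRN
  have hbr : (restr hRN β).range = R' := range_restr hRN β
  set i := isoOf _ (G.injective_of_mem hbR) hbr with hi
  have hR'U : R' ≤ U := hbr ▸ range_le hbR
  have := finite_of_le hR'U
  have hP'T : P' ≤ T := by
    rw [← himg]
    rintro _ ⟨x, hx, rfl⟩
    exact StronglyClosed.map_mem hcl hβ x hx.2
  have hP'R : P' ≤ R' := himg ▸ img_mono β inf_le_left
  -- `C_T(P') ≤ P'`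
  have key : ∀ t ∈ centralizerIn T P', t ∈ Subgroup.normalizer (R' : Set Ω) → t ∈ P' := by
    intro t ht htn
    have htS := hTU ht.1
    set γ : MulAut R := MulAut.congr i.symm (conjAut htn) with hγ
    have hγF : γ ∈ G.autGroup R := by
      obtain ⟨c, hc, hcr, he⟩ := isoOf_symm_eq G hbR hbr
      rw [hγ, hi, ← he]
      exact exists_mulAut_congr G hc hcr (conjAut_mem_autGroup G hR'U htS htn)
    have hγv : ∀ r : R, ((i (γ r) : R') : Ω) = t * ((i r : R') : Ω) * t⁻¹ := by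
      intro r
      show ((i (i.symm (conjAut htn (i r))) : R') : Ω) = _
      rw [MulEquiv.apply_symm_apply]
      rfl
    -- the stabilizer of `P` modulo `P`
    let K : Subgroup (G.autGroup R) :=
      { carrier := {a | (∀ r : R, (r : Ω) ∈ P → (a : MulAut R) r = r) ∧
          ∀ r : R, (r : Ω)⁻¹ * (((a : MulAut R) r : R) : Ω) ∈ P}
        one_mem' := ⟨fun _ _ => rfl, fun r => by simp⟩
        mul_mem' := fun {a b} ha hb => ⟨fun r hr => by
            rw [Subgroup.coe_mul, MulAut.mul_apply, hb.1 r hr, ha.1 r hr],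
          fun r => by
            have h := P.mul_mem (hb.2 r) (ha.2 ((b : MulAut R) r))
            rw [Subgroup.coe_mul, MulAut.mul_apply]
            rwa [show (r : Ω)⁻¹ * (((b : MulAut R) r : R) : Ω) *
              ((((b : MulAut R) r : R) : Ω)⁻¹ * (((a : MulAut R) ((b : MulAut R) r) : R) : Ω)) =
              (r : Ω)⁻¹ * (((a : MulAut R) ((b : MulAut R) r) : R) : Ω) by group] at h⟩
        inv_mem' := fun {a} ha => ⟨fun r hr => by
            rw [Subgroup.coe_inv, MulAut.inv_apply, MulEquiv.symm_apply_eq, ha.1 r hr],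
          fun r => by
            have h := P.inv_mem (ha.2 ((a : MulAut R)⁻¹ r))
            rw [MulAut.inv_apply, MulEquiv.apply_symm_apply] at h
            rw [Subgroup.coe_inv, MulAut.inv_apply]
            rwa [mul_inv_rev, inv_inv] at h⟩ }
    have hstab : ∀ a : G.autGroup R, ∀ r : R, (r : Ω) ∈ P → (((a : MulAut R) r : R) : Ω) ∈ P :=
      fun a r hr => ⟨SetLike.coe_mem _, StronglyClosed.map_mem hcl (autHom_mem G hRS a.2) r hr.2⟩
    haveI : K.Normal := ⟨fun b hb g => ⟨fun r hr => by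
        have h1 := hstab g⁻¹ r hr
        rw [Subgroup.coe_inv] at h1
        rw [Subgroup.coe_mul, Subgroup.coe_mul, Subgroup.coe_inv, MulAut.mul_apply,
          MulAut.mul_apply, hb.1 _ h1, MulAut.inv_apply, MulEquiv.apply_symm_apply],
      fun r => by
        obtain ⟨w, rfl⟩ := (g : MulAut R).surjective r
        rw [Subgroup.coe_mul, Subgroup.coe_mul, Subgroup.coe_inv, MulAut.mul_apply,
          MulAut.mul_apply, MulAut.inv_apply, MulEquiv.symm_apply_apply]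
        have h1 : (((g : MulAut R) w : R) : Ω)⁻¹ * (((g : MulAut R) ((b : MulAut R) w) : R) : Ω) =
            (((g : MulAut R) (w⁻¹ * (b : MulAut R) w) : R) : Ω) := by
          rw [map_mul, map_inv]
          rfl
        rw [h1]
        exact hstab g _ (hb.2 w)⟩⟩
    have := finite_mulAut (P := R) hRS
    have hKp : IsPGroup p K := by
      obtain ⟨m, hm⟩ : ∃ m, Nat.card R = p ^ m := IsPGroup.iff_card.1 (hUp.to_le hRS)
      rintro ⟨⟨b, hbF⟩, hb₁, hb₂⟩
      refine ⟨m, Subtype.ext (Subtype.ext (MulEquiv.ext fun x => ?_))⟩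
      show (b ^ p ^ m) x = x
      have hfx : b (x⁻¹ * b x) = x⁻¹ * b x := hb₁ _ (hb₂ x)
      rw [pow_apply_of_fix hfx, ← hm, pow_card_eq_one', mul_one]
    have hmem : (⟨γ, hγF⟩ : G.autGroup R) ∈ K := by
      refine ⟨fun r hr => i.injective (Subtype.ext ?_), fun r => ?_⟩
      · show ((i (γ r) : R') : Ω) = _
        rw [hγv]
        have hrP : ((i r : R') : Ω) ∈ P' := himg.le ⟨⟨r, hRN r.2⟩, hr, rfl⟩
        exact (mem_centralizerIn_iff_conj.1 ht).2 _ hrP
      · have h1 : ((i r : R') : Ω)⁻¹ * ((i (γ r) : R') : Ω) ∈ P' := by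
          have h2 : ((i r : R') : Ω)⁻¹ * ((i (γ r) : R') : Ω) ∈ R' ⊓ T := by
            refine ⟨R'.mul_mem (R'.inv_mem (SetLike.coe_mem _)) (SetLike.coe_mem _), ?_⟩
            rw [hγv, show ((i r : R') : Ω)⁻¹ * (t * ((i r : R') : Ω) * t⁻¹) =
              ((i r : R') : Ω)⁻¹ * t * ((i r : R') : Ω)⁻¹⁻¹ * t⁻¹ by group]
            exact T.mul_mem (W.conj_mem (hUS (U.inv_mem (hR'U (SetLike.coe_mem _)))) ht.1) (T.inv_mem ht.1)
          obtain ⟨y, hy, hyx⟩ := mem_img.1 h2.1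
          have hyT : y ∈ T := (StronglyClosed.map_mem_iff hcl hβ ⟨y, hy⟩).1
            (by rw [show β ⟨y, hy⟩ = _ from hyx.2]; exact h2.2)
          rw [← hyx.2]
          exact himg.le ⟨⟨y, hy⟩, ⟨hyx.1, hyT⟩, rfl⟩
        rw [← himg] at h1
        obtain ⟨y, hyN, hyP, hy⟩ := mem_img.1 h1
        have e : (r⁻¹ * γ r : R) = ⟨y, hyP.1⟩ := i.injective (Subtype.ext (by
          rw [map_mul, map_inv, Subgroup.coe_mul, Subgroup.coe_inv]
          exact hy.symm))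
        rw [show (r : Ω)⁻¹ * ((γ r : R) : Ω) = ((r⁻¹ * γ r : R) : Ω) from rfl, e]
        exact hyP
    have h1 : γ ∈ Inn R := hRr.2 ▸ ⟨_, le_pCore_of_normal hKp hmem, rfl⟩
    rw [inn_eq_autInducedBy] at h1
    obtain ⟨r, hr, hre⟩ := mem_autInducedBy.1 h1
    -- `t` differs from the image of `r` by a central element
    have h2 : t⁻¹ * ((i ⟨r, hr⟩ : R') : Ω) ∈ R' := by
      refine hRc.2 R' ⟨_, hbR, hbr⟩ (mem_centralizerIn_iff_conj.2 ⟨U.mul_mem (U.inv_mem htS)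
        (hR'U (SetLike.coe_mem _)), fun y hy => ?_⟩)
      obtain ⟨u, hu⟩ := i.surjective ⟨y, hy⟩
      have h3 := hγv u
      have h4 : γ u = ⟨r, hr⟩ * u * ⟨r, hr⟩⁻¹ := Subtype.ext (hre u)
      rw [h4, map_mul, map_mul, map_inv, Subgroup.coe_mul, Subgroup.coe_mul, Subgroup.coe_inv,
        hu] at h3
      generalize ((i ⟨r, hr⟩ : R') : Ω) = s at h3 ⊢
      calc t⁻¹ * s * y * (t⁻¹ * s)⁻¹ = t⁻¹ * (s * y * s⁻¹) * t := by group
        _ = t⁻¹ * (t * y * t⁻¹) * t := by rw [h3]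
        _ = y := by group
    have htR : t ∈ R' := by
      have := R'.mul_mem (SetLike.coe_mem (i ⟨r, hr⟩)) (R'.inv_mem h2)
      rwa [show ((i ⟨r, hr⟩ : R') : Ω) * (t⁻¹ * ((i ⟨r, hr⟩ : R') : Ω))⁻¹ = t by group] at this
    obtain ⟨y, hy, hyx⟩ := mem_img.1 htR
    have hyT : y ∈ T := (StronglyClosed.map_mem_iff hcl hβ ⟨y, hy⟩).1
      (by rw [show β ⟨y, hy⟩ = t from hyx.2]; exact ht.1)
    rw [← hyx.2]
    exact himg.le ⟨⟨y, hy⟩, ⟨hyx.1, hyT⟩, rfl⟩
  -- a normalizer argument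
  have hle : centralizerIn T P' ≤ P' := by
    set Q := centralizerIn T P' with hQ
    have hQS : Q ≤ U := (centralizerIn_le T P').trans hTU
    have hQn : ∀ r ∈ R', ∀ q ∈ Q, r * q * r⁻¹ ∈ Q := by
      intro r hr q hq
      have hrn : r ∈ Subgroup.normalizer (P' : Set Ω) := by
        obtain ⟨y, hy, -, rfl⟩ := mem_img.1 hr
        exact (hβN ⟨y, hy⟩).2
      refine ⟨W.conj_mem (hUS (hR'U hr)) hq.1, (normalizer_centralizerIn (hR'U hr) hrn
        (c := q) ⟨hTU hq.1, hq.2⟩).2⟩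
    have hXS : R' ⊔ Q ≤ U := sup_le hR'U hQS
    by_contra hn
    have hne : R' < R' ⊔ Q := lt_of_le_of_ne le_sup_left fun e => hn fun q hq => by
      have hqR : q ∈ R' := e ▸ Subgroup.mem_sup_right hq
      exact key q hq (Subgroup.le_normalizer hqR)
    have := finite_of_le hXS
    have hlt := lt_normalizerIn (hUp.to_le hXS) hne
    obtain ⟨x, hx, hxR⟩ := SetLike.exists_of_lt hlt
    -- split `x = r q`
    let X : Subgroup ↥(R' ⊔ Q) :=
      (R'.subgroupOf (R' ⊔ Q)) ⊔ (Q.subgroupOf (R' ⊔ Q))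
    haveI hQN : (Q.subgroupOf (R' ⊔ Q)).Normal := by
      refine (Subgroup.normal_subgroupOf_iff le_sup_right).2 fun q y hq hy => ?_
      have h1 : R' ⊔ Q ≤ Subgroup.normalizer (Q : Set Ω) := by
        have := finite_of_le hQS
        exact sup_le (fun r hr => mem_normalizer_of_finite (hQn r hr)) Subgroup.le_normalizer
      exact conj_mem_of_mem_normalizer (h1 hy) hq
    have hX : (⟨x, hx.1⟩ : ↥(R' ⊔ Q)) ∈ X := by
      have : X = ⊤ := by
        show R'.subgroupOf (R' ⊔ Q) ⊔ Q.subgroupOf (R' ⊔ Q) = ⊤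
        rw [← Subgroup.subgroupOf_sup le_sup_left le_sup_right]
        exact Subgroup.subgroupOf_self _
      rw [this]
      exact Subgroup.mem_top _
    obtain ⟨r, hr, q, hq, hrq⟩ := Subgroup.mem_sup_of_normal_right.1 hX
    have e : x = (r : Ω) * (q : Ω) := (congrArg Subtype.val hrq).symm
    have hqn : (q : Ω) ∈ Subgroup.normalizer (R' : Set Ω) := by
      have h1 : (r : Ω)⁻¹ * x ∈ Subgroup.normalizer (R' : Set Ω) :=
        mul_mem (inv_mem (Subgroup.le_normalizer hr)) hx.2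
      rwa [e, inv_mul_cancel_left] at h1
    exact hxR (e ▸ R'.mul_mem hr (hP'R (key _ hq hqn)))
  have hP'c : E.IsCentric P' := by
    refine isCentric_of_fullyCentralized ?_ hle
    exact isFullyCentralized_subsystem hUp hGs hcl E hEG hP'T
      (IsSaturated.fullyCentralized hUp hGs hP')
  obtain ⟨f, hf, hfr⟩ := isConj_symm hPP'
  exact isCentric_img W hP'c ⟨f, hGF _ hf, hfr⟩

/-- Automorphisms of a centric radical subgroup meet `T` in a centric subgroup of `E`. -/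
theorem isCentric_inf_base (W : WNData p F E) {R : Subgroup Ω} (hRc : F.IsCentric R)
    (hRr : F.IsRadical p R) : E.IsCentric (R ⊓ T) := by
  exact isCentric_inf_sub W le_rfl W.le W.saturated (fun _ _ h => h) W.inv.1 hRc hRr

/-- The maps respecting `C`. -/
def respectSystem (F : FusionSystem S) (C : Subgroup Ω)
    (hC : ∀ g ∈ S, ∀ x ∈ S, g * x * g⁻¹ ∈ C ↔ x ∈ C) : FusionSystem S where
  Hom P := {φ | φ ∈ F.Hom P ∧ ∀ x : P, φ x ∈ C ↔ (x : Ω) ∈ C}
  le_of_mem h := F.le_of_mem h.1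
  injective_of_mem h := F.injective_of_mem h.1
  conj_mem hP hg := ⟨F.conj_mem hP hg, fun x => hC _ hg _ (hP x.2)⟩
  comp_mem {P Q φ χ} hφ hχ h := ⟨F.comp_mem hφ.1 hχ.1 h, fun x => (hχ.2 ⟨φ x, h x⟩).trans (hφ.2 x)⟩
  inv_mem {P φ} hφ := by
    obtain ⟨c, hc, -, hl, -⟩ := exists_inv F hφ.1 rfl
    refine ⟨c, ⟨hc, ?_⟩, fun x => hl x _⟩
    rintro ⟨_, x, rfl⟩
    rw [hl x ⟨x, rfl⟩]
    exact (hφ.2 x).symm

theorem sylow_inf_normal {A : Type*} [Group A] [Finite A] {N : Subgroup A} [N.Normal]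
    (R : Sylow p A) : ∃ P₀ : Sylow p N, (P₀ : Subgroup N) = (R : Subgroup A).subgroupOf N := by
  have hp : IsPGroup p ((R : Subgroup A).subgroupOf N) :=
    R.2.comap_of_injective N.subtype N.subtype_injective
  obtain ⟨P₀, hP₀⟩ := hp.exists_le_sylow
  refine ⟨P₀, (le_antisymm hP₀ ?_).symm⟩
  obtain ⟨R', hR'⟩ := (P₀.2.map N.subtype).exists_le_sylow
  obtain ⟨g, hg⟩ := MulAction.exists_smul_eq A R R'
  have hf : ∀ x : (P₀ : Subgroup N),
      (⟨g⁻¹ * ((x : N) : A) * g, by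
        simpa using (inferInstance : N.Normal).conj_mem _ (x : N).2 g⁻¹⟩ : N) ∈
        (R : Subgroup A).subgroupOf N := by
    intro x
    have h1 : ((x : N) : A) ∈ (R' : Subgroup A) := hR' ⟨x, x.2, rfl⟩
    rw [← hg, Sylow.coe_subgroup_smul] at h1
    obtain ⟨y, hy, hyx⟩ := h1
    show g⁻¹ * ((x : N) : A) * g ∈ (R : Subgroup A)
    rw [← hyx]
    show g⁻¹ * (g * y * g⁻¹) * g ∈ (R : Subgroup A)
    rw [show g⁻¹ * (g * y * g⁻¹) * g = y by group]
    exact hy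
  refine (Subgroup.eq_of_le_of_card_ge hP₀ (Nat.card_le_card_of_injective
    (fun x => (⟨_, hf x⟩ : ((R : Subgroup A).subgroupOf N))) fun x y hxy => ?_)).ge
  have h2 := congrArg (fun z : ((R : Subgroup A).subgroupOf N) => ((z : N) : A)) hxy
  exact Subtype.ext (Subtype.ext (mul_left_cancel (mul_right_cancel h2)))

/-- A system containing the automorphisms of the subgroups over `T` and those fixing the
centralizing part of a subgroup contains the whole system. -/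
theorem le_of_centX_conditions (hS : IsPGroup p S) (hE : E.IsNormalIn F p) (G : FusionSystem S)
    (htopG : ∀ R : Subgroup Ω, T ≤ R → R ≤ S → ∀ γ ∈ F.autGroup R, autHom γ ∈ G.Hom R)
    (hfix : ∀ R : Subgroup Ω, R ≤ S → ∀ γ ∈ F.autGroup R,
      (∀ r : R, (r : Ω) ∈ sSup {X | CentX F E X} → γ r = r) → autHom γ ∈ G.Hom R) : F ≤ G := by
  have W : WNData p F E := ⟨hS, hE.1.2.1, hE.1.1, hE.1.2.2⟩
  have hF := W.saturated
  have := W.finite
  have hTS := W.le
  have hcl := W.inv.2.1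
  set C := sSup {X | CentX F E X} with hCdef
  have hCX : CentX F E C := centX_sSup hS hE
  have hCS : C ≤ S := hCX.1.trans (centralizerIn_le S T)
  have := finite_of_le hCS
  refine alperin_ind hS hF G (fun γ hγ => mem_autGroup_of_hom G (htopG S hTS le_rfl γ hγ))
    fun R hess ih => ?_
  have hRS := hess.1.1
  intro γ hγ
  by_cases hTR : T ≤ R
  · exact mem_autGroup_of_hom G (htopG R hTR hRS γ hγ)
  set P := R ⊓ T with hP
  have hPc : E.IsCentric P := isCentric_inf_base W hess.1 (IsEssential.radical hS hF hess)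
  have hPS := hPc.1.trans hTS
  have := finite_of_le hRS
  have := finite_of_le hPS
  have := finite_mulAut (P := R) hRS
  set A := F.autGroup R with hA
  have hstab : ∀ a : A, ∀ r : R, (r : Ω) ∈ P → (((a : MulAut R) r : R) : Ω) ∈ P :=
    fun a r hr => ⟨SetLike.coe_mem _, StronglyClosed.map_mem hcl (autHom_mem F hRS a.2) r hr.2⟩
  have hPR : P ≤ R := inf_le_left
  have hrestr : ∀ a : A, ∃ ρ ∈ F.autGroup P, ∀ r : P,
      ((ρ r : P) : Ω) = (((a : MulAut R) ⟨r, hPR r.2⟩ : R) : Ω) := by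
    intro a
    have hah := restr_mem F (autHom_mem F hRS a.2) hPR
    have hr : (restr hPR (autHom (a : MulAut R))).range = P := by
      refine Subgroup.eq_of_le_of_card_ge ?_ (card_range_eq (F.injective_of_mem hah)).ge
      rintro _ ⟨r, rfl⟩
      exact hstab a _ r.2
    exact ⟨isoOf _ (F.injective_of_mem hah) hr, mem_autGroup_of_hom F hah, fun r => rfl⟩
  choose ρ hρF hρ using hrestr
  have hρmul : ∀ a b : A, ρ (a * b) = ρ a * ρ b := fun a b => MulEquiv.ext fun r => Subtype.ext (by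
    rw [hρ, MulAut.mul_apply, hρ, Subgroup.coe_mul, MulAut.mul_apply]
    exact congrArg (fun z => (((a : MulAut R) z : R) : Ω)) (Subtype.ext (hρ b r).symm))
  let ρh : A →* MulAut P := MonoidHom.mk' ρ hρmul
  let L : Subgroup A :=
    { carrier := {a | ρh a ∈ E.autGroup P ∧
        ∀ r : R, (r : Ω)⁻¹ * (((a : MulAut R) r : R) : Ω) ∈ P}
      one_mem' := ⟨by rw [map_one]; exact one_mem _, fun r => by simp⟩
      mul_mem' := fun {a b} ha hb => ⟨by rw [map_mul]; exact mul_mem ha.1 hb.1, fun r => by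
        have h := P.mul_mem (hb.2 r) (ha.2 ((b : MulAut R) r))
        rw [Subgroup.coe_mul, MulAut.mul_apply]
        rwa [show (r : Ω)⁻¹ * (((b : MulAut R) r : R) : Ω) *
          ((((b : MulAut R) r : R) : Ω)⁻¹ * (((a : MulAut R) ((b : MulAut R) r) : R) : Ω)) =
          (r : Ω)⁻¹ * (((a : MulAut R) ((b : MulAut R) r) : R) : Ω) by group] at h⟩
      inv_mem' := fun {a} ha => ⟨by rw [map_inv]; exact inv_mem ha.1, fun r => by
        have h := P.inv_mem (ha.2 ((a : MulAut R)⁻¹ r))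
        rw [MulAut.inv_apply, MulEquiv.apply_symm_apply] at h
        rw [Subgroup.coe_inv, MulAut.inv_apply]
        rwa [mul_inv_rev, inv_inv] at h⟩ }
  haveI : L.Normal := ⟨fun b hb g => ⟨by
      rw [map_mul, map_mul, map_inv]
      exact conj_mem_autGroup_of_invariant W.inv hTS hPc.1 (hρF g) hb.1,
    fun r => by
      obtain ⟨w, rfl⟩ := (g : MulAut R).surjective r
      rw [Subgroup.coe_mul, Subgroup.coe_mul, Subgroup.coe_inv, MulAut.mul_apply,
        MulAut.mul_apply, MulAut.inv_apply, MulEquiv.symm_apply_apply]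
      have h1 : (((g : MulAut R) w : R) : Ω)⁻¹ * (((g : MulAut R) ((b : MulAut R) w) : R) : Ω) =
          (((g : MulAut R) (w⁻¹ * (b : MulAut R) w) : R) : Ω) := by
        rw [map_mul, map_inv]
        rfl
      rw [h1]
      exact hstab g _ (hb.2 w)⟩⟩
  let Fix : Subgroup A :=
    { carrier := {a | ∀ r : R, (r : Ω) ∈ C → (a : MulAut R) r = r}
      one_mem' := fun _ _ => rfl
      mul_mem' := fun {a b} ha hb r hr => by
        rw [Subgroup.coe_mul, MulAut.mul_apply, hb r hr, ha r hr]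
      inv_mem' := fun {a} ha r hr => by
        rw [Subgroup.coe_inv, MulAut.inv_apply, MulEquiv.symm_apply_eq, ha r hr] }
  let H : Subgroup A := (G.autGroup R).subgroupOf A
  suffices hH : H = ⊤ from
    (hH ▸ Subgroup.mem_top (⟨γ, hγ⟩ : A) : (⟨γ, hγ⟩ : A) ∈ H)
  have hFH : Fix ≤ H := fun a ha =>
    mem_autGroup_of_hom G (hfix R hRS _ a.2 ha)
  obtain ⟨⟨-, RA, hRA⟩, -⟩ := IsSaturated.automized_receptive hS hF hess.2.1
  obtain ⟨P₀, hP₀⟩ := sylow_inf_normal (N := L) RA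
  -- a high power of an element of `L` fixes `R ∩ C`
  obtain ⟨m, hm⟩ : ∃ m, Nat.card S = p ^ m := IsPGroup.iff_card.1 hS
  set k := Nat.card S with hk
  have hpow : ∀ a ∈ L, a ^ (k * k) ∈ Fix := by
    intro a ha z hz
    have hPn : R ≤ normalizerIn S P := fun r hr => mem_normalizerIn.2 ⟨hRS hr,
      mem_normalizer_of_finite fun x hx =>
        ⟨R.mul_mem (R.mul_mem hr hx.1) (R.inv_mem hr), W.conj_mem (hRS hr) hx.2⟩⟩
    obtain ⟨P', hPP', hP'⟩ := exists_fullyNormalized F hPS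
    obtain ⟨β, hβ, hβN, himg⟩ := IsSaturated.exists_normalizer_map hS hF hP' hPP'
    obtain ⟨B, hB, α, hBα, hαg, hfix⟩ := exists_twist_pow hS hE hPc hP' hβ himg (g := ρh a) ha.1
    have hCN : centralizerIn S T ≤ centralizerIn S P := centralizerIn_mono hPc.1
    have hPN : P ≤ normalizerIn S P := le_normalizerIn hPS
    have hzP : z.1 ∈ centralizerIn S P := hCN (hCX.1 hz)
    set ak : MulAut R := (a : MulAut R) ^ k with hak
    have hak' : ((a ^ k : A) : MulAut R) = ak := SubmonoidClass.coe_pow a k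
    let Y : Subgroup Ω := P ⊔ (R ⊓ C)
    have hYR : Y ≤ R := sup_le hPR inf_le_left
    have hYN : Y ≤ normalizerIn S P := hYR.trans hPn
    set β₁ := restr hYN β with hβ₁d
    have hβ₁ : β₁ ∈ F.Hom Y := restr_mem F hβ hYN
    obtain ⟨d, hd, hdr, hdl, hdl'⟩ := exists_inv F hβ₁ rfl
    have hdY : ∀ y, d y ∈ Y := fun y => hdr.le ⟨y, rfl⟩
    have hQZ : P' ≤ β₁.range := by
      rw [range_restr, ← himg]
      exact img_mono β le_sup_left
    have hβC : ∀ y : normalizerIn S P, (y : Ω) ∈ centralizerIn S P → β y ∈ centralizerIn S P' := by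
      intro y hy
      refine mem_centralizerIn_iff_conj.2 ⟨apply_mem hβ y, fun x hx => ?_⟩
      rw [← himg] at hx
      obtain ⟨x, hxN, hxP, rfl⟩ := mem_img.1 hx
      rw [← map_inv, ← map_mul, ← map_mul]
      exact congrArg β (Subtype.ext ((mem_centralizerIn_iff_conj.1 hy).2 x hxP))
    have hYc : Y ≤ ctr S P := sup_le (le_ctr S P) (le_trans (inf_le_right.trans hCX.1)
      (hCN.trans le_sup_right))
    have hZ : β₁.range ≤ ctr S P' := by
      rw [range_restr, img_sup β hPN (inf_le_left.trans hPn), himg]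
      refine sup_le_sup_left ?_ _
      rintro _ ⟨y, hy, rfl⟩
      exact hβC y (hCN (hCX.1 hy.2))
    have hzY : z.1 ∈ Y := Subgroup.mem_sup_right ⟨z.2, hz⟩
    have hw : β ⟨z, hYN hzY⟩ ∈ centralizerIn S P' := hβC _ hzP
    have hPk : ∀ x : P, (((ρh a : MulAut P) ^ k) x : P).1 = ((ak ⟨x, hPR x.2⟩ : R) : Ω) := by
      intro x
      rw [← map_pow, ← hak']
      exact hρ _ x
    have hcmp : ∀ f ∈ F.Hom Y, (∀ x : P, f ⟨x, Subgroup.mem_sup_left x.2⟩ =
        ((((ρh a : MulAut P) ^ k) x : P) : Ω)) → ∀ hf : ∀ y, f y ∈ normalizerIn S P,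
        ∃ h : (β ⟨f ⟨z, hzY⟩, hf _⟩)⁻¹ *
          ((B ⟨β ⟨z, hYN hzY⟩, hZ ⟨⟨z, hzY⟩, rfl⟩⟩ : _) : Ω) ∈ ctr S P', B ⟨_, h⟩ = ⟨_, h⟩ := by
      intro f hf hfP hfN
      let c := compose (compose d f hdY) β (fun y => hfN _)
      have hc : c ∈ F.Hom β₁.range := compose_mem F (compose_mem F hd hf hdY) hβ _
      have hcv : ∀ (u : Y) (y : β₁.range), (y : Ω) = β₁ u → c y = β ⟨f u, hfN u⟩ := by
        intro u y hy
        rw [show y = ⟨β₁ u, ⟨u, rfl⟩⟩ from Subtype.ext hy]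
        show β ⟨f ⟨d ⟨β₁ u, _⟩, _⟩, _⟩ = _
        simp only [hdl u ⟨u, rfl⟩]
      have key := foc_diff hP'.1 hB hBα hfix hQZ hZ hc (fun x => by
        obtain ⟨q, hqN, hq, hqx⟩ := mem_img.1 (himg.ge x.2)
        have e1 := hαg ⟨q, hq⟩ hqN (hPN (SetLike.coe_mem _)) (hqx.symm ▸ x.2)
        rw [show (⟨β ⟨q, hqN⟩, hqx.symm ▸ x.2⟩ : P') = x from Subtype.ext hqx] at e1
        rw [e1]
        refine (hcv ⟨q, Subgroup.mem_sup_left hq⟩ _ hqx.symm).trans ?_
        exact congrArg β (Subtype.ext (hfP ⟨q, hq⟩))) (w := ⟨β ⟨z, hYN hzY⟩, ⟨⟨z, hzY⟩, rfl⟩⟩) hw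
      rwa [hcv ⟨z, hzY⟩ _ rfl] at key
    have hakA : ak ∈ F.autGroup R := hak' ▸ (a ^ k).2
    obtain ⟨-, -, -, b, hb, hext, hfx⟩ := hCX.2 _ (autHom_mem E hPc.1 (pow_mem ha.1 k))
    have hYb : Y ≤ P ⊔ C := sup_le_sup_left inf_le_right _
    obtain ⟨h1, e1⟩ := hcmp (restr hYR (autHom ak)) (restr_mem F (autHom_mem F hRS hakA) hYR)
      (fun x => (hPk x).symm) (fun y => hPn (SetLike.coe_mem _))
    have hbN : ∀ y, restr hYb b y ∈ normalizerIn S P := by
      intro y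
      have h1 : b.range ≤ normalizerIn S P := by
        rw [← img_self, img_sup b le_sup_left le_sup_right]
        refine sup_le ?_ ?_
        · rintro _ ⟨⟨u, h⟩, hu, rfl⟩
          exact (congrArg (· ∈ normalizerIn S P) (hext ⟨u, hu⟩)).mpr (hPN (SetLike.coe_mem _))
        · rintro _ ⟨⟨u, h⟩, hu, rfl⟩
          exact (congrArg (· ∈ normalizerIn S P) (hfx ⟨u, hu⟩)).mpr
            (centralizerIn_le_normalizerIn S P (hCN (hCX.1 hu)))
      exact h1 ⟨_, rfl⟩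
    obtain ⟨h0, e0⟩ := hcmp (restr hYb b) (restr_mem F hb hYb)
      (fun x => hext x) hbN
    have hbz : (⟨restr hYb b ⟨z, hzY⟩, hbN _⟩ : normalizerIn S P) = ⟨z, hYN hzY⟩ :=
      Subtype.ext (hfx ⟨z, hz⟩)
    set e : R := z⁻¹ * ak z with he
    have heP : (e : Ω) ∈ P := by
      have := ((pow_mem ha k : a ^ k ∈ L)).2 z
      rw [hak'] at this
      exact this
    have hez : β ⟨(e : Ω), hPN heP⟩ = (β ⟨z, hYN hzY⟩)⁻¹ * β ⟨((ak z : R) : Ω), hPn (ak z).2⟩ := by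
      rw [← map_inv, ← map_mul]
      rfl
    have hBe : ∀ h : β ⟨(e : Ω), hPN heP⟩ ∈ ctr S P', B ⟨_, h⟩ = ⟨_, h⟩ := by
      intro h
      have hval : (⟨β ⟨(e : Ω), hPN heP⟩, h⟩ : ctr S P') = ⟨_, h0⟩ * ⟨_, h1⟩⁻¹ := by
        refine Subtype.ext (hez.trans ?_)
        rw [Subgroup.coe_mul, Subgroup.coe_inv]
        simp only [hbz]
        rw [mul_inv_rev, inv_inv]
        show _ = _ * (_ * β ⟨((ak z : R) : Ω), _⟩)
        group
      rw [hval, map_mul, map_inv, e0, e1]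
    have hβe : β ⟨(e : Ω), hPN heP⟩ ∈ P' := himg.le (apply_mem_img β ⟨e, hPN heP⟩ heP)
    have hfixe : ak e = e := by
      have h3 := hBe (le_ctr S P' hβe)
      have h4 := (hBα ⟨_, hβe⟩).symm.trans (congrArg Subtype.val h3)
      rw [hαg ⟨e, heP⟩ _ (hPN (SetLike.coe_mem _)) hβe] at h4
      have h5 := F.injective_of_mem hβ h4
      have h6 := congrArg (fun u : normalizerIn S P => (u : Ω)) h5
      simp only at h6
      rw [hPk] at h6
      exact Subtype.ext h6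
    show (((a ^ (k * k) : A)) : MulAut R) z = z
    rw [SubmonoidClass.coe_pow, pow_mul, ← hak, pow_apply_of_fix hfixe]
    have hkR : e ^ k = 1 := Subtype.ext (by
      rw [SubmonoidClass.coe_pow]
      exact congrArg Subtype.val (pow_card_eq_one' (x := (⟨(e : Ω), hRS e.2⟩ : S))))
    rw [← he, hkR, mul_one]
  have hgen : (P₀ : Subgroup L) ⊔ Fix.subgroupOf L = ⊤ := by
    refine eq_top_of_pow_mem _ P₀ le_sup_left (m := m + m) fun a => Subgroup.mem_sup_right ?_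
    rw [Subgroup.mem_subgroupOf, SubmonoidClass.coe_pow, pow_add, ← hm]
    exact hpow a a.2
  have hN : Subgroup.normalizer ((P₀ : Subgroup L).map L.subtype : Set A) ≤ H := by
    intro a ha
    -- `a` extends beyond `R`
    have hah := autHom_mem F hRS a.2
    set X := extender S R (autHom (a : MulAut R)) with hX
    obtain ⟨ψ, hψ, hψe, -⟩ := IsReceptive.extend
      (IsSaturated.automized_receptive hS hF hess.2.1).2 hah (range_autHom _)
    have hlt : R < X := by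
      have hRX : R ≤ X := le_extender hRS (apply_mem hah)
      refine lt_of_le_of_ne hRX fun e => hTR ?_
      by_contra
      have hXS : R ⊔ T ≤ S := sup_le hRS hTS
      have hne : R < R ⊔ T := lt_of_le_of_ne le_sup_left fun h => hTR (h ▸ le_sup_right)
      have := finite_of_le hXS
      obtain ⟨x, hx, hxR⟩ := SetLike.exists_of_lt (lt_normalizerIn (hS.to_le hXS) hne)
      have hTn : R ⊔ T ≤ Subgroup.normalizer (T : Set Ω) :=
        sup_le (fun r hr => mem_normalizer_of_finite fun t ht => W.conj_mem (hRS hr) ht)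
          Subgroup.le_normalizer
      haveI : (T.subgroupOf (R ⊔ T)).Normal := (Subgroup.normal_subgroupOf_iff le_sup_right).2
        fun t y ht hy => conj_mem_of_mem_normalizer (hTn hy) ht
      have hX' : (⟨x, hx.1⟩ : ↥(R ⊔ T)) ∈ R.subgroupOf (R ⊔ T) ⊔ T.subgroupOf (R ⊔ T) := by
        rw [← Subgroup.subgroupOf_sup le_sup_left le_sup_right, Subgroup.subgroupOf_self]
        exact Subgroup.mem_top _
      obtain ⟨r₀, hr₀, t, ht, hrt⟩ := Subgroup.mem_sup_of_normal_right.1 hX'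
      have e1 : x = (r₀ : Ω) * (t : Ω) := (congrArg Subtype.val hrt).symm
      have htn : (t : Ω) ∈ Subgroup.normalizer (R : Set Ω) := by
        have h1 : (r₀ : Ω)⁻¹ * x ∈ Subgroup.normalizer (R : Set Ω) :=
          mul_mem (inv_mem (Subgroup.le_normalizer hr₀)) hx.2
        rwa [e1, inv_mul_cancel_left] at h1
      have htX : (t : Ω) ∈ X := by
        have htA : conjAut htn ∈ A := conjAut_mem_autGroup F hRS (hTS ht) htn
        have htR : (⟨_, htA⟩ : A) ∈ (RA : Subgroup A) := by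
          rw [hRA]
          exact conjAut_mem_autInducedBy (K := S) (hTS ht) htn
        have htL : (⟨_, htA⟩ : A) ∈ L := by
          refine ⟨?_, fun y => ⟨R.mul_mem (R.inv_mem y.2) (SetLike.coe_mem _), ?_⟩⟩
          · refine mem_autGroup_of_hom E ?_
            have e2 : autHom (ρh ⟨_, htA⟩) = conjHom P t :=
              MonoidHom.ext fun y => hρ _ y
            rw [e2]
            exact E.conj_mem hPc.1 ht
          · show (y : Ω)⁻¹ * ((t : Ω) * (y : Ω) * (t : Ω)⁻¹) ∈ T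
            rw [show (y : Ω)⁻¹ * ((t : Ω) * (y : Ω) * (t : Ω)⁻¹) =
              (y : Ω)⁻¹ * (t : Ω) * (y : Ω)⁻¹⁻¹ * (t : Ω)⁻¹ by group]
            exact T.mul_mem (W.conj_mem (S.inv_mem (hRS y.2)) ht) (T.inv_mem ht)
        have h2 : (⟨_, htA⟩ : A) ∈ (P₀ : Subgroup L).map L.subtype :=
          ⟨⟨_, htL⟩, by rw [hP₀]; exact htR, rfl⟩
        obtain ⟨⟨b, hbL⟩, hb, hbe⟩ := (Subgroup.mem_normalizer_iff.1 ha _).1 h2
        rw [hP₀] at hb
        have hb' : b ∈ (RA : Subgroup A) := hb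
        rw [hRA] at hb'
        obtain ⟨s, hs, hse⟩ := mem_autInducedBy.1 (Subgroup.mem_subgroupOf.1 hb')
        refine mem_extender.2 ⟨hTS ht, htn, s, hs, fun y hy => ?_⟩
        have h3 := hse ((a : MulAut R) y)
        have h4 : (b : MulAut R) = (a : MulAut R) * conjAut htn * (a : MulAut R)⁻¹ := by
          rw [show b = a * ⟨_, htA⟩ * a⁻¹ from hbe]
          rfl
        rw [h4, MulAut.mul_apply, MulAut.mul_apply, MulAut.inv_apply,
          MulEquiv.symm_apply_apply] at h3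
        exact h3
      exact hxR (e1 ▸ R.mul_mem hr₀ (e.ge htX))
    have hXS := extender_le S R (autHom (a : MulAut R))
    have hcard : Nat.card R < Nat.card X := by
      have := finite_of_le hXS
      by_contra hge
      exact hlt.ne (Subgroup.eq_of_le_of_card_ge hlt.le (not_lt.1 hge))
    have h1 := restr_mem G (ih X hcard ψ hψ) hlt.le
    have h2 : restr hlt.le ψ = autHom (a : MulAut R) :=
      MonoidHom.ext fun r => hψe r r.2 (hlt.le r.2)
    exact mem_autGroup_of_hom G (h2 ▸ h1)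
  refine top_le_iff.1 ((Sylow.normalizer_sup_eq_top P₀).ge.trans (sup_le hN fun a ha => ?_))
  have h1 : (⟨a, ha⟩ : L) ∈ (P₀ : Subgroup L) ⊔ Fix.subgroupOf L := hgen ▸ Subgroup.mem_top _
  have h2 : (P₀ : Subgroup L) ⊔ Fix.subgroupOf L ≤ H.subgroupOf L :=
    sup_le (fun b hb => hN (Subgroup.le_normalizer ⟨b, hb, rfl⟩)) fun b hb => hFH hb
  exact h2 h1

/-- The largest centralizing subgroup is strongly closed. -/
theorem stronglyClosed_centX (hS : IsPGroup p S) (hE : E.IsNormalIn F p) :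
    F.StronglyClosed (sSup {X | CentX F E X}) := by
  have W : WNData p F E := ⟨hS, hE.1.2.1, hE.1.1, hE.1.2.2⟩
  have hF := W.saturated
  have := W.finite
  have hTS := W.le
  have hcl := W.inv.2.1
  set C := sSup {X | CentX F E X} with hCdef
  have hCX : CentX F E C := centX_sSup hS hE
  have hCS : C ≤ S := hCX.1.trans (centralizerIn_le S T)
  have := finite_of_le hCS
  -- maps defined on `T` respect `C`
  have htop : ∀ {R : Subgroup Ω}, T ≤ R → ∀ φ ∈ F.Hom R, ∀ x : R, (x : Ω) ∈ C → φ x ∈ C := by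
    intro R hTR φ hφ x hx
    have hXX : CentX F E (R ⊓ C) := by
      refine ⟨inf_le_right.trans hCX.1, fun P χ hχ => ?_⟩
      obtain ⟨h1, h2, h3, b, hb, hext, hfx⟩ := hCX.2 P hχ
      have hle : P ⊔ R ⊓ C ≤ P ⊔ C := sup_le_sup_left inf_le_right _
      have hT' := le_centralizerIn_of_centX hTS (inf_le_right.trans hCX.1 : R ⊓ C ≤ _)
      exact ⟨h1, (source_le hχ).trans hT', fun y => hT' (apply_mem hχ y), restr hle b,
        restr_mem F hb hle, fun y => hext y, fun y => hfx ⟨y, y.2.2⟩⟩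
    have hle : T ⊔ R ⊓ C ≤ R := sup_le hTR inf_le_left
    have h1 := centX_transport W hXX (restr_mem F hφ hle)
    exact (le_sSup h1 : img (restr hle φ) (R ⊓ C) ≤ C) ⟨⟨x, Subgroup.mem_sup_right ⟨x.2, hx⟩⟩, ⟨x.2, hx⟩, rfl⟩
  have hnorm : ∀ g ∈ S, ∀ x ∈ S, g * x * g⁻¹ ∈ C ↔ x ∈ C := by
    have h1 : ∀ g ∈ S, ∀ x ∈ C, g * x * g⁻¹ ∈ C := fun g hg x hx =>
      htop hTS (conjHom S g) (F.conj_mem le_rfl hg) ⟨x, hCS hx⟩ hx
    refine fun g hg x hx => ⟨fun h => ?_, h1 g hg x⟩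
    have := h1 g⁻¹ (S.inv_mem hg) _ h
    rwa [show g⁻¹ * (g * x * g⁻¹) * g⁻¹⁻¹ = x by group] at this
  have haut : ∀ R : Subgroup Ω, R ≤ S → ∀ γ : MulAut R, γ ∈ F.autGroup R →
      (∀ x : R, (x : Ω) ∈ C → ((γ x : R) : Ω) ∈ C) → autHom γ ∈ (respectSystem F C hnorm).Hom R := by
    intro R hR γ hγ h
    refine ⟨autHom_mem F hR hγ, fun x => ⟨fun hx => ?_, h x⟩⟩
    have := finite_of_le hR
    have hsurj : Function.Surjective (fun y : ↥(R ⊓ C) =>
        (⟨((γ ⟨y, y.2.1⟩ : R) : Ω), (γ _).2, h _ y.2.2⟩ : ↥(R ⊓ C))) := by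
      have := finite_of_le (S := S) (inf_le_left.trans hR : R ⊓ C ≤ S)
      refine Finite.surjective_of_injective fun u v huv => ?_
      have h9 := congrArg (fun z : ↥(R ⊓ C) => (z : Ω)) huv
      exact Subtype.ext (congrArg (fun z : R => (z : Ω)) (γ.injective (Subtype.ext h9)))
    obtain ⟨y, hy⟩ := hsurj ⟨_, (γ x).2, hx⟩
    have e : (⟨(y : Ω), y.2.1⟩ : R) = x :=
      γ.injective (Subtype.ext (congrArg (fun z : ↥(R ⊓ C) => (z : Ω)) hy))
    rw [← e]
    exact y.2.2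
  suffices hle : F ≤ respectSystem F C hnorm from
    ⟨hCS, fun R hR φ hφ x => ((hle R hφ).2 x).2 (hR x.2)⟩
  exact le_of_centX_conditions hS hE _
    (fun R hTR hR γ hγ => haut R hR γ hγ fun x hx => htop hTR _ (autHom_mem F hR hγ) x hx)
    fun R hR γ hγ h => haut R hR γ hγ fun x hx => (congrArg Subtype.val (h x hx)).symm ▸ hx

end Cfsg.Agent.Lib.Fusion.PrimeIndex
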