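import Cfsg.Agent.Lib.Fusion.Biset
import Cfsg.Agent.Lib.Fusion.PrimeIndex.CentralizerOfNormal

/-!
The automorphism group of a stable biset, its transfer, and the subsystem over the kernel of a
character of exponent `p` that is trivial on the focal subgroup.
-/

set_option autoImplicit false
set_option linter.unusedSectionVars false

namespace Cfsg.Agent.Lib.Fusion.PrimeIndex

open Cfsg Cfsg.FusionSystem MulAction

theorem perm_apply_inv {α : Type*} (e : Equiv.Perm α) (x : α) : e (e⁻¹ x) = x :=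
  Equiv.apply_symm_apply e x

theorem perm_inv_apply {α : Type*} (e : Equiv.Perm α) (x : α) : e⁻¹ (e x) = x :=
  Equiv.symm_apply_apply e x

variable {Ω : Type*} [Group Ω] {S : Subgroup Ω} {p : ℕ} [Fact p.Prime] [Finite S]
  {F : FusionSystem S}

open Classical in
/-- A stable list of graphs of maps of degree prime to `p`. -/
theorem exists_stableList (hS : IsPGroup p S) (hF : F.IsSaturated p) :
    ∃ L : List (Subgroup (Ω × Ω)),
      (∀ R ∈ L, ∃ (P : Subgroup Ω) (φ : P →* Ω), φ ∈ F.Hom P ∧ R = graph P φ) ∧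
      (∀ R R', (productSystem F (innerFusionSystem S)).IsConj R R' →
        markList (S.prod S) L R = markList (S.prod S) L R') ∧
      ¬ p ∣ (L.map fun R => ((R.map (MonoidHom.fst Ω Ω)).subgroupOf S).index).sum := by
  set T := S.prod S with hTdef
  set E := productSystem F (innerFusionSystem S) with hEdef
  have hE : E.IsSaturated p := product_isSaturated hS hS hF (inner_isSaturated hS)
  set 𝒳 := {R : Subgroup (Ω × Ω) | ∃ (P : Subgroup Ω) (φ : P →* Ω),
    φ ∈ F.Hom P ∧ P ≠ S ∧ R = graph P φ}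
  have h𝒳 : ∀ R ∈ 𝒳, R ≤ T := by
    rintro R ⟨P, φ, hφ, -, rfl⟩
    exact graph_le_prod F hφ
  have hdown : ∀ R ∈ 𝒳, ∀ P ≤ R, P ∈ 𝒳 := by
    rintro R ⟨P, φ, hφ, hne, rfl⟩ R' hR'
    obtain ⟨hle, e⟩ := eq_graph_of_le hR'
    exact ⟨_, _, restr_mem F hφ hle,
      fun h => hne (le_antisymm (source_le hφ) (h ▸ hle)), e⟩
  have hconj : ∀ R ∈ 𝒳, ∀ R', E.IsConj R R' → R' ∈ 𝒳 := by
    rintro R ⟨P, φ, hφ, hne, rfl⟩ R' h
    obtain ⟨P', φ', h1, h2, h3⟩ := exists_graph_of_isConj hφ h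
    refine ⟨P', φ', h1, fun e => hne ?_, h2⟩
    exact eq_of_le_of_card (source_le hφ) (by rw [← h3, e])
  have := finite_mulAut (le_refl S)
  set C := F.autGroup S ⧸ (Inn S).subgroupOf (F.autGroup S)
  let e := Finite.equivFin C
  let α : Fin (Nat.card C) → F.autGroup S := fun i => (e.symm i).out
  let L₀ := List.ofFn fun i => graph S (autHom (α i : MulAut S))
  have hαS : ∀ i, autHom (α i : MulAut S) ∈ F.Hom S := fun i => autHom_mem F le_rfl (α i).2
  have hauto : ∀ φ : S →* Ω, φ ∈ F.Hom S → ∃ β : F.autGroup S, autHom (β : MulAut S) = φ := by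
    intro φ hφ
    have hr : φ.range = S := eq_of_le_of_card (range_le hφ)
      (card_range_eq (F.injective_of_mem hφ)).ge
    exact ⟨⟨isoOf φ (F.injective_of_mem hφ) hr, mem_autGroup_of_hom F hφ⟩, rfl⟩
  have htop : ∀ β : F.autGroup S, markList T L₀ (graph S (autHom (β : MulAut S))) =
      Nat.card (centralizerIn S S) := by
    intro β
    rw [markList_ofFn, Finset.sum_eq_single (e (QuotientGroup.mk β))]
    · have hle : ∀ γ : MulAut S, graph S (autHom γ) ≤ T := fun γ => by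
        rintro _ ⟨x, rfl⟩
        exact ⟨x.2, (γ x).2⟩
      rcases markOne_eq_zero_or (hle (α (e (QuotientGroup.mk β)))) (hle β)
        (by rw [card_graph, card_graph]) with h0 | ⟨-, -, -, h1⟩
      · obtain ⟨g, hg, hgv⟩ := mem_autInducedBy.1 (show
            ((β⁻¹ * α (e (QuotientGroup.mk β)) : F.autGroup S) : MulAut S) ∈
              autInducedBy S S by
          rw [autInducedBy_self]
          exact Subgroup.mem_subgroupOf.1 (QuotientGroup.eq.1 (
            show (QuotientGroup.mk β : C) = QuotientGroup.mk (e.symm (e (QuotientGroup.mk β))).out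
            by rw [Equiv.symm_apply_apply, QuotientGroup.out_eq'])))
        refine absurd h0 (Nat.card_ne_zero.2 ⟨⟨⟨QuotientGroup.mk (⟨(g, 1), hg, S.one_mem⟩ : T),
          ?_⟩⟩, inferInstance⟩)
        rw [stab_mk_iff (hle β)]
        intro z hz
        obtain ⟨h1, h2⟩ := mem_graph.1 hz
        have hS' : g⁻¹ * z.1 * g ∈ S := S.mul_mem (S.mul_mem (S.inv_mem hg) h1) hg
        refine mem_graph.2 ⟨by simpa using hS', ?_⟩
        have hv := hgv ⟨g⁻¹ * z.1 * g, hS'⟩
        simp only [Subgroup.coe_mul, MulAut.mul_apply, Subgroup.coe_inv] at hv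
        have hv' : ((β : MulAut S)⁻¹ ((α (e (QuotientGroup.mk β)) : MulAut S)
            ⟨g⁻¹ * z.1 * g, hS'⟩)) = ⟨z.1, h1⟩ :=
          Subtype.ext (hv.trans (by simp [mul_assoc]))
        have h3 := congrArg (β : MulAut S) hv'
        rw [MulAut.apply_inv_self] at h3
        simp only [autHom, MonoidHom.comp_apply] at h2 ⊢
        simp only [Prod.fst_mul, Prod.fst_inv, Prod.snd_mul, Prod.snd_inv, inv_one, one_mul, mul_one]
        rw [← h2]
        exact congrArg Subtype.val h3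
      · rw [h1, normIndex_graph]
    · intro i _ hi
      by_contra hne
      obtain ⟨g, hg, hgv⟩ := exists_of_markOne_ne_zero
        (graph_le_prod F (autHom_mem F le_rfl β.2)) hne
      refine hi (e.symm.injective ?_)
      rw [Equiv.symm_apply_apply, ← QuotientGroup.out_eq' (e.symm i), QuotientGroup.eq]
      have hin := conj_graph_eq hg hgv
      show ((α i : MulAut S))⁻¹ * (β : MulAut S) ∈ Inn S
      have hnorm : ((Inn S).subgroupOf (F.autGroup S)).Normal := inferInstance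
      have := hnorm.conj_mem ⟨_, inn_le_autGroup F le_rfl hin⟩ hin (α i)⁻¹
      simpa [Subgroup.mem_subgroupOf, mul_assoc] using this
    · simp
  have hL₀top : ∀ R, R ∉ 𝒳 → R ≤ T → markList T L₀ R ≠ 0 →
      ∃ β : F.autGroup S, R = graph S (autHom (β : MulAut S)) := by
    intro R hR hRT hne
    rw [markList_ofFn] at hne
    obtain ⟨i, -, hi⟩ := Finset.exists_ne_zero_of_sum_ne_zero hne
    obtain ⟨g, hg, hgv⟩ := exists_of_markOne_ne_zero hRT hi
    have hsub : R.map (MulAut.conj g⁻¹).toMonoidHom ≤ graph S (autHom (α i : MulAut S)) := by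
      rintro _ ⟨x, hx, rfl⟩
      simpa using hgv x hx
    obtain ⟨hle, he⟩ := eq_graph_of_le hsub
    obtain ⟨P', φ', h1, h2, h3⟩ := exists_graph_of_isConj (restr_mem F (hαS i) hle)
      (he ▸ isConj_symm (isConj_conj E (T.inv_mem hg) hRT))
    by_cases hP' : P' = S
    · subst hP'
      obtain ⟨β, rfl⟩ := hauto φ' h1
      exact ⟨β, h2⟩
    · exact absurd ⟨P', φ', h1, hP', h2⟩ hR
  have h₀ : ∀ R R', E.IsConj R R' → R ∉ 𝒳 → markList T L₀ R = markList T L₀ R' := by
    intro R R' hc hR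
    have hR' : R' ∉ 𝒳 := fun h => hR (hconj _ h _ (isConj_symm hc))
    have key : ∀ A B, E.IsConj A B → (∃ β : F.autGroup S, A = graph S (autHom (β : MulAut S))) →
        ∃ β : F.autGroup S, B = graph S (autHom (β : MulAut S)) := by
      rintro A B hAB ⟨β, rfl⟩
      obtain ⟨P', φ', h1, h2, h3⟩ := exists_graph_of_isConj (autHom_mem F le_rfl β.2) hAB
      obtain rfl : P' = S := eq_of_le_of_card (source_le h1) h3.ge
      obtain ⟨γ, rfl⟩ := hauto φ' h1
      exact ⟨γ, h2⟩
    by_cases h : markList T L₀ R = 0 ∧ markList T L₀ R' = 0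
    · rw [h.1, h.2]
    · obtain ⟨β, hβ⟩ : ∃ β : F.autGroup S, R = graph S (autHom (β : MulAut S)) := by
        rcases not_and_or.1 h with h | h
        · exact hL₀top R hR (isConj_le_left hc) h
        · exact key R' R (isConj_symm hc) (hL₀top R' hR' (isConj_le_right hc) h)
      obtain ⟨γ, hγ⟩ := key R R' hc ⟨β, hβ⟩
      rw [hβ, hγ, htop, htop]
  obtain ⟨L₁, hL₁, hstab⟩ := exists_stable_completion E (isPGroup_prod hS hS) hE 𝒳 h𝒳 hdown
    hconj L₀ h₀
  refine ⟨L₁ ++ L₀, fun R hR => ?_, hstab, ?_⟩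
  · rcases List.mem_append.1 hR with h | h
    · obtain ⟨P, φ, hφ, -, rfl⟩ := hL₁ R h
      exact ⟨P, φ, hφ, rfl⟩
    · obtain ⟨i, rfl⟩ := List.mem_ofFn.1 h
      exact ⟨S, _, hαS i, rfl⟩
  · let idx : Subgroup (Ω × Ω) → ℕ := fun R => ((R.map (MonoidHom.fst Ω Ω)).subgroupOf S).index
    show ¬ p ∣ ((L₁ ++ L₀).map idx).sum
    rw [List.map_append, List.sum_append]
    have h1 : p ∣ (L₁.map idx).sum := List.dvd_sum fun n hn => by
      obtain ⟨R, hR, rfl⟩ := List.mem_map.1 hn
      obtain ⟨P, ψ, hψ, hne, rfl⟩ := hL₁ R hR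
      show p ∣ (((graph P ψ).map (MonoidHom.fst Ω Ω)).subgroupOf S).index
      rw [map_fst_graph]
      obtain ⟨n, hn⟩ := hS.index (P.subgroupOf S)
      rw [hn]
      refine dvd_pow_self p fun hn0 => hne (le_antisymm (source_le hψ) ?_)
      rw [hn0, pow_zero, Subgroup.index_eq_one, Subgroup.subgroupOf_eq_top] at hn
      exact hn
    have h2 : (L₀.map idx).sum = Nat.card C := by
      rw [List.map_ofFn, List.sum_ofFn, Finset.sum_eq_card_nsmul (b := 1) (fun i _ => ?_)]
      · simp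
      · show (((graph S _).map (MonoidHom.fst Ω Ω)).subgroupOf S).index = 1
        rw [map_fst_graph, Subgroup.subgroupOf_self, Subgroup.index_top]
    have h3 : ¬ p ∣ Nat.card C := by
      obtain ⟨-, R, hR⟩ := (IsSaturated.automized_receptive hS hF (isFullyNormalized_top F)).1
      rw [autInducedBy_self] at hR
      show ¬ p ∣ ((Inn S).subgroupOf (F.autGroup S)).index
      rw [← hR]
      exact R.not_dvd_index
    rw [h2]
    exact fun h => h3 ((Nat.dvd_add_right h1).1 h)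


/-- A product of an invariant function with values of exponent `p` only sees the fixed points. -/
theorem prod_eq_prod_fixed {P Y A : Type*} [Group P] [MulAction P Y] [Fintype Y] [CommGroup A]
    [DecidablePred fun y : Y => y ∈ fixedPoints P Y] (hP : IsPGroup p P) (hA : ∀ a : A, a ^ p = 1)
    (f : Y → A) (hf : ∀ (g : P) (y : Y), f (g • y) = f y) :
    ∏ y, f y = ∏ y, if y ∈ fixedPoints P Y then f y else 1 := by
  classical
  rw [← Finset.prod_fiberwise Finset.univ (Quotient.mk (orbitRel P Y)) f,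
    ← Finset.prod_fiberwise Finset.univ (Quotient.mk (orbitRel P Y))
      (fun y => if y ∈ fixedPoints P Y then f y else 1)]
  refine Finset.prod_congr rfl fun o _ => ?_
  obtain ⟨y₀, rfl⟩ := Quotient.exists_rep o
  set s := Finset.univ.filter (fun y => Quotient.mk (orbitRel P Y) y = Quotient.mk _ y₀) with hs
  have hmem : ∀ y, y ∈ s ↔ y ∈ orbit P y₀ := by
    intro y
    rw [hs, Finset.mem_filter, Quotient.eq]
    exact ⟨fun h => h.2, fun h => ⟨Finset.mem_univ _, h⟩⟩
  by_cases hfix : y₀ ∈ fixedPoints P Y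
  · refine Finset.prod_congr rfl fun y hy => ?_
    obtain ⟨g, rfl⟩ := (hmem y).1 hy
    have hg : g • y₀ = y₀ := hfix g
    show f (g • y₀) = if g • y₀ ∈ fixedPoints P Y then f (g • y₀) else 1
    rw [hg, if_pos hfix]
  · have hnf : ∀ y ∈ s, y ∉ fixedPoints P Y := by
      intro y hy h
      obtain ⟨g, rfl⟩ := (hmem y).1 hy
      refine hfix fun k => ?_
      have h1 : g • y₀ = y₀ := by
        have := h g⁻¹
        simp only [inv_smul_smul] at this
        exact this.symm
      have h2 := h k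
      simp only [h1] at h2
      exact h2
    have hconst : ∀ y ∈ s, f y = f y₀ := by
      intro y hy
      obtain ⟨g, rfl⟩ := (hmem y).1 hy
      exact hf g y₀
    rw [Finset.prod_congr rfl hconst, Finset.prod_congr rfl (fun y hy => if_neg (hnf y hy)),
      Finset.prod_const, Finset.prod_const_one]
    obtain ⟨n, hn⟩ := hP.card_orbit y₀
    have hcard : s.card = p ^ n := by
      rw [← hn, Nat.card_coe_set_eq, ← Set.ncard_coe_finset]
      congr 1
      ext y
      exact hmem y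
    rcases Nat.eq_zero_or_pos n with rfl | hpos
    · refine absurd (fun g => ?_) hfix
      obtain ⟨y₁, h1⟩ := Finset.card_eq_one.1 (hcard.trans (pow_zero p))
      have e1 : g • y₀ = y₁ := Finset.mem_singleton.1 (h1 ▸ (hmem _).2 ⟨g, rfl⟩)
      have e2 : y₀ = y₁ := Finset.mem_singleton.1 (h1 ▸ (hmem _).2 (mem_orbit_self y₀))
      exact e1.trans e2.symm
    · obtain ⟨m, rfl⟩ := Nat.exists_eq_succ_of_ne_zero hpos.ne'
      rw [hcard, pow_succ', pow_mul, hA, one_pow]

/-- The data: a stable list of graphs and a character trivial on the focal subgroup, of exponent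
`p`, with kernel `T`. -/
structure TransData (p : ℕ) (F : FusionSystem S) (L : List (Subgroup (Ω × Ω))) {A : Type*}
    [CommGroup A] (θ : S →* A) (T : Subgroup Ω) : Prop where
  pgroup : IsPGroup p S
  saturated : F.IsSaturated p
  graphs : ∀ R ∈ L, ∃ (P : Subgroup Ω) (φ : P →* Ω), φ ∈ F.Hom P ∧ R = graph P φ
  stable : ∀ R R', (productSystem F (innerFusionSystem S)).IsConj R R' →
    markList (S.prod S) L R = markList (S.prod S) L R'
  degree : ¬ p ∣ (L.map fun R => ((R.map (MonoidHom.fst Ω Ω)).subgroupOf S).index).sum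
  exponent : ∀ a : A, a ^ p = 1
  surj : Function.Surjective θ
  inv : ∀ (P : Subgroup Ω) (φ : P →* Ω), φ ∈ F.Hom P → ∀ (x : P) (h : (x : Ω) ∈ S) (h' : φ x ∈ S),
    θ ⟨φ x, h'⟩ = θ ⟨x, h⟩
  le : T ≤ S
  ker : ∀ x : S, θ x = 1 ↔ (x : Ω) ∈ T

variable {A : Type*} [CommGroup A] {L : List (Subgroup (Ω × Ω))} {θ : S →* A} {T : Subgroup Ω}

/-- The points of the biset. -/
abbrev BPts (S : Subgroup Ω) (L : List (Subgroup (Ω × Ω))) :=
  Σ i : Fin L.length, (S.prod S : Subgroup (Ω × Ω)) ⧸ (L.get i).subgroupOf (S.prod S)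

/-- The left action, as an element of `S × S`. -/
def lft (S : Subgroup Ω) : S →* (S.prod S : Subgroup (Ω × Ω)) where
  toFun s := ⟨((s : Ω), 1), s.2, S.one_mem⟩
  map_one' := rfl
  map_mul' s t := Subtype.ext (Prod.ext rfl (one_mul _).symm)

/-- The right action, as an element of `S × S`. -/
def rgt (S : Subgroup Ω) : S →* (S.prod S : Subgroup (Ω × Ω)) where
  toFun s := ⟨(1, (s : Ω)), S.one_mem, s.2⟩
  map_one' := rfl
  map_mul' s t := Subtype.ext (Prod.ext (one_mul _).symm rfl)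

omit [Finite S] in
theorem lft_rgt_comm (s t : S) : lft S s * rgt S t = rgt S t * lft S s :=
  Subtype.ext (Prod.ext ((mul_one _).trans (one_mul _).symm) ((one_mul _).trans (mul_one _).symm))

theorem eq_lft_mul_rgt (t : (S.prod S : Subgroup (Ω × Ω))) :
    t = lft S ⟨(t : Ω × Ω).1, t.2.1⟩ * rgt S ⟨(t : Ω × Ω).2, t.2.2⟩ :=
  Subtype.ext (Prod.ext (mul_one _).symm (one_mul _).symm)

/-- The permutations commuting with the right action. -/
def bisetAut (S : Subgroup Ω) (L : List (Subgroup (Ω × Ω))) :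
    Subgroup (Equiv.Perm (BPts S L)) where
  carrier := {g | ∀ (s : S) (x : BPts S L), g (rgt S s • x) = rgt S s • g x}
  one_mem' := fun _ _ => rfl
  mul_mem' := fun {a b} ha hb s x => by
    rw [Equiv.Perm.mul_apply, Equiv.Perm.mul_apply, hb, ha]
  inv_mem' := fun {a} ha s x => a.injective (by
    rw [perm_apply_inv, ha, perm_apply_inv])

/-- The embedding of `S`. -/
def emb (S : Subgroup Ω) (L : List (Subgroup (Ω × Ω))) : S →* bisetAut S L where
  toFun s := ⟨MulAction.toPerm (lft S s), fun t x => by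
    show lft S s • rgt S t • x = rgt S t • lft S s • x
    rw [← mul_smul, ← mul_smul, lft_rgt_comm]⟩
  map_one' := Subtype.ext (Equiv.ext fun x => by
    show lft S 1 • x = x
    rw [map_one, one_smul])
  map_mul' s t := Subtype.ext (Equiv.ext fun x => by
    show lft S (s * t) • x = lft S s • lft S t • x
    rw [map_mul, mul_smul])

theorem TransData.graph_mem (D : TransData p F L θ T) (i : Fin L.length) {z : Ω × Ω}
    (hz : z ∈ L.get i) : ∃ h : z ∈ S.prod S,
      θ ⟨z.2, h.2⟩ = θ ⟨z.1, h.1⟩ ∧ (z.1 = 1 → z.2 = 1) := by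
  obtain ⟨P, φ, hφ, hR⟩ := D.graphs _ (List.get_mem L i)
  rw [hR] at hz
  have h : z ∈ S.prod S := graph_le_prod F hφ hz
  obtain ⟨h1, h2⟩ := mem_graph.1 hz
  refine ⟨h, ?_, fun e => ?_⟩
  · rw [show (⟨z.2, h.2⟩ : S) = ⟨φ ⟨z.1, h1⟩, apply_mem hφ _⟩ from Subtype.ext h2.symm]
    exact D.inv P φ hφ ⟨z.1, h1⟩ h.1 _
  · rw [← h2, show (⟨z.1, h1⟩ : P) = 1 from Subtype.ext e, map_one]

/-- The character on the points. -/
def TransData.lab (D : TransData p F L θ T) : BPts S L → A := fun x =>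
  Quotient.liftOn' x.2 (fun t => θ ⟨(t : Ω × Ω).2, t.2.2⟩ / θ ⟨(t : Ω × Ω).1, t.2.1⟩) fun a b hab => by
    rw [QuotientGroup.leftRel_apply, Subgroup.mem_subgroupOf] at hab
    obtain ⟨h, e, -⟩ := D.graph_mem x.1 hab
    have e2 : (⟨_, h.2⟩ : S) = (⟨(a : Ω × Ω).2, a.2.2⟩ : S)⁻¹ * ⟨(b : Ω × Ω).2, b.2.2⟩ :=
      Subtype.ext rfl
    have e1 : (⟨_, h.1⟩ : S) = (⟨(a : Ω × Ω).1, a.2.1⟩ : S)⁻¹ * ⟨(b : Ω × Ω).1, b.2.1⟩ :=
      Subtype.ext rfl
    rw [e2, e1, map_mul, map_mul, map_inv, map_inv] at e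
    rw [div_eq_div_iff_mul_eq_mul, inv_mul_eq_iff_eq_mul.1 e]
    rw [← mul_assoc, mul_right_comm _ (θ ⟨(b : Ω × Ω).1, b.2.1⟩), inv_mul_cancel_right]

theorem TransData.lab_smul (D : TransData p F L θ T) (t : (S.prod S : Subgroup (Ω × Ω)))
    (x : BPts S L) :
    D.lab (t • x) = θ ⟨(t : Ω × Ω).2, t.2.2⟩ / θ ⟨(t : Ω × Ω).1, t.2.1⟩ * D.lab x := by
  obtain ⟨i, q⟩ := x
  obtain ⟨u, rfl⟩ := QuotientGroup.mk_surjective q
  show θ ((⟨(t : Ω × Ω).2, t.2.2⟩ : S) * ⟨(u : Ω × Ω).2, u.2.2⟩) /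
      θ ((⟨(t : Ω × Ω).1, t.2.1⟩ : S) * ⟨(u : Ω × Ω).1, u.2.1⟩) =
    θ ⟨(t : Ω × Ω).2, t.2.2⟩ / θ ⟨(t : Ω × Ω).1, t.2.1⟩ *
      (θ ⟨(u : Ω × Ω).2, u.2.2⟩ / θ ⟨(u : Ω × Ω).1, u.2.1⟩)
  rw [map_mul, map_mul, mul_div_mul_comm]

theorem TransData.lab_rgt (D : TransData p F L θ T) (s : S) (x : BPts S L) :
    D.lab (rgt S s • x) = θ s * D.lab x := by
  rw [D.lab_smul, show θ ⟨((rgt S s : (S.prod S : Subgroup (Ω × Ω))) : Ω × Ω).1, _⟩ = 1 from
    map_one θ, div_one]
  rfl

theorem TransData.rgt_free (D : TransData p F L θ T) {s : S} {x : BPts S L}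
    (h : rgt S s • x = x) : s = 1 := by
  obtain ⟨i, q⟩ := x
  obtain ⟨u, rfl⟩ := QuotientGroup.mk_surjective q
  rw [Sigma.smul_mk] at h
  have h' := QuotientGroup.eq.1 (eq_of_heq (Sigma.mk.inj h).2)
  rw [Subgroup.mem_subgroupOf] at h'
  obtain ⟨-, -, h1⟩ := D.graph_mem i h'
  have h2 := h1 (by
    show ((1 : Ω) * (u : Ω × Ω).1)⁻¹ * (u : Ω × Ω).1 = 1
    group)
  refine Subtype.ext ?_
  change ((s : Ω) * (u : Ω × Ω).2)⁻¹ * (u : Ω × Ω).2 = 1 at h2
  rw [inv_mul_eq_one, mul_eq_right] at h2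
  exact h2

/-- The classes of the right action. -/
def rightClasses (S : Subgroup Ω) (L : List (Subgroup (Ω × Ω))) : Setoid (BPts S L) where
  r x y := ∃ s : S, rgt S s • x = y
  iseqv :=
    { refl := fun x => ⟨1, by rw [map_one, one_smul]⟩
      symm := by rintro x _ ⟨s, rfl⟩; exact ⟨s⁻¹, by rw [map_inv, inv_smul_smul]⟩
      trans := by rintro x _ _ ⟨s, rfl⟩ ⟨t, rfl⟩; exact ⟨t * s, by rw [map_mul, mul_smul]⟩ }

/-- The classes. -/
abbrev YPts (S : Subgroup Ω) (L : List (Subgroup (Ω × Ω))) := Quotient (rightClasses S L)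

/-- The permutation of the classes. -/
def onClasses (g : bisetAut S L) : YPts S L → YPts S L :=
  Quotient.map (fun x => (g : Equiv.Perm (BPts S L)) x) fun _ _ ⟨s, hs⟩ =>
    ⟨s, by show rgt S s • (g : Equiv.Perm (BPts S L)) _ = (g : Equiv.Perm (BPts S L)) _
           rw [← g.2, hs]⟩

theorem onClasses_mk (g : bisetAut S L) (x : BPts S L) :
    onClasses g (Quotient.mk _ x) = Quotient.mk _ ((g : Equiv.Perm (BPts S L)) x) := rfl

theorem onClasses_bijective (g : bisetAut S L) : Function.Bijective (onClasses g) := by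
  refine Function.bijective_iff_has_inverse.2 ⟨onClasses g⁻¹, fun y => ?_, fun y => ?_⟩ <;>
  · obtain ⟨x, rfl⟩ := Quotient.exists_rep y
    simp only [onClasses_mk, Subgroup.coe_inv, perm_inv_apply,
      perm_apply_inv]

/-- The displacement of the character. -/
def TransData.disp (D : TransData p F L θ T) (g : bisetAut S L) : YPts S L → A := fun y =>
  Quotient.liftOn y (fun x => D.lab ((g : Equiv.Perm (BPts S L)) x) / D.lab x) (by
    rintro x _ ⟨s, rfl⟩
    rw [g.2, D.lab_rgt, D.lab_rgt, mul_div_mul_left_eq_div])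

open Classical in
/-- The transfer. -/
noncomputable def TransData.tr (D : TransData p F L θ T) : bisetAut S L →* A :=
  letI := Fintype.ofFinite (YPts S L)
  MonoidHom.mk' (fun g => ∏ y, D.disp g y) fun g h => by
    have e : ∀ y, D.disp (g * h) y = D.disp g (onClasses h y) * D.disp h y := by
      intro y
      obtain ⟨x, rfl⟩ := Quotient.exists_rep y
      show _ / _ = (_ / _) * (_ / _)
      exact (div_mul_div_cancel _ _ _).symm
    simp only [e]
    rw [Finset.prod_mul_distrib, (onClasses_bijective h).prod_comp (D.disp g)]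

theorem TransData.card_classes (D : TransData p F L θ T) :
    Nat.card (YPts S L) = (L.map fun R => ((R.map (MonoidHom.fst Ω Ω)).subgroupOf S).index).sum := by
  classical
  have : Finite (S.prod S : Subgroup (Ω × Ω)) := Finite.of_equiv _ (S.prodEquiv S).symm.toEquiv
  have hcT : Nat.card (S.prod S : Subgroup (Ω × Ω)) = Nat.card S * Nat.card S := by
    rw [Nat.card_congr (S.prodEquiv S).toEquiv, Nat.card_prod]
  have e : BPts S L ≃ YPts S L × S := by
    refine Equiv.symm (Equiv.ofBijective (fun z => rgt S z.2 • z.1.out) ⟨?_, fun x => ?_⟩)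
    · rintro ⟨y, s⟩ ⟨y', s'⟩ h
      dsimp only at h
      have e1 : ∀ (y : YPts S L) (s : S), Quotient.mk (rightClasses S L) (rgt S s • y.out) = y :=
        fun y s => (Quotient.sound (a := rgt S s • y.out) (b := y.out)
          (show ∃ t : S, rgt S t • rgt S s • y.out = y.out from
            ⟨s⁻¹, by rw [map_inv, inv_smul_smul]⟩)).trans (Quotient.out_eq y)
      have hy : y = y' := by rw [← e1 y s, h, e1]
      subst hy
      refine Prod.ext rfl ?_
      have h1 : rgt S (s'⁻¹ * s) • y.out = y.out := by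
        rw [map_mul, map_inv, mul_smul, h, inv_smul_smul]
      exact (inv_mul_eq_one.1 (D.rgt_free h1)).symm
    · obtain ⟨s, hs⟩ := Quotient.exact (Quotient.out_eq (Quotient.mk (rightClasses S L) x))
      exact ⟨(Quotient.mk _ x, s), hs⟩
  have h1 := Nat.card_congr e
  rw [Nat.card_prod, Nat.card_sigma] at h1
  have h2 : ∀ i : Fin L.length,
      Nat.card ((S.prod S : Subgroup (Ω × Ω)) ⧸ (L.get i).subgroupOf (S.prod S)) =
        Nat.card S * (((L.get i).map (MonoidHom.fst Ω Ω)).subgroupOf S).index := by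
    intro i
    obtain ⟨P, φ, hφ, hR⟩ := D.graphs _ (List.get_mem L i)
    rw [hR, map_fst_graph]
    have hPS := source_le hφ
    have a := Subgroup.card_mul_index ((graph P φ).subgroupOf (S.prod S))
    have b := Subgroup.card_mul_index (P.subgroupOf S)
    rw [Nat.card_congr (Subgroup.subgroupOfEquivOfLe (graph_le_prod F hφ)).toEquiv, card_graph,
      hcT] at a
    rw [Nat.card_congr (Subgroup.subgroupOfEquivOfLe hPS).toEquiv] at b
    have := finite_of_le hPS
    refine Nat.eq_of_mul_eq_mul_left (Nat.card_pos (α := P)) ?_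
    show Nat.card P * ((graph P φ).subgroupOf (S.prod S)).index = _
    rw [a, mul_left_comm, b]
  rw [Finset.sum_congr rfl (fun i _ => h2 i), ← Finset.mul_sum, mul_comm] at h1
  have h3 := Nat.eq_of_mul_eq_mul_right (Nat.card_pos (α := S)) h1
  rw [← h3, ← List.sum_ofFn]
  congr 1
  rw [← List.ofFn_getElem_eq_map]
  rfl

theorem TransData.tr_emb (D : TransData p F L θ T) (s : S) :
    D.tr (emb S L s) = (θ s)⁻¹ ^ Nat.card (YPts S L) := by
  classical
  letI := Fintype.ofFinite (YPts S L)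
  show ∏ y, D.disp (emb S L s) y = _
  rw [Finset.prod_congr rfl (g := fun _ => (θ s)⁻¹) (fun y _ => ?_), Finset.prod_const,
    Nat.card_eq_fintype_card, Finset.card_univ]
  obtain ⟨x, rfl⟩ := Quotient.exists_rep y
  show D.lab (lft S s • x) / D.lab x = _
  rw [D.lab_smul, show θ ⟨((lft S s : (S.prod S : Subgroup (Ω × Ω))) : Ω × Ω).2, _⟩ = 1 from
    map_one θ, one_div, mul_div_cancel_right]
  rfl

/-- A lift of a map. -/
def Lift (S : Subgroup Ω) (L : List (Subgroup (Ω × Ω))) (g : bisetAut S L) {P : Subgroup Ω}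
    (φ : P →* Ω) : Prop :=
  ∀ (x : P) (h : (x : Ω) ∈ S) (h' : φ x ∈ S) (z : BPts S L),
    (g : Equiv.Perm (BPts S L)) (lft S ⟨x, h⟩ • z) =
      lft S ⟨φ x, h'⟩ • (g : Equiv.Perm (BPts S L)) z

theorem TransData.exists_lift (D : TransData p F L θ T) {P : Subgroup Ω} {φ : P →* Ω}
    (hφ : φ ∈ F.Hom P) : ∃ g, Lift S L g φ := by
  classical
  have hPS : P ≤ S := source_le hφ
  have : Finite P := finite_of_le hPS
  have : Finite (S.prod S : Subgroup (Ω × Ω)) := Finite.of_equiv _ (S.prodEquiv S).symm.toEquiv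
  let G := P.prod S
  have hGT : G ≤ S.prod S := Subgroup.prod_mono hPS le_rfl
  have : Finite G := Finite.of_equiv _ (P.prodEquiv S).symm.toEquiv
  let q₁ : G →* P := ((MonoidHom.fst Ω Ω).comp G.subtype).codRestrict P fun x => x.2.1
  let q₂ : G →* Ω := (MonoidHom.snd Ω Ω).comp G.subtype
  let Ψ : G →* Ω × Ω := (φ.comp q₁).prod q₂
  have hΨ : Ψ ∈ (productSystem F (innerFusionSystem S)).Hom G := by
    refine (productSystem_spec F (innerFusionSystem S) G Ψ).2 ⟨hGT,
      restr (show G.map (MonoidHom.fst Ω Ω) ≤ P by rintro _ ⟨z, hz, rfl⟩; exact hz.1) φ,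
      restr_mem F hφ _, (G.map (MonoidHom.snd Ω Ω)).subtype,
      subtype_mem _ (by rintro _ ⟨z, hz, rfl⟩; exact hz.2), fun x _ _ => rfl⟩
  let a : G →* (S.prod S : Subgroup (Ω × Ω)) := Subgroup.inclusion hGT
  let b : G →* (S.prod S : Subgroup (Ω × Ω)) :=
    Ψ.codRestrict _ fun x => ⟨apply_mem hφ _, x.2.2⟩
  obtain ⟨ee, hee⟩ := exists_semiconj (X := BPts S L) a b (fun H => by
    have ha : H.map a = (H.map G.subtype).subgroupOf (S.prod S) := by
      ext x
      exact ⟨fun ⟨y, hy, h⟩ => ⟨y, hy, congrArg Subtype.val h⟩,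
        fun ⟨y, hy, h⟩ => ⟨y, hy, Subtype.ext h⟩⟩
    have hb : H.map b = (img Ψ (H.map G.subtype)).subgroupOf (S.prod S) := by
      ext x
      rw [Subgroup.mem_subgroupOf, mem_img]
      constructor
      · rintro ⟨y, hy, rfl⟩
        exact ⟨y, y.2, ⟨y, hy, rfl⟩, rfl⟩
      · rintro ⟨_, hyN, ⟨y, hy, rfl⟩, h⟩
        exact ⟨y, hy, Subtype.ext h⟩
    rw [ha, hb, card_sigma_fix, card_sigma_fix]
    exact D.stable _ _ (isConj_img _ hΨ (Subgroup.map_subtype_le H)))
  refine ⟨⟨ee, fun s x => ?_⟩, fun x h h' z => ?_⟩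
  · have := hee ⟨(1, (s : Ω)), P.one_mem, s.2⟩ x
    refine this.trans (congrArg (· • ee x) (Subtype.ext (Prod.ext ?_ rfl)))
    show φ (q₁ ⟨(1, (s : Ω)), P.one_mem, s.2⟩) = 1
    exact (congrArg φ (Subtype.ext rfl)).trans (map_one φ)
  · exact (hee ⟨((x : Ω), 1), x.2, S.one_mem⟩ z).trans
      (congrArg (· • ee z) (Subtype.ext (Prod.ext (congrArg φ (Subtype.ext rfl)) rfl)))

theorem Lift.conj (s : S) (P : Subgroup Ω) : Lift S L (emb S L s) (conjHom P s) := by
  intro x h h' z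
  show lft S s • lft S ⟨x, h⟩ • z = lft S ⟨_, h'⟩ • lft S s • z
  rw [← mul_smul, ← mul_smul, ← map_mul, ← map_mul]
  refine congrArg (fun t => lft S t • z) (Subtype.ext ?_)
  show (s : Ω) * x = (s : Ω) * x * (s : Ω)⁻¹ * s
  group

theorem Lift.comp {g h : bisetAut S L} {P Q : Subgroup Ω} (hQ : Q ≤ S) {φ : P →* Ω} {ψ : Q →* Ω}
    (hg : Lift S L g φ) (hh : Lift S L h ψ) (hm : ∀ x, φ x ∈ Q) :
    Lift S L (h * g) (compose φ ψ hm) := by
  intro x hx hx' z
  rw [Subgroup.coe_mul, Equiv.Perm.mul_apply, Equiv.Perm.mul_apply, hg x hx (hQ (hm x))]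
  exact hh ⟨φ x, hm x⟩ (hQ (hm x)) hx' _

theorem Lift.inv {g : bisetAut S L} {P : Subgroup Ω} (hP : P ≤ S) {φ : P →* Ω}
    (hφS : ∀ x, φ x ∈ S) (hg : Lift S L g φ) {c : φ.range →* Ω}
    (hl : ∀ (x : P) (h : φ x ∈ φ.range), c ⟨φ x, h⟩ = x) : Lift S L g⁻¹ c := by
  rintro ⟨_, x, rfl⟩ h h' z
  have e : (⟨c ⟨φ x, ⟨x, rfl⟩⟩, h'⟩ : S) = ⟨x, hP x.2⟩ := Subtype.ext (hl x ⟨x, rfl⟩)
  rw [e]
  refine (g : Equiv.Perm (BPts S L)).injective ?_
  rw [hg x (hP x.2) (hφS x), Subgroup.coe_inv, perm_apply_inv,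
    perm_apply_inv]

open Classical in
/-- The transfer of an element centralizing `P` lies in the image of the centralizers. -/
theorem TransData.tr_mem_of_centralizes (D : TransData p F L θ T) {P : Subgroup Ω} (hP : P ≤ S)
    {K : Subgroup A} (hK : ∀ ψ ∈ F.Hom P, ∀ (c : S),
      (c : Ω) ∈ Subgroup.centralizer (ψ.range : Set Ω) → θ c ∈ K)
    {g : bisetAut S L} (hg : Lift S L g P.subtype) : D.tr g ∈ K := by
  classical
  letI := Fintype.ofFinite (YPts S L)
  have := finite_of_le hP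
  let el : P → S := fun x => ⟨x, hP x.2⟩
  letI : MulAction P (YPts S L) :=
    { smul := fun x y => Quotient.map (fun z => lft S (el x) • z)
        (fun a b h => show ∃ t : S, rgt S t • lft S (el x) • a = lft S (el x) • b by
          obtain ⟨s, hs⟩ := h
          refine ⟨s, ?_⟩
          rw [← hs, ← mul_smul, ← mul_smul, lft_rgt_comm]) y
      one_smul := fun y => by
        obtain ⟨z, rfl⟩ := Quotient.exists_rep y
        refine congrArg (Quotient.mk _) ?_
        show lft S (el 1) • z = z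
        rw [show el 1 = 1 from rfl, map_one, one_smul]
      mul_smul := fun x x' y => by
        obtain ⟨z, rfl⟩ := Quotient.exists_rep y
        refine congrArg (Quotient.mk _) ?_
        show lft S (el (x * x')) • z = lft S (el x) • lft S (el x') • z
        rw [← mul_smul, ← map_mul]
        rfl }
  have hgl : ∀ (x : P) (z : BPts S L),
      (g : Equiv.Perm (BPts S L)) (lft S (el x) • z) =
        lft S (el x) • (g : Equiv.Perm (BPts S L)) z := fun x z => hg x (hP x.2) (hP x.2) z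
  have hinv : ∀ (x : P) (y : YPts S L), D.disp g (x • y) = D.disp g y := by
    intro x y
    obtain ⟨z, rfl⟩ := Quotient.exists_rep y
    show D.lab ((g : Equiv.Perm (BPts S L)) (lft S (el x) • z)) / D.lab (lft S (el x) • z) = _
    rw [hgl, D.lab_smul, D.lab_smul, mul_div_mul_left_eq_div]
    rfl
  show ∏ y, D.disp g y ∈ K
  rw [prod_eq_prod_fixed (D.pgroup.to_le hP) D.exponent _ hinv]
  -- the points with a signature
  let Sig : BPts S L → Set (P →* Ω) := fun z => {ψ | ψ ∈ F.Hom P ∧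
    ∀ (x : P) (h : ψ x ∈ S), (lft S (el x) * rgt S ⟨ψ x, h⟩) • z = z}
  have hSig : ∀ y ∈ fixedPoints P (YPts S L),
      ∃ (ψ : P →* Ω) (z : BPts S L), Quotient.mk _ z = y ∧ ψ ∈ Sig z := by
    intro y hy
    obtain ⟨z, rfl⟩ := Quotient.exists_rep y
    obtain ⟨i, q⟩ := z
    obtain ⟨u, rfl⟩ := QuotientGroup.mk_surjective q
    obtain ⟨R, φ, hφ, hR⟩ := D.graphs _ (List.get_mem L i)
    set z : BPts S L := ⟨i, QuotientGroup.mk u⟩ with hz
    have hpt : ∀ x : P, ∃ (s : S) (h : (u : Ω × Ω).1⁻¹ * x * (u : Ω × Ω).1 ∈ R),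
        rgt S s • lft S (el x) • z = z ∧
          φ ⟨_, h⟩ = (u : Ω × Ω).2⁻¹ * s * (u : Ω × Ω).2 := by
      intro x
      obtain ⟨s, hs⟩ := Quotient.exact (hy x)
      have h1 := hs
      rw [← mul_smul, hz, Sigma.smul_mk] at h1
      have h2 := QuotientGroup.eq.1 (eq_of_heq (Sigma.mk.inj h1).2).symm
      rw [Subgroup.mem_subgroupOf, hR] at h2
      obtain ⟨h3, h4⟩ := mem_graph.1 h2
      have h5 : (u : Ω × Ω).1⁻¹ * x * (u : Ω × Ω).1 ∈ R := by
        have : (u : Ω × Ω).1⁻¹ * ((1 * (x : Ω)) * (u : Ω × Ω).1) ∈ R := h3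
        rwa [one_mul, ← mul_assoc] at this
      refine ⟨s, h5, hs, ?_⟩
      refine Eq.trans (congrArg φ (Subtype.ext ?_)) (h4.trans ?_)
      · show _ = (u : Ω × Ω).1⁻¹ * ((1 * (x : Ω)) * (u : Ω × Ω).1)
        group
      · show (u : Ω × Ω).2⁻¹ * (((s : Ω) * 1) * (u : Ω × Ω).2) = _
        group
    choose s hsR hs hsv using hpt
    let c₁ := conjHom P (u : Ω × Ω).1⁻¹
    have hm₁ : ∀ x, c₁ x ∈ R := fun x => by
      show (u : Ω × Ω).1⁻¹ * x * (u : Ω × Ω).1⁻¹⁻¹ ∈ R
      rw [inv_inv]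
      exact hsR x
    let c₂ := compose c₁ φ hm₁
    have hc₂ : c₂ ∈ F.Hom P := compose_mem F (F.conj_mem hP (S.inv_mem u.2.1)) hφ hm₁
    let ψ : P →* Ω := compose c₂ (conjHom c₂.range (u : Ω × Ω).2) fun x => ⟨x, rfl⟩
    have hψv : ∀ x, ψ x = (s x : Ω) := fun x => by
      show (u : Ω × Ω).2 * φ ⟨c₁ x, _⟩ * (u : Ω × Ω).2⁻¹ = _
      have e : (⟨c₁ x, hm₁ x⟩ : R) = ⟨_, hsR x⟩ := Subtype.ext (by
        show (u : Ω × Ω).1⁻¹ * x * (u : Ω × Ω).1⁻¹⁻¹ = _
        rw [inv_inv])
      rw [e, hsv]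
      group
    refine ⟨ψ, z, rfl, compose_mem F hc₂ (F.conj_mem (range_le hc₂) u.2.2) _, fun x h => ?_⟩
    rw [show (⟨ψ x, h⟩ : S) = s x from Subtype.ext (hψv x), lft_rgt_comm, mul_smul]
    exact hs x
  let SigY : YPts S L → Set (P →* Ω) := fun y => {ψ | ∃ z, Quotient.mk _ z = y ∧ ψ ∈ Sig z}
  have hSigg : ∀ z, ∀ ψ ∈ Sig z, ψ ∈ Sig ((g : Equiv.Perm (BPts S L)) z) := by
    intro z ψ hψ
    refine ⟨hψ.1, fun x h => ?_⟩
    have h1 := congrArg (fun w => (g : Equiv.Perm (BPts S L)) w) (hψ.2 x h)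
    simp only [mul_smul, hgl] at h1
    rw [g.2] at h1
    rw [mul_smul]
    exact h1
  have hSigY : ∀ y, SigY (onClasses g y) = SigY y := by
    intro y
    refine Set.ext fun ψ => ⟨?_, ?_⟩
    · rintro ⟨z, hz, hψ⟩
      refine ⟨((g⁻¹ : bisetAut S L) : Equiv.Perm (BPts S L)) z, ?_, hψ.1, fun x h => ?_⟩
      · refine (onClasses_bijective g).1 ?_
        rw [onClasses_mk, Subgroup.coe_inv, perm_apply_inv, hz]
      · refine (g : Equiv.Perm (BPts S L)).injective ?_
        rw [mul_smul, hgl, g.2, Subgroup.coe_inv, perm_apply_inv, ← mul_smul]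
        exact hψ.2 x h
    · rintro ⟨z, rfl, hψ⟩
      exact ⟨_, rfl, hSigg z ψ hψ⟩
  have hfix : ∀ y, onClasses g y ∈ fixedPoints P (YPts S L) ↔ y ∈ fixedPoints P (YPts S L) := by
    intro y
    have h1 : ∀ x : P, onClasses g (x • y) = x • onClasses g y := by
      intro x
      obtain ⟨z, rfl⟩ := Quotient.exists_rep y
      exact congrArg (Quotient.mk _) (hgl x z)
    refine forall_congr' fun x => ?_
    rw [← h1]
    exact (onClasses_bijective g).1.eq_iff
  -- the canonical points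
  have hcan : ∀ y ∈ fixedPoints P (YPts S L), ∃ z, Quotient.mk _ z = y ∧
      Classical.epsilon (fun ψ => ψ ∈ SigY y) ∈ Sig z := by
    intro y hy
    obtain ⟨ψ, z, hz, hψ⟩ := hSig y hy
    exact Classical.epsilon_spec (p := fun ψ => ψ ∈ SigY y) ⟨ψ, z, hz, hψ⟩
  choose can hcan₁ hcan₂ using hcan
  let Φ : YPts S L → A := fun y => if h : y ∈ fixedPoints P (YPts S L) then D.lab (can y h) else 1
  have key : ∀ y, ((if y ∈ fixedPoints P (YPts S L) then D.disp g y else 1) *
      (Φ y / Φ (onClasses g y))) ∈ K := by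
    intro y
    by_cases hy : y ∈ fixedPoints P (YPts S L)
    · have hy' := (hfix y).2 hy
      simp only [Φ, if_pos hy, dif_pos hy, dif_pos hy']
      set z := can y hy
      set z' := can _ hy'
      set ψ := Classical.epsilon (fun ψ => ψ ∈ SigY y) with hψ
      have hψ' : ψ ∈ Sig z' := by
        have := hcan₂ _ hy'
        rwa [hSigY] at this
      have hzy : Quotient.mk _ z = y := hcan₁ y hy
      have hz' : Quotient.mk (rightClasses S L) ((g : Equiv.Perm (BPts S L)) z) =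
          Quotient.mk (rightClasses S L) z' := by
        rw [← onClasses_mk, hzy, hcan₁]
      obtain ⟨s, hs⟩ := Quotient.exact hz'.symm
      have hdisp : D.disp g y = D.lab ((g : Equiv.Perm (BPts S L)) z) / D.lab z := by
        conv_lhs => rw [← hzy]
        rfl
      rw [hdisp, ← hs, D.lab_rgt]
      have hsc : (s : Ω) ∈ Subgroup.centralizer (ψ.range : Set Ω) := by
        rintro _ ⟨x, rfl⟩
        have hψg := hSigg z ψ (hcan₂ y hy)
        have hxS : ψ x ∈ S := apply_mem hψ'.1 x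
        have h1 := hψg.2 x hxS
        rw [← hs, lft_rgt_comm, mul_smul, ← mul_smul (lft S (el x)), lft_rgt_comm, mul_smul] at h1
        have h2 := hψ'.2 x hxS
        rw [lft_rgt_comm, mul_smul] at h2
        generalize lft S (el x) • z' = w at h1 h2
        rw [← h2, ← mul_smul, ← mul_smul, ← map_mul, ← map_mul] at h1
        have h3 : (⟨ψ x, hxS⟩ : S) * s = s * ⟨ψ x, hxS⟩ := by
          have h4 : rgt S ((s * ⟨ψ x, hxS⟩)⁻¹ * (⟨ψ x, hxS⟩ * s)) • w = w := by
            rw [map_mul, mul_smul, h1, map_inv, inv_smul_smul]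
          exact (inv_mul_eq_one.1 (D.rgt_free h4)).symm
        exact congrArg Subtype.val h3
      convert hK ψ hψ'.1 s hsc using 1
      rw [div_mul_div_cancel, mul_div_cancel_right]
    · have hy' : onClasses g y ∉ fixedPoints P (YPts S L) := fun h => hy ((hfix y).1 h)
      simp only [Φ, if_neg hy, dif_neg hy, dif_neg hy', div_one, one_mul]
      exact K.one_mem
  have h1 := Subgroup.prod_mem K (fun y (_ : y ∈ (Finset.univ : Finset (YPts S L))) => key y)
  rwa [Finset.prod_mul_distrib, Finset.prod_div_distrib, (onClasses_bijective g).prod_comp Φ,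
    div_self', mul_one] at h1

/-- The maps between subgroups of `T` with a lift in the kernel of the transfer. -/
def TransData.kerSystem (D : TransData p F L θ T) : FusionSystem T where
  Hom P := {φ | φ ∈ F.Hom P ∧ P ≤ T ∧ (∀ x, φ x ∈ T) ∧ ∃ g, Lift S L g φ ∧ D.tr g = 1}
  le_of_mem h := ⟨h.2.1, h.2.2.1⟩
  injective_of_mem h := F.injective_of_mem h.1
  conj_mem {P g} hP hg := ⟨F.conj_mem (hP.trans D.le) (D.le hg), hP,
    fun x => T.mul_mem (T.mul_mem hg (hP x.2)) (T.inv_mem hg), emb S L ⟨g, D.le hg⟩,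
    Lift.conj ⟨g, D.le hg⟩ P, by rw [D.tr_emb, (D.ker _).2 hg, inv_one, one_pow]⟩
  comp_mem {P Q φ ψ} hφ hψ h := by
    obtain ⟨hφF, hP, hφT, g, hg, hgv⟩ := hφ
    obtain ⟨hψF, hQ, hψT, k, hk, hkv⟩ := hψ
    exact ⟨F.comp_mem hφF hψF h, hP, fun x => hψT _, k * g,
      Lift.comp (hQ.trans D.le) hg hk h, by rw [map_mul, hgv, hkv, one_mul]⟩
  inv_mem {P φ} hφ := by
    obtain ⟨hφF, hP, hφT, g, hg, hgv⟩ := hφ
    obtain ⟨c, hc, hcr, hl, -⟩ := exists_inv F hφF rfl
    refine ⟨c, ⟨hc, ?_, fun y => hP (hcr.le ⟨y, rfl⟩), g⁻¹,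
      Lift.inv (hP.trans D.le) (apply_mem hφF) hg hl, by rw [map_inv, hgv, inv_one]⟩,
      fun x => hl x _⟩
    rintro _ ⟨x, rfl⟩
    exact hφT x

theorem TransData.map_mem_T (D : TransData p F L θ T) {P : Subgroup Ω} {φ : P →* Ω}
    (hφ : φ ∈ F.Hom P) (x : P) (hx : (x : Ω) ∈ T) : φ x ∈ T := by
  have h := D.inv P φ hφ x (source_le hφ x.2) (apply_mem hφ x)
  rw [(D.ker ⟨x, _⟩).2 hx] at h
  exact (D.ker _).1 h

/-- A transfer of a centralizing lift is that of an element of the centralizer in `S`. -/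
theorem TransData.exists_centralizing (D : TransData p F L θ T) {Q : Subgroup Ω}
    (hQ : F.IsFullyCentralized Q) {g : bisetAut S L} (hg : Lift S L g Q.subtype) :
    ∃ c : S, (c : Ω) ∈ centralizerIn S Q ∧ D.tr g = D.tr (emb S L c) := by
  classical
  let C : Subgroup S := (centralizerIn S Q).subgroupOf S
  have hmem := D.tr_mem_of_centralizes hQ.1 (K := C.map θ) (fun ψ hψ c hc => ?_) hg
  · obtain ⟨c, hc, e⟩ := hmem
    have hn : ¬ p ∣ Nat.card (YPts S L) := D.card_classes ▸ D.degree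
    obtain ⟨j, -, hj⟩ := Nat.exists_mul_mod_eq_one_of_coprime
      (((Fact.out : p.Prime).coprime_iff_not_dvd).2 hn).symm (Fact.out : p.Prime).one_lt
    refine ⟨c⁻¹ ^ j, (C.pow_mem (C.inv_mem hc) j : _), ?_⟩
    rw [D.tr_emb, map_pow, map_inv, ← e]
    simp only [inv_pow, inv_inv]
    rw [← pow_mul, mul_comm j]
    conv_rhs => rw [← Nat.mod_add_div (Nat.card (YPts S L) * j) p, hj, pow_add, pow_one, pow_mul,
      D.exponent, one_pow, mul_one]
  · -- transport the centralizer to `Q`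
    obtain ⟨d, hd, hdr, hdl, -⟩ := exists_inv F hψ rfl
    obtain ⟨χ, hχ, hext, -⟩ :=
      IsReceptive.extend (IsSaturated.receptive D.pgroup D.saturated hQ) hd hdr
    have hcC : (c : Ω) ∈ centralizerIn S ψ.range := ⟨c.2, hc⟩
    have hce := centralizerIn_le_extender (S := S) d hcC
    have hle : ψ.range ≤ extender S ψ.range d :=
      le_extender (range_le hψ) (apply_mem hd)
    have h1 := apply_mem_centralizerIn hdr hχ hext hle hce hcC
    refine ⟨⟨_, h1.1⟩, h1, ?_⟩
    exact D.inv _ χ hχ ⟨c, hce⟩ c.2 h1.1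

/-- The kernel system is saturated. -/
theorem TransData.isSaturated (D : TransData p F L θ T) : D.kerSystem.IsSaturated p := by
  classical
  have := finite_of_le D.le
  have hS := D.pgroup
  have hF := D.saturated
  have hn : ¬ p ∣ Nat.card (YPts S L) := D.card_classes ▸ D.degree
  intro P hP
  have hPS := hP.trans D.le
  obtain ⟨P₁, hPP₁, hP₁⟩ := exists_fullyNormalized F hPS
  obtain ⟨β, hβ, hβr⟩ := hPP₁
  obtain ⟨g, hg⟩ := D.exists_lift hβ
  obtain ⟨s, hs⟩ : ∃ s : S, D.tr (emb S L s) = (D.tr g)⁻¹ := by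
    obtain ⟨j, -, hj⟩ := Nat.exists_mul_mod_eq_one_of_coprime
      (((Fact.out : p.Prime).coprime_iff_not_dvd).2 hn).symm (Fact.out : p.Prime).one_lt
    obtain ⟨s₀, hs₀⟩ := D.surj (D.tr g ^ j)
    refine ⟨s₀, ?_⟩
    rw [D.tr_emb, hs₀, inv_pow, ← pow_mul, mul_comm]
    congr 1
    rw [← Nat.mod_add_div (Nat.card (YPts S L) * j) p, hj, pow_add, pow_one, pow_mul,
      D.exponent, one_pow, mul_one]
  have hP₁S := hP₁.1
  have := finite_of_le hP₁S
  have hβ1 : ∀ x, β x ∈ P₁ := fun x => hβr.le ⟨x, rfl⟩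
  let γ := compose β (conjHom P₁ (s : Ω)) hβ1
  have hγF : γ ∈ F.Hom P := compose_mem F hβ (F.conj_mem hP₁S s.2) hβ1
  set Q := γ.range with hQdef
  have hγT : ∀ x, γ x ∈ T := fun x => D.map_mem_T hγF x (hP x.2)
  have hγD : γ ∈ D.kerSystem.Hom P := ⟨hγF, hP, hγT, emb S L s * g,
    Lift.comp hP₁S hg (Lift.conj s P₁) hβ1, by rw [map_mul, hs, inv_mul_cancel]⟩
  have hQT : Q ≤ T := by
    rintro _ ⟨x, rfl⟩
    exact hγT x
  have hQS := hQT.trans D.le
  have := finite_of_le hQS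
  have hQn : F.IsFullyNormalized Q := by
    have hQP₁ : F.IsConj P₁ Q := ⟨conjHom P₁ s, F.conj_mem hP₁S s.2, by
      rw [hQdef, range_compose, hβr, img_self]⟩
    refine ⟨hQS, fun R hR => (hP₁.2 R (isConj_trans hQP₁ hR)).trans ?_⟩
    have := finite_of_le (normalizerIn_le S Q)
    refine Nat.card_le_card_of_injective
      (fun x => (⟨(s : Ω) * x * (s : Ω)⁻¹, ?_⟩ : normalizerIn S Q))
      fun x y h => Subtype.ext (mul_left_cancel (mul_right_cancel (congrArg Subtype.val h)))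
    refine mem_normalizerIn.2 ⟨S.mul_mem (S.mul_mem s.2 x.2.1) (S.inv_mem s.2),
      mem_normalizer_of_finite fun y hy => ?_⟩
    rw [hQdef, range_compose, hβr, img_self] at hy ⊢
    obtain ⟨y, rfl⟩ := hy
    refine ⟨⟨_, conj_mem_of_mem_normalizer x.2.2 y.2⟩, ?_⟩
    show (s : Ω) * ((x : Ω) * y * (x : Ω)⁻¹) * (s : Ω)⁻¹ =
      (s : Ω) * x * (s : Ω)⁻¹ * ((s : Ω) * y * (s : Ω)⁻¹) * ((s : Ω) * x * (s : Ω)⁻¹)⁻¹
    group
  obtain ⟨⟨-, RA, hRA⟩, hQr⟩ := IsSaturated.automized_receptive hS hF hQn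
  have hQc := IsSaturated.fullyCentralized hS hF hQn
  refine ⟨Q, ⟨γ, hγD, rfl⟩, ?_, ?_⟩
  · -- fully automized
    have := finite_mulAut (P := Q) hQS
    let A' := F.autGroup Q
    have hDA : D.kerSystem.autGroup Q ≤ A' := fun α hα =>
      mem_autGroup_of_hom F (autHom_mem D.kerSystem hQT hα).1
    haveI : ((D.kerSystem.autGroup Q).subgroupOf A').Normal := ⟨fun b hb a => by
      obtain ⟨k, hk⟩ := D.exists_lift (autHom_mem F hQS a.2)
      obtain ⟨-, -, -, h, hh, hhv⟩ := autHom_mem D.kerSystem hQT (Subgroup.mem_subgroupOf.1 hb)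
      have hki : Lift S L k⁻¹ (autHom (a : MulAut Q)⁻¹) := by
        intro x hx hx' z
        refine (k : Equiv.Perm (BPts S L)).injective ?_
        refine (perm_apply_inv _ _).trans
          (Eq.trans ?_ (hk ((a : MulAut Q)⁻¹ x) hx' (hQS (SetLike.coe_mem _)) _).symm)
        rw [Subgroup.coe_inv, perm_apply_inv]
        exact congrArg (fun w => lft S w • z) (Subtype.ext
          (show (x : Ω) = (((a : MulAut Q) ((a : MulAut Q)⁻¹ x) : Q) : Ω) from
            congrArg Subtype.val ((a : MulAut Q).apply_symm_apply x).symm))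
      refine Subgroup.mem_subgroupOf.2 (mem_autGroup_of_hom _ ⟨autHom_mem F hQS (a * b * a⁻¹).2,
        hQT, fun x => hQT (SetLike.coe_mem _), k * h * k⁻¹, ?_, ?_⟩)
      · intro x hx hx' z
        rw [Subgroup.coe_mul, Subgroup.coe_mul, Equiv.Perm.mul_apply, Equiv.Perm.mul_apply,
          Equiv.Perm.mul_apply, Equiv.Perm.mul_apply, hki x hx (hQS (SetLike.coe_mem _))]
        refine Eq.trans (congrArg (k : Equiv.Perm (BPts S L))
          (hh ((a : MulAut Q)⁻¹ x) (hQS (SetLike.coe_mem _)) (hQS (SetLike.coe_mem _)) _)) ?_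
        exact hk _ _ (hQS (SetLike.coe_mem _)) _
      · rw [map_mul, map_mul, hhv, mul_one, ← map_mul, mul_inv_cancel, map_one]⟩
    obtain ⟨P₀, hP₀⟩ := sylow_inf_normal (N := (D.kerSystem.autGroup Q).subgroupOf A') RA
    refine isFullyAutomized_of_card hQT ?_
    let e := Subgroup.subgroupOfEquivOfLe hDA
    have hcard := P₀.card_eq_multiplicity
    rw [Nat.card_congr e.toEquiv] at hcard
    rw [← hcard]
    refine (Nat.card_congr (Equiv.ofBijective
      (fun b : P₀ => (⟨(((b : (D.kerSystem.autGroup Q).subgroupOf A') : A') : MulAut Q), ?_⟩ :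
        autInducedBy T Q)) ⟨?_, ?_⟩)).symm
    · -- an induced map in the kernel is induced by `T`
      have hb : (((b : (D.kerSystem.autGroup Q).subgroupOf A') : A') : A') ∈
          (RA : Subgroup A') := by
        exact Subgroup.mem_subgroupOf.1 (hP₀.le b.2)
      obtain ⟨u, hu, hue⟩ := mem_autInducedBy.1 (Subgroup.mem_subgroupOf.1 (hRA.le hb))
      obtain ⟨-, -, -, h, hh, hhv⟩ := autHom_mem D.kerSystem hQT
        (Subgroup.mem_subgroupOf.1 (b : (D.kerSystem.autGroup Q).subgroupOf A').2)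
      have hl : Lift S L ((emb S L ⟨u, hu⟩)⁻¹ * h) Q.subtype := by
        intro x hx hx' z
        rw [Subgroup.coe_mul, Equiv.Perm.mul_apply, Equiv.Perm.mul_apply,
          hh x hx (hQS (SetLike.coe_mem _))]
        show (lft S ⟨u, hu⟩)⁻¹ • lft S _ • (h : Equiv.Perm (BPts S L)) z =
          lft S _ • (lft S ⟨u, hu⟩)⁻¹ • (h : Equiv.Perm (BPts S L)) z
        rw [← map_inv, ← mul_smul, ← mul_smul, ← map_mul, ← map_mul]
        refine congrArg (fun w => lft S w • _) (Subtype.ext ?_)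
        show (u : Ω)⁻¹ * ((((((b : (D.kerSystem.autGroup Q).subgroupOf A') : A') : MulAut Q) x : Q) : Ω)) = (x : Ω) * u⁻¹
        rw [hue x]
        group
      obtain ⟨c, hc, hct⟩ := D.exists_centralizing hQc hl
      rw [map_mul, map_inv, hhv, mul_one, ← map_inv, ← map_inv, D.tr_emb, D.tr_emb] at hct
      have hθ : θ (⟨u, hu⟩⁻¹) = θ c := by
        obtain ⟨j, -, hj⟩ := Nat.exists_mul_mod_eq_one_of_coprime
          (((Fact.out : p.Prime).coprime_iff_not_dvd).2 hn).symm (Fact.out : p.Prime).one_lt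
        have e1 := congrArg (fun w : A => w ^ j) hct
        simp only [← pow_mul] at e1
        rw [← Nat.mod_add_div (Nat.card (YPts S L) * j) p, hj] at e1
        simp only [pow_add, pow_one, pow_mul, D.exponent, one_pow, mul_one, inv_inj] at e1
        exact e1
      have ht : (⟨u, hu⟩ * c : S).1 ∈ T := (D.ker _).1 (by
        rw [map_mul, ← hθ, map_inv, mul_inv_cancel])
      refine mem_autInducedBy.2 ⟨_, ht, fun x => ?_⟩
      rw [hue x]
      show u * (x : Ω) * u⁻¹ = u * (c : Ω) * x * (u * (c : Ω))⁻¹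
      have := (mem_centralizerIn_iff_conj.1 hc).2 x x.2
      calc u * (x : Ω) * u⁻¹ = u * ((c : Ω) * x * (c : Ω)⁻¹) * u⁻¹ := by rw [this]
        _ = _ := by group
    · intro a b h
      have h' := congrArg (fun w : autInducedBy T Q => (w : MulAut Q)) h
      apply Subtype.ext
      apply Subtype.ext
      exact Subtype.ext h'
    · intro a
      have haD : (a : MulAut Q) ∈ D.kerSystem.autGroup Q :=
        autInducedBy_le_autGroup D.kerSystem hQT a.2
      refine ⟨⟨⟨⟨a, hDA haD⟩, haD⟩, ?_⟩, rfl⟩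
      exact hP₀.ge (Subgroup.mem_subgroupOf.2 (hRA.ge (Subgroup.mem_subgroupOf.2
        (autInducedBy_mono D.le a.2))))
  · -- receptive
    refine ⟨hQT, fun R φ hφ hφr => ?_⟩
    obtain ⟨hφF, hR, hφT, k, hk, hkv⟩ := hφ
    obtain ⟨ψ, hψ, hext, -⟩ := IsReceptive.extend hQr hφF hφr
    have hNe : extender T R φ ≤ extender S R φ := (Subgroup.closure_le _).2 fun y hy =>
      Subgroup.subset_closure ⟨D.le hy.1, hy.2.1, by
        obtain ⟨h, hh, e⟩ := hy.2.2
        exact ⟨h, D.le hh, e⟩⟩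
    set N := extender T R φ with hN
    have hRN : R ≤ N := le_extender hR hφT
    have hψN : restr hNe ψ ∈ F.Hom N := restr_mem F hψ hNe
    obtain ⟨h, hh⟩ := D.exists_lift hψN
    have hl : Lift S L (h * k⁻¹) Q.subtype := by
      intro y hy hy' z
      obtain ⟨x, hx⟩ := hφr.ge y.2
      have hxS := D.le (hR x.2)
      have e : ((k : Equiv.Perm (BPts S L)))⁻¹ (lft S ⟨y, hy⟩ • z) =
          lft S ⟨x, hxS⟩ • ((k : Equiv.Perm (BPts S L)))⁻¹ z := by
        refine (k : Equiv.Perm (BPts S L)).injective ?_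
        rw [perm_apply_inv, hk x hxS (hx.symm ▸ hy), perm_apply_inv]
        exact congrArg (fun w => lft S w • z) (Subtype.ext hx.symm)
      rw [Subgroup.coe_mul, Equiv.Perm.mul_apply, Equiv.Perm.mul_apply, Subgroup.coe_inv, e,
        hh ⟨x, hRN x.2⟩ hxS (apply_mem hψN _)]
      exact congrArg (fun w => lft S w • _) (Subtype.ext ((hext x x.2 _).trans hx))
    obtain ⟨c, hc, hct⟩ := D.exists_centralizing hQc hl
    rw [map_mul, map_inv, hkv, inv_one, mul_one] at hct
    let ψ' := compose (restr hNe ψ) (conjHom (restr hNe ψ).range (c : Ω)⁻¹) fun x => ⟨x, rfl⟩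
    have hψ'F : ψ' ∈ F.Hom N :=
      compose_mem F hψN (F.conj_mem (range_le hψN) (S.inv_mem c.2)) _
    have hN' : N ≤ T := extender_le T R φ
    refine ⟨ψ', ⟨hψ'F, hN', fun x => D.map_mem_T hψ'F x (hN' x.2), (emb S L c)⁻¹ * h, ?_,
      by rw [map_mul, map_inv, hct, inv_mul_cancel]⟩, fun x hx hxN => ?_⟩
    · rw [← map_inv]
      exact Lift.comp (range_le hψN) hh (Lift.conj (c⁻¹) _) _
    · show (c : Ω)⁻¹ * ψ ⟨x, hNe hxN⟩ * (c : Ω)⁻¹⁻¹ = φ ⟨x, hx⟩
      rw [hext x hx]
      have hy : φ ⟨x, hx⟩ ∈ Q := hφr.le ⟨_, rfl⟩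
      have := (mem_centralizerIn_iff_conj.1 (Subgroup.inv_mem _ hc)).2 _ hy
      simpa using this

/-- The kernel system has `p`-power index. -/
theorem TransData.hasPPowerIndexIn (D : TransData p F L θ T) :
    D.kerSystem.HasPPowerIndexIn F p := by
  classical
  refine ⟨fun P φ hφ => hφ.1, ?_, fun P hP => ?_⟩
  · refine (Subgroup.closure_le _).2 ?_
    rintro _ ⟨P, α, x, hPS, -, rfl⟩
    have h1 := D.inv P _ (autHom_mem F hPS α.2) x (hPS x.2) (hPS (SetLike.coe_mem _))
    refine (D.ker ((⟨x, hPS x.2⟩ : S)⁻¹ * ⟨(((α : MulAut P) x : P) : Ω), hPS (SetLike.coe_mem _)⟩)).1 ?_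
    rw [map_mul, map_inv]
    exact (congrArg (fun w => _ * w) h1).trans (inv_mul_cancel _)
  · rw [pResidual, MonoidHom.map_closure, Subgroup.closure_le]
    rintro _ ⟨α, hα, rfl⟩
    have hPS := hP.trans D.le
    refine mem_autGroup_of_hom _ ?_
    have hαh := autHom_mem F hPS α.2
    obtain ⟨g, hg⟩ := D.exists_lift hαh
    obtain ⟨j, hj⟩ := Nat.chineseRemainder (hα : Nat.Coprime (orderOf α) p) 1 0
    have hαj : (α : MulAut P) ^ j = α := by
      have h1 := pow_eq_pow_iff_modEq.2 hj.1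
      rw [pow_one] at h1
      exact congrArg Subtype.val h1
    refine ⟨hαh, hP, fun x => hP (SetLike.coe_mem _), g ^ j, ?_, ?_⟩
    · have hpow : ∀ n : ℕ, ∀ (x : P) (h : (x : Ω) ∈ S) (h' : ((((α : MulAut P) ^ n) x : P) : Ω) ∈ S)
          (z : BPts S L), ((g ^ n : bisetAut S L) : Equiv.Perm (BPts S L)) (lft S ⟨x, h⟩ • z) =
            lft S ⟨_, h'⟩ • ((g ^ n : bisetAut S L) : Equiv.Perm (BPts S L)) z := by
        intro n
        induction n with
        | zero => intro x h h' z; rfl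
        | succ n ih =>
          intro x h h' z
          rw [pow_succ', Subgroup.coe_mul, Equiv.Perm.mul_apply, Equiv.Perm.mul_apply,
            ih x h (hPS (SetLike.coe_mem _)), hg _ _ (hPS (SetLike.coe_mem _))]
          exact congrArg (fun w => lft S w • _) (Subtype.ext
            (congrArg (fun β : MulAut P => ((β x : P) : Ω)) (pow_succ' (α : MulAut P) n).symm))
      intro x h h' z
      have h'' : ((((α : MulAut P) ^ j) x : P) : Ω) ∈ S := hPS (SetLike.coe_mem _)
      rw [hpow j x h h'' z]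
      exact congrArg (fun w => lft S w • _) (Subtype.ext
        (congrArg (fun β : MulAut P => ((β x : P) : Ω)) hαj))
    · obtain ⟨m, rfl⟩ := Nat.modEq_zero_iff_dvd.1 hj.2
      rw [map_pow, pow_mul, D.exponent, one_pow]

end Cfsg.Agent.Lib.Fusion.PrimeIndex
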