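import Cfsg.Agent.Lib.Fusion.PrimeIndex.BisetGroup
import Cfsg.Agent.Lib.Fusion.PPowerIndex
import Cfsg.Agent.Lib.Fusion.Hyperfocal
import Cfsg.Agent.S5092

/-!
Existence and uniqueness of the subsystems of `p`-power index.
-/

set_option autoImplicit false

namespace Cfsg.Agent.Lib.Fusion.PrimeIndex

open Cfsg Cfsg.FusionSystem
open scoped commutatorElement

universe u

variable {Ω : Type u} [Group Ω] {p : ℕ} [Fact p.Prime]

theorem map_pResidual_mono {P : Subgroup Ω} {A B : Subgroup (MulAut P)} (h : A ≤ B) :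
    (pResidual p A).map A.subtype ≤ (pResidual p B).map B.subtype := by
  rw [Subgroup.map_le_iff_le_comap, pResidual, Subgroup.closure_le]
  intro a ha
  exact mem_map_pResidual_of_coprime B (h a.2) ((Subgroup.orderOf_coe a).symm ▸ ha)

theorem hyperfocal_mono {S T : Subgroup Ω} {F : FusionSystem S} {E : FusionSystem T}
    (hTS : T ≤ S) (h : E.IsSubsystemOf F) :
    E.hyperfocalSubgroup p ≤ F.hyperfocalSubgroup p := by
  refine (Subgroup.closure_le _).2 ?_
  rintro _ ⟨P, α, x, hP, hα, rfl⟩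
  obtain ⟨β, hβ, e⟩ := map_pResidual_mono (p := p) (Fusion.autGroup_le_of_isSubsystemOf h P)
    ⟨α, hα, rfl⟩
  refine Subgroup.subset_closure ⟨P, β, x, hP.trans hTS, hβ, ?_⟩
  rw [show ((β : MulAut P)) = (α : MulAut P) from e]

/-- A maximal subgroup over a proper subgroup of a finite `p`-group. -/
theorem exists_index_prime_over {S T : Subgroup Ω} [Finite S] (hS : IsPGroup p S) (hTS : T ≤ S)
    (hne : T ≠ S) : ∃ M : Subgroup S, M.Normal ∧ M.index = p ∧ T.subgroupOf S ≤ M := by
  obtain ⟨k, hk⟩ := IsPGroup.iff_card.1 hS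
  obtain ⟨n, hn⟩ := IsPGroup.iff_card.1 (hS.to_subgroup (T.subgroupOf S))
  have hlt : Nat.card (T.subgroupOf S) < Nat.card S := by
    refine lt_of_le_of_ne (Subgroup.card_le_card_group _) fun e => hne (le_antisymm hTS ?_)
    exact Subgroup.subgroupOf_eq_top.1 (Subgroup.eq_top_of_card_eq _ e)
  rw [hn, hk] at hlt
  have hnk := (Nat.pow_lt_pow_iff_right (Fact.out : p.Prime).one_lt).1 hlt
  obtain ⟨M, hM, hTM⟩ := Sylow.exists_subgroup_card_pow_prime_le (G := S) p
    (m := k - 1) (hk ▸ pow_dvd_pow p (Nat.sub_le k 1)) (T.subgroupOf S) hn (by omega)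
  have hidx : M.index = p := by
    have h := M.card_mul_index
    rw [hM, hk] at h
    refine Nat.eq_of_mul_eq_mul_left (pow_pos (Fact.out : p.Prime).pos (k - 1)) (h.trans ?_)
    rw [← pow_succ, show k - 1 + 1 = k by omega]
  refine ⟨M, Subgroup.normal_of_index_eq_minFac_card ?_, hidx, hTM⟩
  rw [hidx, hk, (Fact.out : p.Prime).pow_minFac (by omega)]

theorem exists_pPowerIndex_aux : ∀ (n : ℕ) {S : Subgroup Ω}, ∀ [Finite S], Nat.card S = n →
    IsPGroup p S → ∀ (F : FusionSystem S), F.IsSaturated p → ∀ T : Subgroup Ω, T ≤ S →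
      F.hyperfocalSubgroup p ≤ T →
        ∃ E : FusionSystem T, E.IsSaturated p ∧ E.HasPPowerIndexIn F p := by
  intro n
  induction n using Nat.strong_induction_on with
  | _ n ih =>
  intro S _ hn hS F hF T hTS hT
  by_cases hne : T = S
  · subst hne
    exact ⟨F, hF, fun P φ h => h, hT, fun P _ => Subgroup.map_subtype_le _⟩
  obtain ⟨M, hMn, hMi, hTM⟩ := exists_index_prime_over hS hTS hne
  have hcard : Nat.card (S ⧸ M) = p := hMi
  haveI : IsCyclic (S ⧸ M) := isCyclic_of_prime_card hcard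
  letI : CommGroup (S ⧸ M) := IsCyclic.commGroup
  set U := M.map S.subtype with hU
  have hUS : U ≤ S := Subgroup.map_subtype_le M
  have hmemU : ∀ x : S, (x : Ω) ∈ U ↔ x ∈ M := fun x =>
    Subgroup.mem_map_iff_mem S.subtype_injective
  have hTU : T ≤ U := fun x hx => (hmemU ⟨x, hTS hx⟩).2 (hTM hx)
  have hfoc : F.focalSubgroup ≤ U := by
    rw [Cfsg.Agent.S5092.result p hS F hF]
    refine sup_le (hT.trans hTU) (Subgroup.commutator_le.2 fun a ha b hb => ?_)
    refine (hmemU ⟨⁅a, b⁆, ?_⟩).2 ?_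
    · exact S.mul_mem (S.mul_mem (S.mul_mem ha hb) (S.inv_mem ha)) (S.inv_mem hb)
    · refine (QuotientGroup.eq_one_iff _).1 ?_
      show QuotientGroup.mk' M (⁅(⟨a, ha⟩ : S), ⟨b, hb⟩⁆) = 1
      rw [map_commutatorElement]
      exact commutatorElement_eq_one_iff_mul_comm.2 (mul_comm _ _)
  obtain ⟨L, hg, hst, hdeg⟩ := exists_stableList hS hF
  have D : TransData p F L (QuotientGroup.mk' M) U :=
    { pgroup := hS
      saturated := hF
      graphs := hg
      stable := hst
      degree := hdeg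
      exponent := fun a => by
        have h := pow_card_eq_one' (x := a)
        rwa [hcard] at h
      surj := QuotientGroup.mk'_surjective M
      inv := fun P φ hφ x h h' => by
        refine (QuotientGroup.eq.2 ?_).symm
        exact (hmemU ((⟨x, h⟩ : S)⁻¹ * ⟨φ x, h'⟩)).1 (hfoc (focal_mem hφ x))
      le := hUS
      ker := fun x => (QuotientGroup.eq_one_iff x).trans (hmemU x).symm }
  have := finite_of_le hUS
  have hlt : Nat.card U < n := by
    rw [← hn, hU, Nat.card_congr (M.equivMapOfInjective _ S.subtype_injective).toEquiv.symm]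
    have h := M.card_mul_index
    rw [hMi] at h
    rw [← h]
    exact lt_mul_of_one_lt_right Nat.card_pos (Fact.out : p.Prime).one_lt
  have hidx := D.hasPPowerIndexIn
  obtain ⟨E, hEs, hEsub, -, hEres⟩ := ih _ hlt rfl (hS.to_le hUS) D.kerSystem D.isSaturated T hTU
    ((hyperfocal_mono hUS hidx.1).trans hT)
  refine ⟨E, hEs, fun P φ h => hidx.1 P (hEsub P h), hT, fun P hP => ?_⟩
  rw [Subgroup.map_le_iff_le_comap, pResidual, Subgroup.closure_le]
  intro a ha
  have h1 : (a : MulAut P) ∈ D.kerSystem.autGroup P :=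
    hidx.2.2 P (hP.trans hTU) (mem_map_pResidual_of_coprime _ a.2 ((Subgroup.orderOf_coe a).symm ▸ ha))
  exact hEres P hP (mem_map_pResidual_of_coprime _ h1 ((Subgroup.orderOf_coe a).symm ▸ ha))

/-- A saturated subsystem of `p`-power index over every subgroup over the hyperfocal one. -/
theorem exists_pPowerIndex {S : Subgroup Ω} [Finite S] (hS : IsPGroup p S) (F : FusionSystem S)
    (hF : F.IsSaturated p) {T : Subgroup Ω} (hTS : T ≤ S) (hT : F.hyperfocalSubgroup p ≤ T) :
    ∃ E : FusionSystem T, E.IsSaturated p ∧ E.HasPPowerIndexIn F p :=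
  exists_pPowerIndex_aux _ rfl hS F hF T hTS hT

/-- It is unique. -/
theorem pPowerIndex_unique {S : Subgroup Ω} [Finite S] (hS : IsPGroup p S) {F : FusionSystem S}
    {T : Subgroup Ω} (hTS : T ≤ S) {E E' : FusionSystem T} (hE : E.IsSaturated p)
    (hEi : E.HasPPowerIndexIn F p) (hE' : E'.IsSaturated p) (hEi' : E'.HasPPowerIndexIn F p) :
    E = E' := by
  have := finite_of_le hTS
  refine ext_hom (hom_eq_of_coprime (hS.to_le hTS) rfl hE hE' ?_ ?_)
  · exact fun P hP α hα hc => hEi'.2.2 P hP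
      (mem_map_pResidual_of_coprime _ (Fusion.autGroup_le_of_isSubsystemOf hEi.1 P hα) hc)
  · exact fun P hP α hα hc => hEi.2.2 P hP
      (mem_map_pResidual_of_coprime _ (Fusion.autGroup_le_of_isSubsystemOf hEi'.1 P hα) hc)

end Cfsg.Agent.Lib.Fusion.PrimeIndex
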