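import Cfsg.Agent.Lib.Fusion.PrimeIndex.CentralizerOfNormal
import Cfsg.Agent.Lib.Fusion.PrimeIndex.IndexExists
import Cfsg.Agent.Lib.Fusion.ConstrainedSub
import Cfsg.Agent.S5120

/-!
The centralizer subsystem of a normal subsystem.
-/

set_option autoImplicit false
set_option linter.unusedSectionVars false

namespace Cfsg.Agent.Lib.Fusion.PrimeIndex

open Cfsg Cfsg.FusionSystem

variable {Ω : Type*} [Group Ω] {S T Y : Subgroup Ω} {p : ℕ} [Fact p.Prime] [Finite S]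
  {F : FusionSystem S}

/-- A subgroup normal in `S`: the strongly closed ones are. -/
theorem le_normalizer_of_stronglyClosed (h : F.StronglyClosed T) :
    S ≤ Subgroup.normalizer (T : Set Ω) := fun g hg => by
  have := finite_of_le h.1
  exact mem_normalizer_of_finite fun x hx => StronglyClosed.conj_mem_self h hg hx

theorem le_normalizer_sup {A B : Subgroup Ω} (hA : S ≤ Subgroup.normalizer (A : Set Ω))
    (hB : S ≤ Subgroup.normalizer (B : Set Ω)) (hAS : A ≤ S) (hBS : B ≤ S) :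
    S ≤ Subgroup.normalizer ((A ⊔ B : Subgroup Ω) : Set Ω) := fun g hg => by
  have := finite_of_le (sup_le hAS hBS)
  refine mem_normalizer_of_finite fun x hx => ?_
  have hle : (A ⊔ B).map (MulAut.conj g).toMonoidHom ≤ A ⊔ B := by
    rw [Subgroup.map_sup]
    refine sup_le_sup ?_ ?_
    · rintro _ ⟨y, hy, rfl⟩
      exact conj_mem_of_mem_normalizer (hA hg) hy
    · rintro _ ⟨y, hy, rfl⟩
      exact conj_mem_of_mem_normalizer (hB hg) hy
  exact hle ⟨x, hx, rfl⟩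

/-- The image of a strongly closed subgroup under a map defined on it. -/
theorem img_eq_of_stronglyClosed (h : F.StronglyClosed T) {R : Subgroup Ω} {ψ : R →* Ω}
    (hψ : ψ ∈ F.Hom R) (hTR : T ≤ R) : img ψ T = T := by
  have := finite_of_le h.1
  rw [← range_restr hTR]
  refine Subgroup.eq_of_le_of_card_ge ?_
    (card_range_eq (F.injective_of_mem (restr_mem F hψ hTR))).ge
  rintro _ ⟨x, rfl⟩
  exact StronglyClosed.map_mem h hψ _ x.2

/-- The automorphisms of `Y` extending to `Y C_S(Y)` as the definition of normality asks. -/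
def extGroup (F : FusionSystem S) (hY : Y ≤ S) : Subgroup (MulAut Y) where
  carrier := {α | ∃ b ∈ F.autGroup (Y ⊔ centralizerIn S Y),
    (∀ x : Y, ((b (Subgroup.inclusion le_sup_left x) : ↥(Y ⊔ centralizerIn S Y)) : Ω) =
      ((α x : Y) : Ω)) ∧
    ∀ c : ↥(Y ⊔ centralizerIn S Y), (c : Ω) ∈ centralizerIn S Y →
      (c : Ω)⁻¹ * ((b c : _) : Ω) ∈ Y ⊓ Subgroup.centralizer (Y : Set Ω)}
  one_mem' := ⟨1, one_mem _, fun _ => rfl, fun c _ => by simp⟩
  mul_mem' := by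
    rintro α β ⟨u, hu, hua, huc⟩ ⟨v, hv, hvb, hvc⟩
    refine ⟨u * v, mul_mem hu hv, fun x => ?_, fun c hc => ?_⟩
    · show ((u (v (Subgroup.inclusion le_sup_left x)) : _) : Ω) = ((α (β x) : Y) : Ω)
      rw [show v (Subgroup.inclusion le_sup_left x) = Subgroup.inclusion le_sup_left (β x) from
        Subtype.ext (hvb x), hua]
    · obtain ⟨hzY, hzc⟩ := hvc c hc
      have hvC : ((v c : _) : Ω) ∈ centralizerIn S Y := by
        rw [← mul_inv_cancel_left (c : Ω) ((v c : _) : Ω)]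
        exact Subgroup.mul_mem _ hc ⟨hY hzY, hzc⟩
      have h1 := Subgroup.mul_mem _ (hvc c hc) (huc (v c) hvC)
      rwa [show (c : Ω)⁻¹ * ((v c : _) : Ω) * (((v c : _) : Ω)⁻¹ * ((u (v c) : _) : Ω)) =
        (c : Ω)⁻¹ * ((u (v c) : _) : Ω) by group] at h1
  inv_mem' := by
    rintro α ⟨u, hu, hua, huc⟩
    refine ⟨u⁻¹, inv_mem hu, fun x => ?_, fun c hc => ?_⟩
    · have : u⁻¹ (Subgroup.inclusion le_sup_left x) = Subgroup.inclusion le_sup_left (α⁻¹ x) := by
        rw [MulAut.inv_apply, MulEquiv.symm_apply_eq]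
        refine Subtype.ext ?_
        rw [hua, MulAut.inv_apply, MulEquiv.apply_symm_apply]
        rfl
      rw [this]
      rfl
    · -- the inverse image stays in the centralizer
      have hX : Y ⊔ centralizerIn S Y ≤ S := sup_le hY (centralizerIn_le S Y)
      have hC : ((u⁻¹ c : _) : Ω) ∈ centralizerIn S Y := by
        refine mem_centralizerIn_iff_conj.2 ⟨hX (u⁻¹ c).2, fun y hy => ?_⟩
        have e : c * u (Subgroup.inclusion le_sup_left ⟨y, hy⟩) * c⁻¹ =
            u (Subgroup.inclusion le_sup_left ⟨y, hy⟩) := by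
          refine Subtype.ext ?_
          rw [Subgroup.coe_mul, Subgroup.coe_mul, Subgroup.coe_inv, hua]
          exact (mem_centralizerIn_iff_conj.1 hc).2 _ (α ⟨y, hy⟩).2
        have e1 := congrArg (fun w => ((u⁻¹ w : _) : Ω)) e
        simp only [map_mul, map_inv, Subgroup.coe_mul, Subgroup.coe_inv, MulAut.inv_apply,
          MulEquiv.symm_apply_apply] at e1
        rw [MulAut.inv_apply]
        exact e1
      have h := Subgroup.inv_mem _ (huc (u⁻¹ c) hC)
      rw [MulAut.inv_apply, MulEquiv.apply_symm_apply, mul_inv_rev, inv_inv] at h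
      rw [MulAut.inv_apply]
      exact h

/-- The extension of the automorphisms of a power. -/
theorem pow_card_mem_extGroup (hS : IsPGroup p S) (hF : F.IsSaturated p) {T Y : Subgroup Ω}
    (hTc : F.StronglyClosed T) (hYc : F.StronglyClosed Y) (hYT : Y ≤ centralizerIn S T)
    {α : MulAut Y} (ψ : ctr S (Y ⊔ T) →* Ω) (hψ : ψ ∈ F.Hom (ctr S (Y ⊔ T)))
    (h₁ : ∀ x : ctr S (Y ⊔ T), ∀ h : (x : Ω) ∈ Y, ψ x = ((α ⟨x, h⟩ : Y) : Ω))
    (h₂ : ∀ x : ctr S (Y ⊔ T), (x : Ω) ∈ T → ψ x = (x : Ω))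
    (h₃ : ∀ x : ctr S (Y ⊔ T), (x : Ω) ∈ centralizerIn S (Y ⊔ T) →
      (x : Ω)⁻¹ * ψ x ∈ Y ⊓ Subgroup.centralizer (Y : Set Ω)) :
    α ^ Nat.card S ∈ extGroup F (Y := Y) hYc.1 := by
  have hYS := hYc.1
  have hTS := hTc.1
  let N := Y ⊔ T
  have hNS : N ≤ S := sup_le hYS hTS
  have hTY : T ≤ centralizerIn S Y := fun t ht => mem_centralizerIn.2 ⟨hTS ht, fun y hy =>
    ((mem_centralizerIn.1 (hYT hy)).2 t ht).symm⟩
  let C₁ := centralizerIn S N
  let R := ctr S N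
  have hRS : R ≤ S := ctr_le hNS
  have hNR : N ≤ R := le_ctr S N
  have hYN : Y ≤ N := le_sup_left
  have hTN : T ≤ N := le_sup_right
  have := finite_of_le hRS
  have := finite_of_le hNS
  have := finite_of_le hYS
  have hnN : S ≤ Subgroup.normalizer (N : Set Ω) :=
    le_normalizer_sup (le_normalizer_of_stronglyClosed hYc) (le_normalizer_of_stronglyClosed hTc)
      hYS hTS
  have hnR : ∀ g ∈ S, g ∈ Subgroup.normalizer (R : Set Ω) := fun g hg =>
    ctr_normalizer hg (hnN hg)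
  have hNfc : F.IsFullyCentralized N :=
    IsSaturated.fullyCentralized hS hF (isFullyNormalized_of_le_normalizer' F hNS hnN)
  have hRfn : F.IsFullyNormalized R := isFullyNormalized_of_le_normalizer' F hRS hnR
  -- the automorphism of `R`
  have hψN : ∀ x : R, (x : Ω) ∈ N → ψ x ∈ N := by
    intro x hx
    have h : (restr hNR ψ).range ≤ N := by
      rw [range_restr, img_sup ψ (hYN.trans hNR) (hTN.trans hNR)]
      refine sup_le_sup ?_ ?_
      · rintro _ ⟨y, hy, rfl⟩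
        exact (h₁ y hy).symm ▸ SetLike.coe_mem _
      · rintro _ ⟨y, hy, rfl⟩
        exact (h₂ y hy).symm ▸ hy
    exact h ⟨⟨x, hx⟩, rfl⟩
  have hmod : ∀ x : R, (x : Ω)⁻¹ * ψ x ∈ N :=
    trivMod_all (A := N) (B := C₁)
      (fun y hy x hx => conj_mem_of_mem_normalizer (hnN (hRS hy)) hx) ψ
      (fun x hx => N.mul_mem (N.inv_mem hx) (hψN x hx)) (fun x hx => hYN (h₃ x hx).1)
  have hr : ψ.range = R := by
    refine Subgroup.eq_of_le_of_card_ge ?_ (card_range_eq (F.injective_of_mem hψ)).ge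
    rintro _ ⟨x, rfl⟩
    rw [← mul_inv_cancel_left (x : Ω) (ψ x)]
    exact R.mul_mem x.2 (hNR (hmod x))
  set B : MulAut R := isoOf ψ (F.injective_of_mem hψ) hr with hB
  have hBv : ∀ x : R, ((B x : R) : Ω) = ψ x := fun x => rfl
  have hBF : B ∈ F.autGroup R := mem_autGroup_of_hom F hψ
  have hBinvN : ∀ x : R, (x : Ω)⁻¹ * ((B⁻¹ x : R) : Ω) ∈ N := by
    intro x
    have h := N.inv_mem (hmod (B⁻¹ x))
    rw [← hBv, MulAut.inv_apply, MulEquiv.apply_symm_apply, mul_inv_rev, inv_inv] at h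
    exact h
  have hBY : ∀ x : R, (x : Ω) ∈ Y → ((B⁻¹ x : R) : Ω) ∈ Y := by
    intro x hx
    obtain ⟨y, hy⟩ := α.surjective ⟨x, hx⟩
    have e : B ⟨y, hNR (hYN y.2)⟩ = x :=
      Subtype.ext ((h₁ _ y.2).trans (congrArg Subtype.val hy))
    rw [← e, MulAut.inv_apply, MulEquiv.symm_apply_apply]
    exact y.2
  have hBT : ∀ x : R, (x : Ω) ∈ T → B x = x := fun x hx => Subtype.ext (h₂ x hx)
  have hBT' : ∀ x : R, (x : Ω) ∈ T → B⁻¹ x = x := fun x hx => by
    rw [MulAut.inv_apply, MulEquiv.symm_apply_eq, hBT x hx]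
  -- `C_S(Y)` lies in the extender
  have hext : centralizerIn S Y ≤ extender S R (autHom B) := by
    intro g hg
    have hgR := hnR g hg.1
    set cg : MulAut R := conjAut hgR with hcg
    have hcgv : ∀ x : R, ((cg x : R) : Ω) = g * (x : Ω) * g⁻¹ := fun x => rfl
    set κ : MulAut R := B * cg * B⁻¹ * cg⁻¹ with hκ
    have hcgF : cg ∈ F.autGroup R := conjAut_mem_autGroup F hRS hg.1 hgR
    have hκF : κ ∈ F.autGroup R :=
      mul_mem (mul_mem (mul_mem hBF hcgF) (inv_mem hBF)) (inv_mem hcgF)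
    have hκcg : ∀ x : R, κ (cg x) = B (cg (B⁻¹ x)) := fun x => by
      simp only [hκ, MulAut.mul_apply, MulAut.inv_apply, MulEquiv.symm_apply_apply]
    have hκfix : ∀ x : R, (x : Ω) ∈ N → κ x = x := by
      have hY' : ∀ x : R, (x : Ω) ∈ Y → κ x = x := by
        intro x hx
        have e : cg x = x := Subtype.ext ((hcgv x).trans ((mem_centralizerIn_iff_conj.1 hg).2 _ hx))
        have e' : cg (B⁻¹ x) = B⁻¹ x :=
          Subtype.ext ((hcgv _).trans ((mem_centralizerIn_iff_conj.1 hg).2 _ (hBY x hx)))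
        have h := hκcg x
        rw [e, e', MulAut.inv_apply, MulEquiv.apply_symm_apply] at h
        exact h
      have hT' : ∀ x : R, (x : Ω) ∈ T → κ x = x := by
        intro x hx
        have hw : ((cg⁻¹ x : R) : Ω) ∈ T := by
          have h : g * ((cg⁻¹ x : R) : Ω) * g⁻¹ ∈ T := by
            rw [← hcgv, MulAut.inv_apply, MulEquiv.apply_symm_apply]
            exact hx
          have h' := StronglyClosed.conj_mem_self hTc (S.inv_mem hg.1) h
          rwa [show g⁻¹ * (g * ((cg⁻¹ x : R) : Ω) * g⁻¹) * g⁻¹⁻¹ = ((cg⁻¹ x : R) : Ω) by group] at h'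
        have h := hκcg (cg⁻¹ x)
        rw [hBT' _ hw, MulAut.inv_apply, MulEquiv.apply_symm_apply, hBT x hx] at h
        exact h
      intro x hx
      have hle : restr hNR (autHom κ) = N.subtype :=
        hom_ext_sup (fun y hy hyY => congrArg Subtype.val (hY' ⟨y, hNR hy⟩ hyY))
          (fun y hy hyT => congrArg Subtype.val (hT' ⟨y, hNR hy⟩ hyT))
      refine Subtype.ext ?_
      exact DFunLike.congr_fun hle ⟨(x : Ω), hx⟩
    have hκmod : ∀ x : R, (x : Ω)⁻¹ * ((κ x : R) : Ω) ∈ N := by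
      intro x
      obtain ⟨w, rfl⟩ := cg.surjective x
      rw [hκcg]
      have h1 := hmod (cg (B⁻¹ w))
      rw [← hBv] at h1
      have h2 : ((cg w : R) : Ω)⁻¹ * ((cg (B⁻¹ w) : R) : Ω) ∈ N := by
        rw [hcgv, hcgv, show (g * (w : Ω) * g⁻¹)⁻¹ * (g * ((B⁻¹ w : R) : Ω) * g⁻¹) =
          g * ((w : Ω)⁻¹ * ((B⁻¹ w : R) : Ω)) * g⁻¹ by group]
        exact conj_mem_of_mem_normalizer (hnN hg.1) (hBinvN w)
      have h3 := N.mul_mem h2 h1
      rwa [show ((cg w : R) : Ω)⁻¹ * ((cg (B⁻¹ w) : R) : Ω) *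
        (((cg (B⁻¹ w) : R) : Ω)⁻¹ * ((B (cg (B⁻¹ w)) : R) : Ω)) =
        ((cg w : R) : Ω)⁻¹ * ((B (cg (B⁻¹ w)) : R) : Ω) by group] at h3
    obtain ⟨f, hf, hfe⟩ := stab_ctr_eq_conj hS hF hNfc hκF hκfix hκmod
    refine mem_extender.2 ⟨hg.1, hgR, f * g, S.mul_mem hf.1 hg.1, fun x hx => ?_⟩
    show ((B ⟨g * (x : Ω) * g⁻¹, hx⟩ : R) : Ω) = f * g * ((B x : R) : Ω) * (f * g)⁻¹
    have h := hκcg (B x)
    rw [MulAut.inv_apply, MulEquiv.symm_apply_apply] at h
    rw [show (⟨g * (x : Ω) * g⁻¹, hx⟩ : R) = cg x from rfl, ← h, hfe, hcgv]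
    group
  -- the extension
  obtain ⟨χ, hχ, hχe, -⟩ := IsReceptive.extend (IsSaturated.automized_receptive hS hF hRfn).2
    (autHom_mem F hRS hBF) (range_autHom B)
  set X := Y ⊔ centralizerIn S Y with hX
  have hXS : X ≤ S := sup_le hYS (centralizerIn_le S Y)
  have := finite_of_le hXS
  have hRX : R ≤ extender S R (autHom B) := le_extender hRS (apply_mem (autHom_mem F hRS hBF))
  have hXe : X ≤ extender S R (autHom B) := sup_le ((hYN.trans hNR).trans hRX) hext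
  have hYX : Y ≤ X := le_sup_left
  let b₀ := restr hXe χ
  have hb₀ : b₀ ∈ F.Hom X := restr_mem F hχ hXe
  have hb₀R : ∀ x : X, ∀ h : (x : Ω) ∈ R, b₀ x = ψ ⟨x, h⟩ := fun x h => hχe x h (hXe x.2)
  have hbY : ∀ x : X, ∀ h : (x : Ω) ∈ Y, b₀ x = ((α ⟨x, h⟩ : Y) : Ω) := fun x h => by
    rw [hb₀R x (hNR (hYN h)), h₁ _ h]
  have hbC : ∀ c : X, (c : Ω) ∈ centralizerIn S Y → (c : Ω)⁻¹ * b₀ c ∈ C₁ := by
    intro c hc
    refine mem_centralizerIn_iff_conj.2 ⟨S.mul_mem (S.inv_mem hc.1) (apply_mem hb₀ c), ?_⟩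
    have hle : N ≤ Subgroup.centralizer ({(c : Ω)⁻¹ * b₀ c} : Set Ω) := by
      refine sup_le (fun y hy => ?_) fun t ht => ?_ <;> rw [Subgroup.mem_centralizer_singleton_iff]
      · obtain ⟨u, hu⟩ := α.surjective ⟨y, hy⟩
        have e : c * ⟨u, hYX u.2⟩ * c⁻¹ = ⟨u, hYX u.2⟩ :=
          Subtype.ext ((mem_centralizerIn_iff_conj.1 hc).2 u u.2)
        have e1 := congrArg b₀ e
        rw [map_mul, map_mul, map_inv, hbY ⟨u, hYX u.2⟩ u.2, hu] at e1
        have e2 := (mem_centralizerIn_iff_conj.1 (Subgroup.inv_mem _ hc)).2 y hy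
        generalize b₀ c = d at e1
        calc y * ((c : Ω)⁻¹ * d) = ((c : Ω)⁻¹ * y * (c : Ω)⁻¹⁻¹) * ((c : Ω)⁻¹ * d) := by rw [e2]
          _ = (c : Ω)⁻¹ * ((d * y * d⁻¹) * d) := by rw [e1]; group
          _ = (c : Ω)⁻¹ * d * y := by group
      · have htX : t ∈ X := Subgroup.mem_sup_right (hTY ht)
        have h' := StronglyClosed.conj_mem_self hTc hc.1 ht
        have htX' : (c : Ω) * t * (c : Ω)⁻¹ ∈ X := Subgroup.mem_sup_right (hTY h')
        have e0 : b₀ ⟨t, htX⟩ = t :=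
          (hb₀R ⟨t, htX⟩ (hNR (hTN ht))).trans (h₂ ⟨t, hNR (hTN ht)⟩ ht)
        have e1 : b₀ (c * ⟨t, htX⟩ * c⁻¹) = (c : Ω) * t * (c : Ω)⁻¹ :=
          (hb₀R ⟨_, htX'⟩ (hNR (hTN h'))).trans (h₂ ⟨_, hNR (hTN h')⟩ h')
        rw [map_mul, map_mul, map_inv, e0] at e1
        generalize b₀ c = d at e1
        calc t * ((c : Ω)⁻¹ * d) = (c : Ω)⁻¹ * ((c : Ω) * t * (c : Ω)⁻¹) * d := by group
          _ = (c : Ω)⁻¹ * (d * t * d⁻¹) * d := by rw [e1]
          _ = (c : Ω)⁻¹ * d * t := by group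
    intro x hx
    have h := Subgroup.mem_centralizer_singleton_iff.1 (hle hx)
    rw [← h]
    group
  have hC₁Y : C₁ ≤ centralizerIn S Y := fun x hx =>
    mem_centralizerIn.2 ⟨hx.1, fun y hy => (mem_centralizerIn.1 hx).2 y (hYN hy)⟩
  have hbr : b₀.range = X := by
    refine Subgroup.eq_of_le_of_card_ge ?_ (card_range_eq (F.injective_of_mem hb₀)).ge
    rw [← img_self, img_sup b₀ le_sup_left le_sup_right]
    refine sup_le_sup ?_ ?_
    · rintro _ ⟨x, hx, rfl⟩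
      exact (hbY x hx).symm ▸ SetLike.coe_mem _
    · rintro _ ⟨x, hx, rfl⟩
      rw [← mul_inv_cancel_left (x : Ω) (b₀ x)]
      exact Subgroup.mul_mem _ hx (hC₁Y (hbC x hx))
  set b : MulAut X := isoOf b₀ (F.injective_of_mem hb₀) hbr with hb
  have hbv : ∀ x : X, ((b x : X) : Ω) = b₀ x := fun x => rfl
  set k := Nat.card S
  refine ⟨b ^ k, pow_mem (mem_autGroup_of_hom F hb₀) k, ?_, fun c hc => ?_⟩
  · suffices h : ∀ j : ℕ, ∀ x : Y, (((b ^ j) (Subgroup.inclusion le_sup_left x) : X) : Ω) =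
        (((α ^ j) x : Y) : Ω) from h k
    intro j
    induction j with
    | zero => intro x; rfl
    | succ j ih =>
      intro x
      rw [pow_succ', pow_succ', MulAut.mul_apply, MulAut.mul_apply,
        show (b ^ j) (Subgroup.inclusion le_sup_left x) = Subgroup.inclusion le_sup_left ((α ^ j) x)
          from Subtype.ext (ih x), hbv]
      exact hbY _ ((α ^ j) x).2
  -- powers on the centralizer
  set Z : Subgroup Ω := Y ⊓ Subgroup.centralizer (Y : Set Ω) with hZ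
  set d : X := c⁻¹ * b c with hd
  have hdC : (d : Ω) ∈ C₁ := hbC c hc
  have hbd : (d : Ω)⁻¹ * ((b d : X) : Ω) ∈ Z := by
    rw [hbv, hb₀R d (le_sup_right (a := N) hdC)]
    exact h₃ ⟨(d : Ω), le_sup_right (a := N) hdC⟩ hdC
  set z₀ : X := d⁻¹ * b d with hz₀
  have hbZ : ∀ z : X, (z : Ω) ∈ Z → ((b z : X) : Ω) ∈ Z := by
    rintro z ⟨hzY, hzc⟩
    rw [hbv, hbY z hzY]
    refine ⟨SetLike.coe_mem _, Subgroup.mem_centralizer_iff.2 fun y hy => ?_⟩
    obtain ⟨u, hu⟩ := α.surjective ⟨y, hy⟩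
    have e : u * ⟨z, hzY⟩ = ⟨z, hzY⟩ * u :=
      Subtype.ext (Subgroup.mem_centralizer_iff.1 hzc u u.2)
    have e1 := congrArg α e
    rw [map_mul, map_mul, hu] at e1
    exact congrArg Subtype.val e1
  have hcomm : ∀ z : X, (z : Ω) ∈ Z → Commute d z := fun z hz =>
    (Subtype.ext ((mem_centralizerIn.1 (hC₁Y hdC)).2 z hz.1) : z * d = d * z).symm
  have key : ∀ j : ℕ, ∃ z : X, (z : Ω) ∈ Z ∧ (b ^ j) c = c * d ^ j * z := by
    intro j
    induction j with
    | zero => exact ⟨1, Z.one_mem, by simp⟩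
    | succ j ih =>
      obtain ⟨z, hz, e⟩ := ih
      refine ⟨z₀ ^ j * b z, Z.mul_mem (by rw [SubmonoidClass.coe_pow]; exact Z.pow_mem hbd j) (hbZ z hz), ?_⟩
      rw [pow_succ', MulAut.mul_apply, e, map_mul, map_mul, map_pow,
        show b c = c * d from (mul_inv_cancel_left _ _).symm,
        show b d = d * z₀ from (mul_inv_cancel_left _ _).symm, (hcomm z₀ hbd).mul_pow,
        pow_succ']
      group
  obtain ⟨z, hz, e⟩ := key k
  have hdk : d ^ k = 1 := Subtype.ext (by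
    rw [SubmonoidClass.coe_pow]
    exact congrArg Subtype.val (pow_card_eq_one' (x := (⟨(d : Ω), hXS d.2⟩ : S))))
  rw [e, hdk, mul_one, Subgroup.coe_mul, inv_mul_cancel_left]
  exact hz

variable {E : FusionSystem T}

/-- The centralizer subsystem of a normal subsystem exists. -/
theorem exists_centralizer_subsystem (hS : IsPGroup p S) (hE : E.IsNormalIn F p) :
    ∃ D : FusionSystem (sSup {X | CentX F E X}), D.IsNormalIn F p ∧
      ∀ P : Subgroup Ω, D.Hom P ⊆ F.centralizerHom T P := by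
  have W : WNData p F E := ⟨hS, hE.1.2.1, hE.1.1, hE.1.2.2⟩
  have hF := W.saturated
  have := W.finite
  have hTS := W.le
  have hTc := W.inv.2.1
  have hCX : CentX F E (sSup {X | CentX F E X}) := centX_sSup hS hE
  have hYc : F.StronglyClosed (sSup {X | CentX F E X}) := stronglyClosed_centX hS hE
  generalize hY : sSup {X | CentX F E X} = Y at hCX hYc
  let U := centralizerIn S T
  have hYU : Y ≤ U := hCX.1
  have hYS := hYc.1
  have hUS : U ≤ S := centralizerIn_le S T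
  have := finite_of_le hUS
  have := finite_of_le hYS
  have hUp := hS.to_le hUS
  have hYp := hS.to_le hYS
  have hTY : T ≤ centralizerIn S Y := le_centralizerIn_of_centX hTS hYU
  have hTn := isFullyNormalized_of_le_normalizer' F hTS (le_normalizer_of_stronglyClosed hTc)
  let CT := centralizerSystem F T hTS
  have hCTs : CT.IsSaturated p := centralizerSystem_isSaturated hS hF
    (IsSaturated.fullyCentralized hS hF hTn) (centralizerSystem_spec F T hTS)
  have hCTsub : CT.IsSubsystemOf F := fun _ _ h => h.1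
  have hfoc : CT.focalSubgroup ≤ Y := hY ▸ le_sSup (a := CT.focalSubgroup)
    ⟨(le_centralizerHom_focal hS hE (centralizerSystem_spec F T hTS) ⊥).1,
      fun P => (le_centralizerHom_focal hS hE (centralizerSystem_spec F T hTS) P).2⟩
  have hhyp : CT.hyperfocalSubgroup p ≤ Y := (hyperfocal_le_focal CT p).trans hfoc
  obtain ⟨D, hDs, hDi⟩ := exists_pPowerIndex hUp CT hCTs hYU hhyp
  have hYnU : (Y.subgroupOf U).Normal := (Subgroup.normal_subgroupOf_iff_le_normalizer hYU).2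
    (hUS.trans (le_normalizer_of_stronglyClosed hYc))
  have hDn : D.IsNormalIn CT p :=
    Cfsg.Agent.S5120.result p hUp CT hCTs Y hYU hYnU hhyp D hDs hDi
  have hDF : D.IsSubsystemOf F := fun P φ h => hCTsub P (hDi.1 P h)
  have hYfn := isFullyNormalized_of_le_normalizer' F hYS (le_normalizer_of_stronglyClosed hYc)
  -- transport
  have hinv : ∀ α ∈ F.autGroup Y, ∀ (P : Subgroup Ω), P ≤ Y → ∀ (φ : P →* Ω), φ ∈ D.Hom P →
      Cfsg.Agent.S5120.Transported D α P φ := by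
    intro α hα
    suffices h : D.IsSubsystemOf (Cfsg.Agent.S5120.transportSystem D α) from
      fun P _ φ hφ => (h P hφ).2.2.2
    refine isSubsystemOf_of_coprime hYp hDs le_rfl fun P hP β hβ hc => ?_
    refine mem_autGroup_of_hom _ ⟨hP, fun x => hP (β x).2,
      P.subtype_injective.comp β.injective, ?_⟩
    let ih : P →* Ω := (Cfsg.Agent.S5120.amb α).comp (Subgroup.inclusion hP)
    have hαh : Cfsg.Agent.S5120.amb α ∈ F.Hom Y := autHom_mem F hYS hα
    have hθ : ih ∈ F.Hom P := restr_mem F hαh hP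
    have hθr : ih.range = img (Cfsg.Agent.S5120.amb α) P :=
      range_restr hP (Cfsg.Agent.S5120.amb α)
    let P' := img (Cfsg.Agent.S5120.amb α) P
    let e : P ≃* P' := isoOf ih (F.injective_of_mem hθ) hθr
    have hP'Y : P' ≤ Y := Cfsg.Agent.S5120.amb_img_le α P
    set β' : MulAut P' := MulAut.congr e β with hβ'
    have hβC : β ∈ CT.autGroup P := Fusion.autGroup_le_of_isSubsystemOf hDi.1 P hβ
    have hβ'F : β' ∈ F.autGroup P' :=
      exists_mulAut_congr F hθ hθr (Fusion.autGroup_le_of_isSubsystemOf hCTsub P hβC)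
    have hv : ∀ x : P, ((β' (e x) : P') : Ω) = ih (β x) := fun x => by
      show ((e (β (e.symm (e x))) : P') : Ω) = _
      rw [e.symm_apply_apply]
      rfl
    have hβ'C : β' ∈ CT.autGroup P' := by
      obtain ⟨-, -, -, bh, hbh, hext, hfx⟩ := autHom_mem CT (hP.trans hYU) hβC
      obtain ⟨χ, hχ, hχe, -⟩ := IsReceptive.extend
        (IsSaturated.automized_receptive hS hF hYfn).2 hαh (range_autHom α)
      have hYT : Y ⊔ T ≤ extender S Y (Cfsg.Agent.S5120.amb α) :=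
        sup_le (le_extender hYS (apply_mem hαh)) (hTY.trans (centralizerIn_le_extender _))
      have hPT : P ⊔ T ≤ extender S Y (Cfsg.Agent.S5120.amb α) :=
        (sup_le_sup_right hP T).trans hYT
      set A := restr hPT χ with hA
      have hAF : A ∈ F.Hom (P ⊔ T) := restr_mem F hχ hPT
      have hAP : ∀ x : P, A ⟨x, Subgroup.mem_sup_left x.2⟩ = ih x := fun x => hχe x (hP x.2) _
      have hAr : A.range = P' ⊔ T := by
        rw [← img_self, img_sup A le_sup_left le_sup_right,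
          img_eq_of_stronglyClosed hTc hAF le_sup_right]
        congr 1
        ext y
        constructor
        · rintro ⟨x, hx, rfl⟩
          exact ⟨⟨x, hP hx⟩, hx, (hAP ⟨x, hx⟩).symm⟩
        · rintro ⟨x, hx, rfl⟩
          exact ⟨⟨x, Subgroup.mem_sup_left hx⟩, hx, hAP ⟨x, hx⟩⟩
      obtain ⟨dA, hdA, hdr, hdl, hdl'⟩ := exists_inv F hAF hAr
      have hd1 : ∀ y, dA y ∈ P ⊔ T := fun y => hdr.le ⟨y, rfl⟩
      have hbhr : ∀ y, bh y ∈ P ⊔ T := by
        have h : bh.range ≤ P ⊔ T := by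
          rw [← img_self, img_sup bh le_sup_left le_sup_right]
          refine sup_le_sup ?_ ?_
          · rintro _ ⟨x, hx, rfl⟩
            exact (congrArg (· ∈ P) (hext ⟨x, hx⟩)).mpr (β _).2
          · rintro _ ⟨x, hx, rfl⟩
            exact (congrArg (· ∈ T) (hfx ⟨x, hx⟩)).mpr hx
        exact fun y => h ⟨y, rfl⟩
      let c₁ := compose dA bh hd1
      refine mem_autGroup_of_hom CT ⟨autHom_mem F (hP'Y.trans hYS) hβ'F, hP'Y.trans hYU,
        fun x => hYU (hP'Y (β' x).2), compose c₁ A (fun y => hbhr _),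
        compose_mem F (compose_mem F hdA hbh hd1) hAF _, fun y => ?_, fun t => ?_⟩
      · obtain ⟨x, rfl⟩ := e.surjective y
        show A ⟨bh ⟨dA ⟨(e x : P'), _⟩, _⟩, _⟩ = ((β' (e x) : P') : Ω)
        rw [hv]
        have e1 : dA ⟨(e x : P'), Subgroup.mem_sup_left (e x).2⟩ = (x : Ω) := by
          have hx : A ⟨x, Subgroup.mem_sup_left x.2⟩ = ((e x : P') : Ω) := by
            rw [hAP]
            rfl
          have := hdl ⟨x, Subgroup.mem_sup_left x.2⟩ (hx.symm ▸ Subgroup.mem_sup_left (e x).2)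
          simp only [hx] at this
          exact this
        refine Eq.trans (congrArg A (Subtype.ext (a2 :=
          (⟨β x, Subgroup.mem_sup_left (β x).2⟩ : ↥(P ⊔ T))) ?_)) (hAP (β x))
        refine Eq.trans (congrArg bh (Subtype.ext (a2 :=
          (⟨x, Subgroup.mem_sup_left x.2⟩ : ↥(P ⊔ T))) e1)) ?_
        exact hext x
      · show A ⟨bh ⟨dA ⟨(t : Ω), _⟩, _⟩, _⟩ = (t : Ω)
        have hdT : dA ⟨(t : Ω), Subgroup.mem_sup_right t.2⟩ ∈ T :=
          StronglyClosed.map_mem hTc hdA _ t.2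
        have e1 : bh ⟨dA ⟨(t : Ω), Subgroup.mem_sup_right t.2⟩, hd1 _⟩ =
            dA ⟨(t : Ω), Subgroup.mem_sup_right t.2⟩ := hfx ⟨_, hdT⟩
        refine Eq.trans (congrArg A (Subtype.ext (a2 :=
          (⟨_, hd1 ⟨(t : Ω), Subgroup.mem_sup_right t.2⟩⟩ : ↥(P ⊔ T))) e1)) ?_
        exact hdl' _ _
    have hβ'D : β' ∈ D.autGroup P' := hDi.2.2 P' hP'Y (mem_map_pResidual_of_coprime _ hβ'C (by
      rw [hβ', MulEquiv.orderOf_eq]; exact hc))
    refine ⟨autHom β', autHom_mem D hP'Y hβ'D, fun x hx hφ h => ?_⟩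
    rw [show (⟨Cfsg.Agent.S5120.amb α ⟨x, hx⟩, h⟩ : P') = e x from Subtype.ext rfl, autHom_apply, hv]
    rfl
  have hA : ∀ g (hg : g ∈ S), ∃ hn : g ∈ Subgroup.normalizer (Y : Set Ω),
      conjAut hn ∈ F.autGroup Y := fun g hg =>
    ⟨le_normalizer_of_stronglyClosed hYc hg, conjAut_mem_autGroup F hYS hg _⟩
  -- factorization of the maps defined on `T`
  have hsplit : ∀ {Z : Subgroup Ω}, Z ≤ Y → ∀ ψ ∈ F.Hom (Z ⊔ T), ∃ a ∈ F.autGroup Y,
      ∃ φ₀ ∈ D.Hom Z, ∀ (x : Z) (h : φ₀ x ∈ Y),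
        ψ ⟨x, Subgroup.mem_sup_left x.2⟩ = ((a ⟨φ₀ x, h⟩ : Y) : Ω) := by
    intro Z hZ ψ hψ
    have hTψ := img_eq_of_stronglyClosed hTc hψ le_sup_right
    have hψT := restr_mem F hψ (le_sup_right : T ≤ Z ⊔ T)
    have hrT : (restr (le_sup_right : T ≤ Z ⊔ T) ψ).range = T := (range_restr _ _).trans hTψ
    set δ := isoOf _ (F.injective_of_mem hψT) hrT with hδ
    obtain ⟨χ₀, hχ₀, hχ₀e⟩ := exists_extension hS hF hTn
      (mem_autGroup_of_hom F (α := δ) hψT)
    have hYTc : Y ⊔ T ≤ ctr S T := sup_le (hYU.trans le_sup_right) (le_ctr S T)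
    set χ := restr hYTc (autHom χ₀) with hχd
    have hχ : χ ∈ F.Hom (Y ⊔ T) := restr_mem F (autHom_mem F (ctr_le hTS) hχ₀) hYTc
    have hχr : χ.range = Y ⊔ T := by
      rw [← img_self, img_sup χ le_sup_left le_sup_right,
        img_eq_of_stronglyClosed hYc hχ le_sup_left, img_eq_of_stronglyClosed hTc hχ le_sup_right]
    have hχY := restr_mem F hχ (le_sup_left : Y ≤ Y ⊔ T)
    have hrY : (restr (le_sup_left : Y ≤ Y ⊔ T) χ).range = Y :=
      (range_restr _ _).trans (img_eq_of_stronglyClosed hYc hχ le_sup_left)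
    set a := isoOf _ (F.injective_of_mem hχY) hrY with ha
    have haF : a ∈ F.autGroup Y := mem_autGroup_of_hom F hχY
    obtain ⟨dd, hdd, hddr, hddl, hddl'⟩ := exists_inv F hχ hχr
    have hψr : ∀ y, ψ y ∈ Y ⊔ T := by
      have h : ψ.range ≤ Y ⊔ T := by
        rw [← img_self, img_sup ψ le_sup_left le_sup_right, hTψ]
        refine sup_le_sup ?_ le_rfl
        rintro _ ⟨x, hx, rfl⟩
        exact StronglyClosed.map_mem hYc hψ x (hZ hx)
      exact fun y => h ⟨y, rfl⟩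
    let φ' := compose ψ dd hψr
    have hφ' : φ' ∈ F.Hom (Z ⊔ T) := compose_mem F hψ hdd hψr
    have hφZ : ∀ x : Z, φ' ⟨x, Subgroup.mem_sup_left x.2⟩ ∈ Y := fun x =>
      StronglyClosed.map_mem hYc hφ' _ (hZ x.2)
    have hmem : restr (le_sup_left : Z ≤ Z ⊔ T) φ' ∈ CT.Hom Z := by
      refine ⟨restr_mem F hφ' _, hZ.trans hYU, fun x => hYU (hφZ x), φ', hφ', fun x => rfl,
        fun t => ?_⟩
      show dd ⟨ψ _, _⟩ = (t : Ω)
      have e : χ ⟨t, Subgroup.mem_sup_right t.2⟩ = ψ (Subgroup.inclusion le_sup_right t) :=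
        hχ₀e t
      have h := hddl ⟨t, Subgroup.mem_sup_right t.2⟩ (e.symm ▸ hψr _)
      simp only [e] at h
      exact h
    obtain ⟨a₁, ha₁, φ₀, hφ₀, hfa⟩ := hDn.1.2.2.2.2.2 Z hZ _ hmem
    refine ⟨a * a₁, mul_mem haF (Fusion.autGroup_le_of_isSubsystemOf hCTsub Y ha₁), φ₀, hφ₀,
      fun x h => ?_⟩
    have e1 := hfa x h
    rw [MulAut.mul_apply]
    refine Eq.trans ?_ (congrArg (fun w => ((a w : Y) : Ω))
      (Subtype.ext e1 : (⟨φ' ⟨x, Subgroup.mem_sup_left x.2⟩, hφZ x⟩ : Y) = a₁ ⟨φ₀ x, h⟩))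
    exact (hddl' ⟨ψ ⟨x, Subgroup.mem_sup_left x.2⟩, hψr _⟩
      (Subgroup.mem_sup_left (hφZ x))).symm
  -- every map splits
  have hG : F ≤ Cfsg.Agent.S5120.splitSystem F D hA hinv := by
    refine le_of_centX_conditions hS hE _ (fun R hTR hR γ hγ => ?_) fun R hR γ hγ hfix => ?_
    · have hγh := autHom_mem F hR hγ
      refine ⟨hγh, fun x => (StronglyClosed.map_mem_iff hYc hγh x).symm, ?_⟩
      have hZT : R ⊓ Y ⊔ T ≤ R := sup_le inf_le_left hTR
      obtain ⟨a, ha, φ₀, hφ₀, h⟩ := hsplit (inf_le_right : R ⊓ Y ≤ Y) (restr hZT (autHom γ))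
        (restr_mem F hγh hZT)
      refine ⟨a, ha, fun Q hQR hQY => ⟨restr (le_inf hQR hQY) φ₀, restr_mem D hφ₀ _,
        fun x hx => ?_⟩⟩
      exact h ⟨x, hQR x.2, hQY x.2⟩ hx
    · have hγh := autHom_mem F hR hγ
      refine ⟨hγh, fun x => (StronglyClosed.map_mem_iff hYc hγh x).symm, 1, one_mem _,
        fun Q hQR hQY => ⟨Q.subtype, subtype_mem D hQY, fun x hx => ?_⟩⟩
      exact congrArg Subtype.val (hfix ⟨x, hQR x.2⟩ (by rw [hY]; exact hQY x.2))
  refine ⟨D, ⟨⟨hDs, hF, hDF, hYc, fun P hP φ hφ α hα => ?_, fun P hP φ hφ => ?_⟩, ?_⟩,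
    fun P φ hφ => hDi.1 P hφ⟩
  · obtain ⟨χ, hχ, he⟩ := hinv α hα P hP φ hφ
    exact ⟨χ, hχ, fun x hφx hαx => he x (hP x.2) hφx hαx⟩
  · obtain ⟨-, α, hα, h⟩ := (hG P hφ).2
    obtain ⟨φ₀, hφ₀, he⟩ := h P le_rfl hP
    exact ⟨α, hα, φ₀, hφ₀, fun x hx => he x hx⟩
  -- the extension property
  have := finite_mulAut hYS
  suffices h : D.autGroup Y ≤ extGroup F hYS from fun α hα => h hα
  obtain ⟨⟨-, RD, hRD⟩, -⟩ :=
    IsSaturated.automized_receptive hYp hDs (isFullyNormalized_top D)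
  obtain ⟨m, hm⟩ : ∃ m, Nat.card S = p ^ m := IsPGroup.iff_card.1 hS
  have hRW : (RD : Subgroup (D.autGroup Y)) ≤ (extGroup F hYS).subgroupOf (D.autGroup Y) := by
    rw [hRD]
    intro γ hγ
    obtain ⟨t, htn, htY, hte⟩ := mem_autInducedBy_iff_conjAut.1 (Subgroup.mem_subgroupOf.1 hγ)
    have hX : Y ⊔ centralizerIn S Y ≤ S := sup_le hYS (centralizerIn_le S Y)
    have htX : t ∈ Subgroup.normalizer ((Y ⊔ centralizerIn S Y : Subgroup Ω) : Set Ω) :=
      Subgroup.le_normalizer (Subgroup.mem_sup_left htY)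
    refine Subgroup.mem_subgroupOf.2 ⟨conjAut htX, conjAut_mem_autGroup F hX (hYS htY) htX,
      fun x => ?_, fun c hc => ?_⟩
    · rw [← hte]
      rfl
    · show (c : Ω)⁻¹ * (t * (c : Ω) * t⁻¹) ∈ _
      rw [(Subgroup.mem_centralizer_iff.1 hc.2 t htY), mul_inv_cancel_right, inv_mul_cancel]
      exact one_mem _
  have htop : (extGroup F hYS).subgroupOf (D.autGroup Y) = ⊤ := by
    refine eq_top_of_pow_mem _ RD hRW (m := m) fun α => ?_
    rw [Subgroup.mem_subgroupOf, SubmonoidClass.coe_pow, ← hm]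
    obtain ⟨β₁, hβ₁, hβ₁Y, hβ₁C⟩ := hDn.2 α α.2
    have hdom : Y ⊔ centralizerIn U Y ≤ U := sup_le hYU (centralizerIn_le U Y)
    obtain ⟨-, -, -, ψ₁, hψ₁, hext₁, hfx₁⟩ := autHom_mem CT hdom hβ₁
    have hCeq : centralizerIn S (Y ⊔ T) ≤ centralizerIn U Y := fun x hx =>
      mem_centralizerIn.2 ⟨mem_centralizerIn.2 ⟨hx.1, fun t ht =>
          (mem_centralizerIn.1 hx).2 t (Subgroup.mem_sup_right ht)⟩,
        fun y hy => (mem_centralizerIn.1 hx).2 y (Subgroup.mem_sup_left hy)⟩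
    have hle : ctr S (Y ⊔ T) ≤ (Y ⊔ centralizerIn U Y) ⊔ T := sup_le
      (sup_le (le_sup_left.trans le_sup_left) le_sup_right)
      (hCeq.trans (le_sup_right.trans le_sup_left))
    refine pow_card_mem_extGroup hS hF hTc hYc hYU (restr hle ψ₁) (restr_mem F hψ₁ hle)
      (fun x h => ?_) (fun x h => ?_) (fun x h => ?_)
    · exact (hext₁ ⟨x, Subgroup.mem_sup_left h⟩).trans (hβ₁Y ⟨x, h⟩)
    · exact hfx₁ ⟨x, h⟩
    · have h' := hCeq h
      have h1 := hβ₁C ⟨x, Subgroup.mem_sup_right h'⟩ h'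
      show (x : Ω)⁻¹ * restr hle ψ₁ x ∈ _
      rwa [show restr hle ψ₁ x = ((β₁ ⟨x, Subgroup.mem_sup_right h'⟩ : _) : Ω) from
        hext₁ ⟨x, Subgroup.mem_sup_right h'⟩]
  intro α hα
  exact Subgroup.mem_subgroupOf.1
    (htop ▸ Subgroup.mem_top (⟨α, hα⟩ : D.autGroup Y) :
      (⟨α, hα⟩ : D.autGroup Y) ∈ (extGroup F hYS).subgroupOf (D.autGroup Y))

end Cfsg.Agent.Lib.Fusion.PrimeIndex
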