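import Cfsg.Agent.Lib.Fusion.PrimeIndex.Label
import Cfsg.Agent.Lib.Fusion.Factor
import Cfsg.Agent.Lib.Fusion.NormalCriteria

/-!
A character of order prime to `p` on the automizer of the base of an invariant subsystem.
-/

set_option autoImplicit false
set_option linter.unusedSectionVars false

namespace Cfsg.Agent.Lib.Fusion.PrimeIndex

open Cfsg Cfsg.FusionSystem

/-- The data: an invariant saturated subsystem `E` over `T` and a character killing `Aut_E(T)`. -/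
structure CharData {Ω : Type*} [Group Ω] {S : Subgroup Ω} (p : ℕ) (F : FusionSystem S)
    {T : Subgroup Ω} (E : FusionSystem T) {Δ : Type*} [Group Δ] (χ : F.autGroup T →* Δ) :
    Prop where
  pgroup : IsPGroup p S
  saturated : F.IsSaturated p
  satE : E.IsSaturated p
  inv : E.IsInvariantIn F
  coprime : (Nat.card Δ).Coprime p
  ker : ∀ a : F.autGroup T, (a : MulAut T) ∈ E.autGroup T → χ a = 1

variable {Ω : Type*} [Group Ω] {S : Subgroup Ω} {p : ℕ} [Fact p.Prime] [Finite S]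
  {F : FusionSystem S} {T : Subgroup Ω} {E : FusionSystem T} {Δ : Type*} [Group Δ] [Finite Δ]
  {χ : F.autGroup T →* Δ}

theorem CharData.le (D : CharData p F E χ) : T ≤ S := D.inv.2.1.1

theorem CharData.finite (D : CharData p F E χ) : Finite T := finite_of_le D.le

theorem CharData.pgroupT (D : CharData p F E χ) : IsPGroup p T := D.pgroup.to_le D.le

theorem CharData.lab (D : CharData p F E χ) : LabData p F E χ :=
  ⟨D.pgroup, D.le, D.satE, D.inv.1, le_rfl, D.inv.2.2.1, D.coprime, D.ker⟩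

theorem CharData.normal (D : CharData p F E χ) : S ≤ Subgroup.normalizer (T : Set Ω) :=
  WeaklyClosed.le_normalizer (StronglyClosed.weaklyClosed D.inv.2.1)

theorem exists_xl (D : CharData p F E χ) {P : Subgroup Ω} (hP : P ≤ T) {φ : P →* Ω}
    (hφ : φ ∈ F.Hom P) : ∃ d, XL E χ d φ := by
  obtain ⟨a, ha, e, he, hex⟩ := D.inv.2.2.2 P hP φ hφ
  exact ⟨_, ⟨a, ha⟩, rfl, e, he, hex⟩

theorem isCentric_E_of_conj (D : CharData p F E χ) {Q Q' : Subgroup Ω} (hQ : E.IsCentric Q)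
    (h : F.IsConj Q Q') : E.IsCentric Q' := by
  have hQ'T : Q' ≤ T := by
    obtain ⟨φ, hφ, rfl⟩ := h
    rintro _ ⟨x, rfl⟩
    exact D.inv.2.1.2 Q hQ.1 φ hφ x
  refine ⟨hQ'T, fun Q'' hQ'' g hg => ?_⟩
  obtain ⟨φ, hφ, rfl⟩ : F.IsConj Q Q'' := by
    refine isConj_trans h ?_
    obtain ⟨f, hf, hfr⟩ := hQ''
    exact ⟨f, D.inv.1 _ hf, hfr⟩
  obtain ⟨a, -, e, he, hex⟩ := D.inv.2.2.2 Q hQ.1 φ hφ
  have hgT := (mem_centralizerIn.1 hg).1
  have hmem : (a⁻¹ ⟨g, hgT⟩ : T) ∈ e.range.subgroupOf T := by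
    refine hQ.2 e.range ⟨e, he, rfl⟩ (mem_centralizerIn.2 ⟨SetLike.coe_mem _, ?_⟩)
    rintro _ ⟨x, rfl⟩
    have h2 : (a ⟨e x, apply_mem he x⟩ : T) = ⟨φ x, D.inv.2.1.2 Q hQ.1 φ hφ x⟩ :=
      Subtype.ext (hex x _).symm
    have h3 : (⟨φ x, D.inv.2.1.2 Q hQ.1 φ hφ x⟩ : T) * ⟨g, hgT⟩ =
        ⟨g, hgT⟩ * ⟨φ x, D.inv.2.1.2 Q hQ.1 φ hφ x⟩ :=
      Subtype.ext ((mem_centralizerIn.1 hg).2 (φ x) ⟨x, rfl⟩)
    have h4 := congrArg (a⁻¹ : MulAut T) h3
    rw [← h2, map_mul, map_mul, MulAut.inv_apply, MulEquiv.symm_apply_apply] at h4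
    exact congrArg Subtype.val h4
  obtain ⟨x, hx⟩ := hmem
  refine ⟨x, (hex x (apply_mem he x)).trans ?_⟩
  have e5 : (⟨e x, apply_mem he x⟩ : T) = a⁻¹ ⟨g, hgT⟩ := Subtype.ext hx
  rw [e5]
  exact congrArg Subtype.val (a.apply_symm_apply ⟨g, hgT⟩)

theorem img_inf (D : CharData p F E χ) {P : Subgroup Ω} {φ : P →* Ω} (hφ : φ ∈ F.Hom P) :
    img φ (P ⊓ T) = φ.range ⊓ T := by
  ext y
  rw [mem_img]
  constructor
  · rintro ⟨x, hx, hxT, rfl⟩
    exact ⟨⟨_, rfl⟩, StronglyClosed.map_mem D.inv.2.1 hφ _ hxT.2⟩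
  · rintro ⟨⟨x, rfl⟩, hy⟩
    exact ⟨x, x.2, ⟨x.2, (StronglyClosed.map_mem_iff D.inv.2.1 hφ x).1 hy⟩, rfl⟩

/-- An element of `T` centralizing `R ∩ T` and normalizing `R` lies in `R`, for `R` conjugate to a
centric radical subgroup. -/
theorem mem_of_centralizes (D : CharData p F E χ) {R₀ R : Subgroup Ω} (hc : F.IsCentric R₀)
    (hr : F.IsRadical p R₀) (hR : F.IsConj R₀ R) {g : Ω} (hgT : g ∈ T)
    (hgR : g ∈ Subgroup.normalizer (R : Set Ω)) (hg : ∀ x ∈ R ⊓ T, g * x * g⁻¹ = x) : g ∈ R := by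
  obtain ⟨φ, hφ, hφr⟩ := hR
  set i := isoOf φ (F.injective_of_mem hφ) hφr with hi
  have hgS := D.le hgT
  have hRS : R ≤ S := hφr ▸ range_le hφ
  have hR0S := hc.1
  have := finite_of_le hR0S
  have hgN : g ∈ normalizerIn S R := ⟨hgS, hgR⟩
  obtain ⟨c, hc', hcr, hcl, hcl'⟩ := exists_inv F hφ hφr
  set β := MulAut.congr i.symm (conjAut hgR) with hβ
  have hβA : β ∈ F.autGroup R₀ := by
    have h1 := map_congr_autGroup F hφ hφr
    have h2 : conjAut hgR ∈ F.autGroup R := conjAut_mem_autGroup F hRS hgS hgR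
    rw [← h1] at h2
    obtain ⟨γ, hγ, hγe⟩ := h2
    have e : β = γ := by
      rw [hβ, ← hγe]
      exact (MulAut.congr i).symm_apply_apply γ
    rw [e]
    exact hγ
  have hbx : ∀ x : R₀, φ (β x) = g * φ x * g⁻¹ := by
    intro x
    have : i (β x) = conjAut hgR (i x) := i.apply_symm_apply _
    exact congrArg Subtype.val this
  have hinn : β ∈ Inn R₀ := by
    rw [← hr.2]
    let W : ℕ → Subgroup R₀ := fun n => if n = 0 then ⊥ else if n = 1 then T.subgroupOf R₀ else ⊤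
    refine stab_mem_pCore (D.pgroup.to_le hR0S) _ W 2 (by simp [W]) (by simp [W]) ?_ hβA ?_
    · intro α hα n x hx
      simp only [W] at hx ⊢
      split_ifs at hx ⊢ with h0 h1
      · rw [Subgroup.mem_bot] at hx ⊢
        rw [hx, map_one]
      · exact StronglyClosed.map_mem D.inv.2.1 (autHom_mem F hR0S hα) x hx
      · exact Subgroup.mem_top _
    · intro n hn x hx
      interval_cases n
      · simp only [W, one_ne_zero, if_false, if_true, zero_add] at hx ⊢
        rw [Subgroup.mem_bot, inv_mul_eq_one]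
        refine Subtype.ext (congrArg Subtype.val (F.injective_of_mem hφ ?_))
        rw [hbx]
        exact (hg (φ x) ⟨hφr.le ⟨x, rfl⟩, StronglyClosed.map_mem D.inv.2.1 hφ x hx⟩).symm
      · simp only [W, one_ne_zero, if_false, if_true] at hx ⊢
        show ((x⁻¹ * β x : R₀) : Ω) ∈ T
        refine (StronglyClosed.map_mem_iff D.inv.2.1 hφ (x⁻¹ * β x)).1 ?_
        rw [map_mul, map_inv, hbx]
        have h1 : (φ x)⁻¹ * g * φ x ∈ T := by
          have := conj_mem_of_mem_normalizer (D.normal (S.inv_mem (apply_mem hφ x))) hgT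
          rwa [inv_inv] at this
        rw [show (φ x)⁻¹ * (g * φ x * g⁻¹) = (φ x)⁻¹ * g * φ x * g⁻¹ by group]
        exact T.mul_mem h1 (T.inv_mem hgT)
  obtain ⟨y, hy⟩ := hinn
  refine mem_of_conjAut_inn (F := F) (isCentric_of_isConj hc ⟨φ, hφ, hφr⟩) hgN ⟨i y, ?_⟩
  refine MulEquiv.ext fun z => ?_
  obtain ⟨x, rfl⟩ := i.surjective z
  have h1 : β x = y * x * y⁻¹ := congrArg (fun α : MulAut R₀ => α x) hy.symm
  show i y * i x * (i y)⁻¹ = conjAut hgR (i x)
  rw [← map_inv, ← map_mul, ← map_mul, ← h1]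
  exact i.apply_symm_apply _

/-- The part in `T` of a centric radical subgroup is centric in `E`. -/
theorem isCentric_inf (D : CharData p F E χ) {R₀ : Subgroup Ω} (hc : F.IsCentric R₀)
    (hr : F.IsRadical p R₀) : E.IsCentric (R₀ ⊓ T) := by
  have := D.finite
  have hR0S := hc.1
  have hN0 : R₀ ≤ normalizerIn S (R₀ ⊓ T) := fun r hr' => by
    refine ⟨hR0S hr', ?_⟩
    have := finite_of_le (inf_le_left.trans hR0S : R₀ ⊓ T ≤ S)
    exact mem_normalizer_of_finite fun x hx => ⟨R₀.mul_mem (R₀.mul_mem hr' hx.1) (R₀.inv_mem hr'),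
      conj_mem_of_mem_normalizer (D.normal (hR0S hr')) hx.2⟩
  obtain ⟨Q₁, hQQ₁, hQ₁⟩ := exists_fullyNormalized F (inf_le_left.trans hR0S : R₀ ⊓ T ≤ S)
  obtain ⟨ψ, hψ, -, hψQ⟩ := IsSaturated.exists_normalizer_map D.pgroup D.saturated hQ₁ hQQ₁
  set ψ₀ := Fusion.restr hN0 ψ with hψ₀
  have hψ₀F : ψ₀ ∈ F.Hom R₀ := restr_mem F hψ hN0
  set R := ψ₀.range with hR
  have hRS : R ≤ S := range_le hψ₀F
  have hQ₁e : Q₁ = R ⊓ T := by
    rw [hR, ← img_inf D hψ₀F, hψ₀, img_restr _ _ inf_le_left, hψQ]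
  have hcT : centralizerIn T Q₁ ≤ Q₁ := by
    set C := centralizerIn T Q₁ with hC
    have hCS : C ≤ S := (centralizerIn_le T Q₁).trans D.le
    have hRC : R ≤ Subgroup.normalizer (C : Set Ω) := by
      intro r hr'
      have := finite_of_le hCS
      refine mem_normalizer_of_finite fun c hc' => mem_centralizerIn_iff_conj.2
        ⟨conj_mem_of_mem_normalizer (D.normal (hRS hr')) hc'.1, fun x hx => ?_⟩
      rw [hQ₁e] at hx
      have hx' : r⁻¹ * x * r⁻¹⁻¹ ∈ Q₁ := hQ₁e ▸ ⟨R.mul_mem (R.mul_mem (R.inv_mem hr') hx.1)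
        (R.inv_mem (R.inv_mem hr')), conj_mem_of_mem_normalizer (D.normal (S.inv_mem (hRS hr'))) hx.2⟩
      have h1 := (mem_centralizerIn_iff_conj.1 hc').2 _ hx'
      calc r * c * r⁻¹ * x * (r * c * r⁻¹)⁻¹
          = r * (c * (r⁻¹ * x * r⁻¹⁻¹) * c⁻¹) * r⁻¹ := by group
        _ = r * (r⁻¹ * x * r⁻¹⁻¹) * r⁻¹ := by rw [h1]
        _ = x := by group
    have hMS : C ⊔ R ≤ S := sup_le hCS hRS
    have hMR : C ⊔ R ≤ R := by
      by_contra hne
      have hlt : R < C ⊔ R := lt_of_le_of_ne le_sup_right fun e => hne e.ge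
      have := finite_of_le hMS
      obtain ⟨g, hg, hgR⟩ := SetLike.exists_of_lt (lt_normalizerIn (D.pgroup.to_le hMS) hlt)
      have hg1 : g ∈ ((C ⊔ R : Subgroup Ω) : Set Ω) := hg.1
      rw [Subgroup.coe_mul_of_right_le_normalizer_left C R hRC] at hg1
      obtain ⟨c, hc', r, hr', hcr⟩ := Set.mem_mul.1 hg1
      have hcn : c ∈ Subgroup.normalizer (R : Set Ω) := by
        have := mul_mem hg.2 (Subgroup.inv_mem _ (Subgroup.le_normalizer hr'))
        rwa [← hcr, mul_inv_cancel_right] at this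
      refine hgR (hcr ▸ R.mul_mem ?_ hr')
      exact mem_of_centralizes D hc hr ⟨ψ₀, hψ₀F, rfl⟩ hc'.1 hcn fun x hx =>
        (mem_centralizerIn_iff_conj.1 hc').2 x (hQ₁e ▸ hx)
    intro c hc'
    rw [hQ₁e]
    exact ⟨hMR (Subgroup.mem_sup_left hc'), hc'.1⟩
  refine ⟨inf_le_right, fun Q' hQ' g hg => ?_⟩
  have hQ'F : F.IsConj (R₀ ⊓ T) Q' := by
    obtain ⟨f, hf, hfr⟩ := hQ'
    exact ⟨f, D.inv.1 _ hf, hfr⟩
  obtain ⟨ψ', hψ', hval, hψ'Q⟩ := IsSaturated.exists_normalizer_map D.pgroup D.saturated hQ₁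
    (isConj_trans (isConj_symm hQ'F) hQQ₁)
  have hgN : g ∈ normalizerIn S Q' :=
    centralizerIn_le_normalizerIn S Q' ⟨D.le hg.1, hg.2⟩
  have h1 : ψ' ⟨g, hgN⟩ ∈ Q₁ := by
    refine hcT (mem_centralizerIn.2 ⟨StronglyClosed.map_mem D.inv.2.1 hψ' _ hg.1, ?_⟩)
    rw [← hψ'Q]
    rintro _ ⟨q, hq, rfl⟩
    rw [← map_mul, ← map_mul]
    exact congrArg ψ' (Subtype.ext ((mem_centralizerIn.1 hg).2 q hq))
  obtain ⟨q, hq, hqg⟩ := hψ'Q.ge h1
  rw [F.injective_of_mem hψ' hqg] at hq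
  exact hq

/-- Restriction from `Aut_F(S)` to `Aut_F(T)`. -/
noncomputable def resT (D : CharData p F E χ) : F.autGroup S →* F.autGroup T where
  toFun α := ⟨isoOf (Fusion.restr D.le (autHom (α : MulAut S)))
      (F.injective_of_mem (restr_mem F (autHom_mem F le_rfl α.2) D.le))
      ((StronglyClosed.weaklyClosed D.inv.2.1).2 _ (restr_mem F (autHom_mem F le_rfl α.2) D.le)),
    mem_autGroup_of_hom F (restr_mem F (autHom_mem F le_rfl α.2) D.le)⟩
  map_one' := Subtype.ext (MulEquiv.ext fun x => Subtype.ext rfl)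
  map_mul' α β := Subtype.ext (MulEquiv.ext fun x => Subtype.ext rfl)

theorem resT_apply (D : CharData p F E χ) (α : F.autGroup S) (t : T) :
    ((((resT D α) : MulAut T) t : T) : Ω) = (((α : MulAut S) ⟨(t : Ω), D.le t.2⟩ : S) : Ω) :=
  rfl

/-- The maps with trivial label on the part in `T`. -/
def trivSystem (D : CharData p F E χ) : FusionSystem S where
  Hom P := {φ | φ ∈ F.Hom P ∧ (E.IsCentric (P ⊓ T) →
    XL E χ 1 (Fusion.restr (inf_le_left : P ⊓ T ≤ P) φ))}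
  le_of_mem h := F.le_of_mem h.1
  injective_of_mem h := F.injective_of_mem h.1
  conj_mem {P g} hP hg := by
    refine ⟨F.conj_mem hP hg, fun hc => ?_⟩
    have := D.finite
    have hgT := D.normal hg
    have h1 : χ ⟨conjAut hgT, conjAut_mem_autGroup F D.le hg hgT⟩ = 1 := by
      obtain ⟨k, hk⟩ := isPEl_conjAut D.pgroup hg hgT
      refine eq_one_of_pow_eq_one D.coprime (k := k) ?_
      rw [← map_pow]
      convert map_one χ
      exact Subtype.ext hk
    have h2 := (XL.autHom_self (E := E) (χ := χ)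
      ⟨conjAut hgT, conjAut_mem_autGroup F D.le hg hgT⟩).restr (inf_le_right : P ⊓ T ≤ T)
    rw [h1] at h2
    exact h2
  comp_mem {P Q φ ψ} hφ hψ h := by
    refine ⟨F.comp_mem hφ.1 hψ.1 h, fun hc => ?_⟩
    have := D.finite
    have h1 : ∀ x : ↥(P ⊓ T), φ ⟨x, x.2.1⟩ ∈ Q ⊓ T := fun x =>
      ⟨h _, StronglyClosed.map_mem D.inv.2.1 hφ.1 _ x.2.2⟩
    have hle : img φ (P ⊓ T) ≤ Q ⊓ T := by
      rintro _ ⟨x, hx, rfl⟩
      exact h1 ⟨x, hx⟩
    have hQc : E.IsCentric (Q ⊓ T) := isCentric_of_le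
      (isCentric_E_of_conj D hc (isConj_img F hφ.1 inf_le_left)) hle inf_le_right
    have h2 := (hφ.2 hc).comp D.lab (hψ.2 hQc) h1
      (ρ := compose (Fusion.restr inf_le_left φ) (Fusion.restr inf_le_left ψ) h1) fun _ => rfl
    rw [one_mul] at h2
    convert h2 using 1
    exact MonoidHom.ext fun x => rfl
  inv_mem {P φ} hφ := by
    obtain ⟨c, hc, hcr, hl, -⟩ := exists_inv F hφ.1 rfl
    refine ⟨c, ⟨hc, fun hcc => ?_⟩, fun x => hl x _⟩
    have := D.finite
    have himg := img_inf D hφ.1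
    have hP : E.IsCentric (P ⊓ T) := by
      refine isCentric_E_of_conj D hcc (isConj_symm ?_)
      exact himg ▸ isConj_img F hφ.1 inf_le_left
    have := (hφ.2 hP).inv D.lab (c := Fusion.restr (inf_le_left : φ.range ⊓ T ≤ φ.range) c)
      ((range_restr _ φ).trans himg) fun x hx => hl ⟨x, x.2.1⟩ _
    rwa [inv_one] at this

theorem gen_le_triv (D : CharData p F E χ) : gen F p ≤ trivSystem D := by
  refine gen_le_of fun W hW σ hσ hp => ⟨autHom_mem F hW.1 hσ, fun hc => ?_⟩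
  have hσU : ∀ x : W, (x : Ω) ∈ W ⊓ T → ((σ x : W) : Ω) ∈ W ⊓ T := fun x hx =>
    ⟨(σ x).2, StronglyClosed.map_mem D.inv.2.1 (autHom_mem F hW.1 hσ) x hx.2⟩
  obtain ⟨d, hd⟩ := exists_xl D inf_le_right
    (restr_mem F (autHom_mem F hW.1 hσ) (inf_le_left : W ⊓ T ≤ W))
  have h1 := xl_pel_of D.lab inf_le_left hp hc hσU (fun _ hR _ => uc_of_centric D.lab hR) hd
  rwa [h1] at hd

/-- The pulled back character kills the forced subgroup. -/
theorem baseAut_le_char (D : CharData p F E χ) :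
    baseAut F p ≤ (χ.comp (resT D)).ker.map (F.autGroup S).subtype := by
  refine baseAut_le_ker D.pgroup D.saturated _ fun P R₀ hPc hPR hR hr α hP hα => ?_
  have hc := isCentric_inf D (isCentric_of_isConj hPc hPR) hr
  have hP' : E.IsCentric (P ⊓ T) := by
    obtain ⟨f, hf, hfr⟩ := isConj_symm hPR
    have e := img_inf D hf
    rw [hfr] at e
    exact isCentric_E_of_conj D hc (e ▸ isConj_img F hf inf_le_left)
  have h1 := (gen_le_triv D P hα).2 hP'
  have h2 := (XL.autHom_self (E := E) (χ := χ) (resT D α)).restr (inf_le_right : P ⊓ T ≤ T)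
  exact (XL.unique D.lab hP' h1 h2).symm

/-- A map of `E` with centric source decomposes with trivial character. -/
theorem weight_of_mem (D : CharData p F E χ) {P : Subgroup Ω} (hP : E.IsCentric P) {φ : P →* Ω}
    (hφ : φ ∈ E.Hom P) {α : F.autGroup S} (hα : Dec F p (α : MulAut S) φ) :
    χ (resT D α) = 1 := by
  obtain ⟨-, e, he, hex⟩ := hα
  have hPT : P ⊓ T = P := inf_eq_left.2 hP.1
  have h1 := (gen_le_triv D P he).2 (hPT.symm ▸ hP)
  have hle : P ≤ P ⊓ T := hPT.ge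
  have h2 : XL E χ 1 e := h1.restr hle
  have heT : ∀ x, e x ∈ T := fun x => D.inv.2.1.2 P hP.1 e (gen_le F p P he) x
  have h3 : XL E χ (χ (resT D α) * 1) φ :=
    h2.comp D.lab (XL.autHom_self (resT D α)) heT fun x => hex x (D.le (heT x))
  rw [mul_one] at h3
  exact XL.unique D.lab hP h3 (XL.of_mem hφ)

theorem subsystem_char (D : CharData p F E χ) : E.IsSubsystemOf
    (subSystem D.pgroup F ((χ.comp (resT D)).ker.map (F.autGroup S).subtype)) := by
  have := D.finite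
  set F₀ := subSystem D.pgroup F ((χ.comp (resT D)).ker.map (F.autGroup S).subtype) with hF₀
  let R : FusionSystem T :=
    { Hom := fun P => {φ | P ≤ T ∧ (∀ x, φ x ∈ T) ∧ φ ∈ F₀.Hom P}
      le_of_mem := fun h => ⟨h.1, h.2.1⟩
      injective_of_mem := fun h => F₀.injective_of_mem h.2.2
      conj_mem := fun {P g} hP hg => ⟨hP,
        fun x => T.mul_mem (T.mul_mem hg (hP x.2)) (T.inv_mem hg),
        F₀.conj_mem (hP.trans D.le) (D.le hg)⟩
      comp_mem := fun {P Q φ ψ} hφ hψ h =>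
        ⟨hφ.1, fun x => hψ.2.1 _, F₀.comp_mem hφ.2.2 hψ.2.2 h⟩
      inv_mem := fun {P φ} hφ => by
        obtain ⟨c, hc, hcr, hl, -⟩ := exists_inv F₀ hφ.2.2 rfl
        refine ⟨c, ⟨?_, fun y => hφ.1 (hcr.le ⟨y, rfl⟩), hc⟩, fun x => hl x _⟩
        rintro _ ⟨x, rfl⟩
        exact hφ.2.1 x }
  have key : ∀ P, E.IsCentric P → ∀ a ∈ E.autGroup P, a ∈ R.autGroup P := by
    intro P hP a ha
    have haE := autHom_mem E hP.1 ha
    obtain ⟨α, hα⟩ := exists_dec (p := p) D.pgroup D.saturated (D.inv.1 P haE)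
    refine mem_autGroup_of_hom R ⟨hP.1, fun x => hP.1 (a x).2, D.inv.1 P haE, α,
      ⟨⟨α, hα.1⟩, weight_of_mem D hP haE hα, rfl⟩, Lab.of_dec hα⟩
  have hle : E ≤ R := alperin_ind D.pgroupT D.satE R (fun a ha => key T (isCentric_self E) a ha)
    fun P hP _ a ha => key P hP.1 a ha
  exact fun P φ hφ => (hle P hφ).2.2

/-- The pulled back character is not trivial. -/
theorem exists_char_ne_one (D : CharData p F E χ) [Nontrivial Δ] (hχ : Function.Surjective χ) :
    ∃ α : F.autGroup S, χ (resT D α) ≠ 1 := by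
  by_contra hne
  push Not at hne
  have := finite_mulAut D.le
  have hTn : F.IsFullyNormalized T := by
    refine ⟨D.le, fun Q ⟨φ, hφ, hr⟩ => ?_⟩
    have : Q = T := hr.symm.trans ((StronglyClosed.weaklyClosed D.inv.2.1).2 φ hφ)
    rw [this]
  obtain ⟨⟨-, R, hR⟩, -⟩ := IsSaturated.automized_receptive D.pgroup D.saturated hTn
  have hRM : (R : Subgroup (F.autGroup T)) ≤ χ.ker := by
    intro a ha
    obtain ⟨k, hk⟩ := R.2 ⟨a, ha⟩
    refine eq_one_of_pow_eq_one D.coprime (k := k) ?_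
    rw [← map_pow]
    convert map_one χ
    exact congrArg Subtype.val hk
  have hNM : Subgroup.normalizer ((R : Subgroup (F.autGroup T)) : Set (F.autGroup T)) ≤ χ.ker := by
    rintro ⟨n, hn⟩ hnN
    obtain ⟨ψ, hψ, hext⟩ := exists_extension_of_normalizes D.pgroup D.saturated hTn hn
      (fun β hβ => by
        have hβA : β ∈ F.autGroup T := autInducedBy_le_autGroup F D.le hβ
        have h1 := (Subgroup.mem_normalizer_iff.1 hnN ⟨β, hβA⟩).1 (by rw [hR]; exact hβ)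
        rw [hR] at h1
        exact h1)
    have hNS : S ≤ normalizerIn S T := fun g hg => ⟨hg, D.normal hg⟩
    have hψ' := restr_mem F hψ hNS
    have hr : (Fusion.restr hNS ψ).range = S :=
      Subgroup.eq_of_le_of_card_ge (range_le hψ') (card_range_eq (F.injective_of_mem hψ')).ge
    have h2 := hne ⟨isoOf _ (F.injective_of_mem hψ') hr, mem_autGroup_of_hom F hψ'⟩
    refine Eq.trans (congrArg χ (Subtype.ext (MulEquiv.ext fun t => Subtype.ext ?_))) h2
    exact (hext t t.2 (hNS (D.le t.2))).symm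
  have htop := eq_top_of_frattini χ.ker χ.ker R hRM hNM le_rfl
  obtain ⟨d, hd⟩ := exists_ne (1 : Δ)
  obtain ⟨a, rfl⟩ := hχ d
  exact hd (htop ▸ Subgroup.mem_top a : a ∈ χ.ker)

end Cfsg.Agent.Lib.Fusion.PrimeIndex
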