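import Cfsg.Agent.Lib.Fusion.PrimeIndex.Transport
import Cfsg.Agent.Lib.Fusion.Inner

/-!
Conjugates of components are components, and the layer is characteristic.
-/

set_option autoImplicit false
set_option linter.unusedSectionVars false

namespace Cfsg.Agent.Lib.Fusion.PrimeIndex

open Cfsg Cfsg.FusionSystem

variable {Ω : Type*} [Group Ω] {S : Subgroup Ω}

/-- The graph of a map defined on a subgroup. -/
def homGraph {Ω' : Type*} [Group Ω'] {T : Subgroup Ω} (γ : T →* Ω') : Subgroup (Ω × Ω') :=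
  (T.subtype.prod γ).range

theorem mem_homGraph {Ω' : Type*} [Group Ω'] {T : Subgroup Ω} {γ : T →* Ω'} {x : Ω} {y : Ω'} :
    (x, y) ∈ homGraph γ ↔ ∃ w : T, (w : Ω) = x ∧ γ w = y := mem_prodRange

theorem isGraph_homGraph {Ω' : Type*} [Group Ω'] {T : Subgroup Ω} {γ : T →* Ω'}
    (hγ : Function.Injective γ) : IsGraph (homGraph γ) := by
  constructor
  · intro x y y' h h'
    obtain ⟨w, rfl, rfl⟩ := mem_homGraph.1 h
    obtain ⟨w', hw, rfl⟩ := mem_homGraph.1 h'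
    rw [Subtype.ext hw]
  · intro x x' y h h'
    obtain ⟨w, rfl, rfl⟩ := mem_homGraph.1 h
    obtain ⟨w', rfl, hw⟩ := mem_homGraph.1 h'
    rw [hγ hw]

theorem gimg_homGraph {Ω' : Type*} [Group Ω'] {T : Subgroup Ω} (γ : T →* Ω') (P : Subgroup Ω) :
    gimg (homGraph γ) P = (P.subgroupOf T).map γ := by
  ext y
  rw [mem_gimg]
  constructor
  · rintro ⟨x, hx, hxy⟩
    obtain ⟨w, rfl, rfl⟩ := mem_homGraph.1 hxy
    exact ⟨w, hx, rfl⟩
  · rintro ⟨w, hw, rfl⟩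
    exact ⟨w, hw, mem_homGraph.2 ⟨w, rfl, rfl⟩⟩

theorem swapG_homGraph {T T' : Subgroup Ω} {γ : T →* Ω} {δ : T' →* Ω}
    (hγ : ∀ w : T, ∃ h : γ w ∈ T', δ ⟨γ w, h⟩ = w) (hδ : ∀ w : T', ∃ h : δ w ∈ T, γ ⟨δ w, h⟩ = w) :
    swapG (homGraph γ) = homGraph δ := by
  ext ⟨y, x⟩
  rw [mem_swapG, mem_homGraph, mem_homGraph]
  constructor
  · rintro ⟨w, rfl, rfl⟩
    obtain ⟨h, e⟩ := hγ w
    exact ⟨⟨γ w, h⟩, rfl, e⟩
  · rintro ⟨w, rfl, rfl⟩
    obtain ⟨h, e⟩ := hδ w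
    exact ⟨⟨δ w, h⟩, rfl, e⟩

/-- An isomorphism of a system with itself from the two one-sided conditions. -/
theorem sysIso_self {D : FusionSystem S} {γ δ : S →* Ω} (hinj : Function.Injective γ)
    (hγ : ∀ w : S, ∃ h : γ w ∈ S, δ ⟨γ w, h⟩ = w) (hδ : ∀ w : S, ∃ h : δ w ∈ S, γ ⟨δ w, h⟩ = w)
    (hf : ∀ P, ∀ φ ∈ D.Hom P, ∃ φ' ∈ D.Hom (gimg (homGraph γ) P), Rel (homGraph γ) φ φ')
    (hb : ∀ P, ∀ φ ∈ D.Hom P, ∃ φ' ∈ D.Hom (gimg (homGraph δ) P), Rel (homGraph δ) φ φ') :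
    SysIso (homGraph γ) D D := by
  have hsw := swapG_homGraph hγ hδ
  refine ⟨isGraph_homGraph hinj, fun x hx => ⟨_, (hγ ⟨x, hx⟩).1, mem_homGraph.2 ⟨_, rfl, rfl⟩⟩,
    fun y hy => ⟨_, (hδ ⟨y, hy⟩).1, mem_homGraph.2 ⟨_, rfl, (hδ ⟨y, hy⟩).2⟩⟩, hf,
    fun P φ hφ => ?_⟩
  rw [hsw]
  obtain ⟨φ', hφ', hr⟩ := hb P φ hφ
  refine ⟨φ', hφ', fun x y hxy => ?_⟩
  exact mem_swapG.1 ((SetLike.ext_iff.1 hsw (φ y, φ' x)).2
    (hr y x ((SetLike.ext_iff.1 hsw ((y : Ω), (x : Ω))).1 (mem_swapG.2 hxy))))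

variable {F : FusionSystem S} {p : ℕ} [Fact p.Prime]

theorem fwd_of_mem [Finite S] {γ : S →* Ω} (hγ : γ ∈ F.Hom S) (P : Subgroup Ω) (φ : P →* Ω)
    (hφ : φ ∈ F.Hom P) :
    ∃ φ' ∈ F.Hom (gimg (homGraph γ) P), Rel (homGraph γ) φ φ' := by
  have hP := source_le hφ
  have hr : (γ.comp (Subgroup.inclusion hP)).range = gimg (homGraph γ) P := by
    rw [gimg_homGraph]
    ext y
    constructor
    · rintro ⟨x, rfl⟩
      exact ⟨Subgroup.inclusion hP x, x.2, rfl⟩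
    · rintro ⟨w, hw, rfl⟩
      exact ⟨⟨w, hw⟩, rfl⟩
  obtain ⟨c, hc, hcP, hl, -⟩ := exists_inv F (restr_mem F hγ hP) hr
  have hcP' : ∀ z, c z ∈ P := fun z => by
    obtain ⟨x, hx⟩ := hr.ge z.2
    obtain ⟨z, hz⟩ := z
    subst hx
    rw [show c ⟨_, hz⟩ = (x : Ω) from hl x hz]
    exact x.2
  refine ⟨compose (compose c φ hcP') γ fun z => apply_mem hφ _,
    compose_mem F (compose_mem F hc hφ hcP') hγ _, fun x z hxz => ?_⟩
  obtain ⟨w, hw1, hw2⟩ := mem_homGraph.1 hxz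
  refine mem_homGraph.2 ⟨⟨φ x, apply_mem hφ x⟩, rfl, ?_⟩
  show γ ⟨φ x, _⟩ = γ ⟨φ ⟨c z, _⟩, _⟩
  have hcz : c z = (x : Ω) := by
    obtain ⟨z, hz⟩ := z
    have : γ (Subgroup.inclusion hP x) = z := by
      rw [show (Subgroup.inclusion hP x) = w from Subtype.ext hw1.symm]
      exact hw2
    subst this
    exact hl x hz
  congr 1
  exact Subtype.ext (congrArg φ (Subtype.ext hcz.symm))

theorem sysIso_of_mem [Finite S] {γ : S →* Ω} (hγ : γ ∈ F.Hom S) :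
    SysIso (homGraph γ) F F := by
  have hi := F.injective_of_mem hγ
  have hr : γ.range = S := eq_of_le_of_card (range_le hγ) (card_range_eq hi).ge
  obtain ⟨δ, hδ, hδS, hl, hr'⟩ := exists_inv F hγ hr
  exact sysIso_self hi (fun w => ⟨apply_mem hγ w, hl w _⟩) (fun w => ⟨apply_mem hδ w, hr' w _⟩)
    (fwd_of_mem hγ) (fwd_of_mem hδ)

theorem sysIso_of_invariant {U : Subgroup Ω} {D : FusionSystem U} (hD : D.IsInvariantIn F)
    {α : MulAut U} (hα : α ∈ F.autGroup U) : SysIso (homGraph (autHom α)) D D := by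
  have hfw : ∀ β ∈ F.autGroup U, ∀ P, ∀ φ ∈ D.Hom P,
      ∃ φ' ∈ D.Hom (gimg (homGraph (autHom β)) P), Rel (homGraph (autHom β)) φ φ' := by
    intro β hβ P φ hφ
    obtain ⟨χ, hχ, hχe⟩ := hD.2.2.1 P (source_le hφ) φ hφ β hβ
    rw [gimg_homGraph]
    refine ⟨χ, hχ, fun x y hxy => ?_⟩
    obtain ⟨w, hw1, hw2⟩ := mem_homGraph.1 hxy
    refine mem_homGraph.2 ⟨⟨φ x, apply_mem hφ x⟩, rfl, ?_⟩
    have hm : ((β ⟨x, source_le hφ x.2⟩ : U) : Ω) ∈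
        (P.subgroupOf U).map (U.subtype.comp β.toMonoidHom) := ⟨_, x.2, rfl⟩
    refine (hχe x (apply_mem hφ x) hm).symm.trans (congrArg χ (Subtype.ext ?_))
    exact (congrArg (fun v : U => ((β v : U) : Ω))
      (Subtype.ext (a1 := ⟨(x : Ω), source_le hφ x.2⟩) (a2 := w) hw1.symm)).trans hw2
  refine sysIso_self (γ := autHom α) (δ := autHom α⁻¹)
    (Subtype.val_injective.comp α.injective) (fun w => ⟨(α w).2, ?_⟩)
    (fun w => ⟨(α⁻¹ w).2, ?_⟩) (hfw α hα) (hfw α⁻¹ (inv_mem hα))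
  · show ((α⁻¹ ⟨_, _⟩ : U) : Ω) = w
    exact congrArg Subtype.val (α.symm_apply_apply w)
  · show ((α ⟨_, _⟩ : U) : Ω) = w
    exact congrArg Subtype.val (α.apply_symm_apply w)

theorem subnormal_le {T : Subgroup Ω} {C : FusionSystem T} {S₀ : Subgroup Ω}
    {F₀ : FusionSystem S₀} {q : ℕ} (hC : C.IsSubnormalIn F₀ q) : T ≤ S₀ := by
  induction hC with
  | refl F r => exact le_rfl
  | @step U S C D F r _ hDF ih => exact ih.trans hDF.1.2.2.2.1.1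

theorem conj_subnormal_aux {T : Subgroup Ω} {C : FusionSystem T} {S₀ : Subgroup Ω}
    {F₀ : FusionSystem S₀} {q : ℕ} (hC : C.IsSubnormalIn F₀ q) :
    Fact q.Prime → Finite S₀ → IsPGroup q S₀ → ∀ γ : T →* Ω, γ ∈ F₀.Hom T →
      ∃ (V : Subgroup Ω) (C' : FusionSystem V), C'.IsSubnormalIn F₀ q ∧
        SysIso (homGraph γ) C C' := by
  induction hC with
  | refl F r => exact fun _ _ _ γ hγ => ⟨_, F, .refl F r, sysIso_of_mem hγ⟩
  | @step U S C D F r hCD hDF ih =>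
    intro hr hfin hS γ hγ
    have hinv := hDF.1.2.2
    have hUS : U ≤ S := hinv.2.1.1
    have := finite_of_le hUS
    obtain ⟨α, hα, φ₀, hφ₀, he⟩ := hinv.2.2.2 _ (subnormal_le hCD) γ hγ
    obtain ⟨V, C₀, hC₀, hiso₀⟩ := ih hr this (hS.to_le hUS) φ₀ hφ₀
    obtain ⟨W, C₁, hC₁, hiso₁⟩ :=
      (sysIso_of_invariant hinv hα).exists_subnormal (hS.to_le hUS) hC₀
    refine ⟨W, C₁, hC₁.step hDF, hiso₀.comp hiso₁
      (isGraph_homGraph (F.injective_of_mem hγ)) fun x hx y z hxy hyz => ?_⟩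
    obtain ⟨w, rfl, rfl⟩ := mem_homGraph.1 hxy
    obtain ⟨v, hv, rfl⟩ := mem_homGraph.1 hyz
    refine mem_homGraph.2 ⟨w, rfl, ?_⟩
    rw [he w (hv ▸ v.2)]
    exact congrArg (autHom α) (Subtype.ext hv.symm)

/-- The image of a component along a map of the system is a component. -/
theorem component_conj [Finite S] (hS : IsPGroup p S) {T : Subgroup Ω} {C : FusionSystem T}
    (hC : C.IsComponentIn F p) {γ : T →* Ω} (hγ : γ ∈ F.Hom T) {E : FusionSystem γ.range}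
    (hE : C.IsFactorSystem ⊥ γ E) : E.IsComponentIn F p := by
  have hTS := subnormal_le hC.1
  have := finite_of_le hTS
  obtain ⟨V, C', hC', hiso⟩ := conj_subnormal_aux hC.1 ‹_› ‹_› hS γ hγ
  have hisoE : SysIso (homGraph γ) C E :=
    sysIso_factors (stronglyClosed_bot C) (isFactorSystem_self C) hE
  obtain ⟨rfl, hh⟩ := hiso.unique hisoE
  obtain rfl : C' = E := ext_hom hh
  exact ⟨hC', hisoE.quasisimple (hS.to_le hTS) hC.2⟩

theorem layer_le_image [Finite S] (hS : IsPGroup p S) {Γ : Subgroup (Ω × Ω)}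
    (h : SysIso Γ F F) {T : Subgroup Ω} {E : FusionSystem T} (hE : E.IsLayerOf F p)
    {T' : Subgroup Ω} {E' : FusionSystem T'} (hE' : SysIso Γ E E') : E.IsSubsystemOf E' := by
  refine hE.2.2 T' E' (h.isNormalIn hS hE' hE.1) fun U C hC P φ hφ => ?_
  have hUS := subnormal_le hC.1
  have := finite_of_le hUS
  obtain ⟨V, C₀, hC₀, hiso⟩ := h.symm.exists_subnormal hS hC.1
  have hiso' : SysIso Γ C₀ C := hiso.symm
  have heq := hiso'.gimg_gimg' (source_le hφ)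
  obtain ⟨φ₀, hφ₀, hr⟩ := hiso'.bwd P φ hφ
  obtain ⟨ψ, hψ, hr'⟩ := hE'.fwd_eq
    (hE.2.1 V C₀ ⟨hC₀, hiso.quasisimple (hS.to_le hUS) hC.2⟩ _ hφ₀) heq
  have : φ = ψ := by
    ext y
    obtain ⟨x, hx, hxy⟩ := mem_gimg.1 (heq.ge y.2)
    exact h.graph.left (hr ⟨x, hx⟩ y hxy) (hr' ⟨x, hx⟩ y hxy)
  rwa [this]

/-- The layer is invariant under the automorphisms of the system. -/
theorem layer_characteristic [Finite S] (hS : IsPGroup p S) (α : S ≃* S)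
    (hα : F.IsMorphism F (S.subtype.comp α.toMonoidHom))
    (hα' : F.IsMorphism F (S.subtype.comp α.symm.toMonoidHom)) {T : Subgroup Ω}
    {E : FusionSystem T} (hE : E.IsLayerOf F p) :
    imageAlong (S.subtype.comp α.toMonoidHom) T = T ∧
      ∀ (P : Subgroup Ω) (φ : P →* Ω), φ ∈ E.Hom P →
        ∀ φ' : imageAlong (S.subtype.comp α.toMonoidHom) P →* Ω,
          InducedAlong (S.subtype.comp α.toMonoidHom) φ φ' →
            φ' ∈ E.Hom (imageAlong (S.subtype.comp α.toMonoidHom) P) := by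
  have hfw : ∀ β : S ≃* S, F.IsMorphism F (S.subtype.comp β.toMonoidHom) → ∀ P, ∀ φ ∈ F.Hom P,
      ∃ φ' ∈ F.Hom (gimg (homGraph (S.subtype.comp β.toMonoidHom)) P),
        Rel (homGraph (S.subtype.comp β.toMonoidHom)) φ φ' := by
    intro β hβ P φ hφ
    obtain ⟨φ', hφ', hP, hφS, hP', hind⟩ := hβ.2 P φ hφ
    rw [gimg_homGraph]
    refine ⟨φ', hφ', fun x y hxy => ?_⟩
    obtain ⟨w, hw1, hw2⟩ := mem_homGraph.1 hxy
    refine mem_homGraph.2 ⟨⟨φ x, hφS x⟩, rfl, (hind x).symm.trans (congrArg φ' (Subtype.ext ?_))⟩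
    exact (congrArg (fun v : S => ((β v : S) : Ω))
      (Subtype.ext (a1 := ⟨(x : Ω), hP x.2⟩) (a2 := w) hw1.symm)).trans hw2
  set θ : S →* Ω := S.subtype.comp α.toMonoidHom with hθ
  have hiso : SysIso (homGraph θ) F F :=
    sysIso_self (δ := S.subtype.comp α.symm.toMonoidHom)
      (Subtype.val_injective.comp α.injective)
      (fun w => ⟨(α w).2, congrArg Subtype.val (α.symm_apply_apply w)⟩)
      (fun w => ⟨(α.symm w).2, congrArg Subtype.val (α.apply_symm_apply w)⟩)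
      (hfw α hα) (hfw α.symm hα')
  have hTS : T ≤ S := hE.1.1.2.2.2.1.1
  have := finite_of_le hTS
  have himg : ∀ P : Subgroup Ω, imageAlong θ P = gimg (homGraph θ) P := fun P =>
    (gimg_homGraph θ P).symm
  have hdom : ∀ x ∈ T, ∃ y, (x, y) ∈ homGraph θ := fun x hx =>
    ⟨_, mem_homGraph.2 ⟨⟨x, hTS hx⟩, rfl, rfl⟩⟩
  obtain ⟨E₁, hE₁⟩ := exists_image hiso.graph E hdom
  obtain ⟨E₂, hE₂⟩ := exists_image hiso.symm.graph E fun x hx => by
    obtain ⟨y, -, hy⟩ := hiso.cod x (hTS hx)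
    exact ⟨y, hy⟩
  have h1 := layer_le_image hS hiso hE hE₁
  have h2 := layer_le_image hS hiso.symm hE hE₂
  have hT1 : T ≤ gimg (homGraph θ) T := source_le (h1 T (subtype_mem E le_rfl))
  have hT2 : T ≤ gimg (swapG (homGraph θ)) T := source_le (h2 T (subtype_mem E le_rfl))
  refine ⟨?_, fun P φ hφ φ' hφ' => ?_⟩
  · rw [himg]
    exact le_antisymm ((gimg_mono _ hT2).trans (hiso.gimg_gimg' hTS).le) hT1
  · obtain ⟨ψ, hψ, hr⟩ := hE₂.symm.fwd_eq (h2 P hφ) (himg P).symm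
    obtain ⟨hP, hφS, hP', hind⟩ := hφ'
    have : φ' = ψ := by
      ext y
      obtain ⟨w, hw, hwy⟩ := mem_image_iff.1 y.2
      have hy : (⟨θ ⟨w, hP hw⟩, hP' ⟨w, hw⟩⟩ : imageAlong θ P) = y := Subtype.ext hwy
      rw [← hy, hind ⟨w, hw⟩]
      exact hiso.graph.left (mem_homGraph.2 ⟨⟨φ ⟨w, hw⟩, hφS _⟩, rfl, rfl⟩)
        (hr ⟨w, hw⟩ _ (mem_homGraph.2 ⟨⟨w, hP hw⟩, rfl, rfl⟩))
    rwa [this]

end Cfsg.Agent.Lib.Fusion.PrimeIndex
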