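import Cfsg.Agent.Lib.Fusion.PrimeIndex.CoreCentralizer
import Cfsg.Agent.Lib.Fusion.CenterFactor
import Cfsg.Prelude.Def_FusionReduction

/-!
Components against normal subgroups.
-/

set_option autoImplicit false
set_option linter.unusedSectionVars false

namespace Cfsg.Agent.Lib.Fusion.PrimeIndex

open Cfsg Cfsg.FusionSystem

universe u

variable {Ω : Type u} [Group Ω] {S R : Subgroup Ω} {p : ℕ} [Fact p.Prime] [Finite S]
  {F : FusionSystem S}

/-- The maps of `C` centralize `R` in `F`. -/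
def CentBy (F : FusionSystem S) (R : Subgroup Ω) {T : Subgroup Ω} (C : FusionSystem T) : Prop :=
  ∀ P : Subgroup Ω, C.Hom P ⊆ F.centralizerHom R P

/-- The inner system of a normal subgroup is normal. -/
theorem isNormalIn_inner (hS : IsPGroup p S) (hF : F.IsSaturated p) (hR : F.IsNormal R) :
    (innerFusionSystem R).IsNormalIn F p := by
  have := finite_of_le hR.1
  refine ⟨⟨inner_isSaturated (hS.to_le hR.1), hF, inner_isInvariantIn hR⟩, fun α hα => ?_⟩
  rw [autGroup_inner le_rfl] at hα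
  obtain ⟨t, htn, htR, rfl⟩ := mem_autInducedBy_iff_conjAut.1 hα
  have hX : R ⊔ centralizerIn S R ≤ S := sup_le hR.1 (centralizerIn_le S R)
  have htX : t ∈ Subgroup.normalizer ((R ⊔ centralizerIn S R : Subgroup Ω) : Set Ω) :=
    Subgroup.le_normalizer (Subgroup.mem_sup_left htR)
  refine ⟨conjAut htX, conjAut_mem_autGroup F hX (hR.1 htR) htX, fun x => rfl, fun c hc => ?_⟩
  show (c : Ω)⁻¹ * (t * (c : Ω) * t⁻¹) ∈ _
  rw [(Subgroup.mem_centralizer_iff.1 hc.2 t htR), mul_inv_cancel_right, inv_mul_cancel]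
  exact one_mem _

/-- The hyperfocal subgroup of an inner system is trivial. -/
theorem hyperfocal_inner (hS : IsPGroup p S) :
    (innerFusionSystem S).hyperfocalSubgroup p = ⊥ := by
  rw [eq_bot_iff]
  refine (Subgroup.closure_le _).2 ?_
  rintro _ ⟨P, α, x, hP, hα, rfl⟩
  have := finite_of_le hP
  have := finite_mulAut (P := P) hP
  have hp : IsPGroup p ((innerFusionSystem S).autGroup P) := by
    rw [autGroup_inner hP]
    exact isPGroup_autInducedBy hS P
  rw [Cfsg.Agent.Lib.Cores.pResidual_eq_bot_iff.2 hp, Subgroup.mem_bot] at hα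
  rw [hα]
  simp

theorem stronglyClosed_center (F : FusionSystem S) : F.StronglyClosed F.center := by
  refine ⟨(isCentral_center F).1, fun Q hQ φ hφ x => ?_⟩
  obtain ⟨ψ, -, hψ, hψZ⟩ := (isCentral_center F).2 Q φ hφ
  rw [← hψ x, show Subgroup.inclusion le_sup_left x =
    Subgroup.inclusion (le_sup_right : F.center ≤ Q ⊔ F.center) ⟨x, hQ x.2⟩ from Subtype.ext rfl,
    hψZ]
  exact hQ x.2

theorem center_le_normal {Z : Subgroup Ω} (hZ : F.IsCentral Z) : F.IsNormal Z := by
  refine ⟨hZ.1, fun P φ hφ => ?_⟩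
  obtain ⟨ψ, hψ, hext, hfix⟩ := hZ.2 P φ hφ
  refine ⟨ψ, hψ, hext, ?_⟩
  ext y
  constructor
  · rintro ⟨x, hx, rfl⟩
    rw [show x = Subgroup.inclusion le_sup_right (⟨(x : Ω), hx⟩ : Z) from rfl, hfix]
    exact hx
  · intro hy
    exact ⟨⟨y, Subgroup.mem_sup_right hy⟩, hy, hfix ⟨y, hy⟩⟩

/-- A quasisimple system lives on a nontrivial group and its normal subgroups are central. -/
theorem quasisimple_normal (hS : IsPGroup p S) (hq : F.Quasisimple p) :
    S ≠ ⊥ ∧ ∀ R : Subgroup Ω, F.IsNormal R → R ≤ F.center := by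
  classical
  obtain ⟨hsat, hhyp, hfac⟩ := hq
  set Z := F.center with hZdef
  have hZsc := stronglyClosed_center F
  set θ := QuotientGroup.mk' (Z.subgroupOf S) with hθ
  have hker : ∀ s : S, θ s = 1 ↔ (s : Ω) ∈ Z := fun s =>
    (QuotientGroup.eq_one_iff s).trans Subgroup.mem_subgroupOf
  have hr : θ.range = ⊤ := MonoidHom.range_eq_top.2 (QuotientGroup.mk'_surjective _)
  let E := factorSystem F hZsc θ hker hr
  have hE : F.IsFactorSystem Z θ E := factorSystem_spec hZsc hker hr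
  have hsimple := hfac E hE
  refine ⟨fun h => hsimple.2.1 (eq_bot_iff.2 fun x _ => ?_), fun R hR => ?_⟩
  · obtain ⟨s, rfl⟩ := QuotientGroup.mk'_surjective (Z.subgroupOf S) x
    rw [Subgroup.mem_bot, show s = 1 from Subtype.ext (Subgroup.mem_bot.1 (h.le s.2)), map_one]
  have hEp : IsPGroup p (⊤ : Subgroup (↥S ⧸ Z.subgroupOf S)) :=
    (hS.to_quotient _).to_subgroup ⊤
  have hmor := (isSurjectiveMorphism_factor hS hsat hZsc hE).1
  obtain ⟨R', hR'⟩ : ∃ X, X = imageAlong θ R := ⟨_, rfl⟩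
  have hR'n : E.IsNormal R' := by
    refine ⟨fun _ _ => Subgroup.mem_top _, fun P' φ' hφ' => ?_⟩
    obtain ⟨hP', φ, hφ, hind⟩ := (hE.2.2.2 P' φ').1 hφ'
    obtain ⟨ψ, hψ, hext, himg⟩ := hR.2 _ φ hφ
    have hPR : preimageAlong θ P' ⊔ R ≤ S := sup_le (preimage_le θ P') hR.1
    have himgeq : imageAlong θ (preimageAlong θ P' ⊔ R) = P' ⊔ R' := by
      rw [hR', imageAlong, Subgroup.subgroupOf_sup (preimage_le θ P') hR.1, Subgroup.map_sup]
      congr 1
      exact imageAlong_preimage hr hP'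
    have key : ∀ X, imageAlong θ (preimageAlong θ P' ⊔ R) = X → ∃ ψ' ∈ E.Hom X,
        ∀ (x : ↥(preimageAlong θ P' ⊔ R)) (h : θ ⟨x, hPR x.2⟩ ∈ X),
          ψ' ⟨_, h⟩ = θ ⟨ψ x, apply_mem hψ x⟩ := by
      rintro X rfl
      obtain ⟨ψ', hψ', _, _, hψm, hψe⟩ := hmor.2 _ ψ hψ
      exact ⟨ψ', hψ', fun x _ => hψe x⟩
    obtain ⟨ψ', hψ', hψe⟩ := key _ himgeq
    obtain ⟨hPS, hφS, hm, hφe⟩ := hind
    refine ⟨ψ', hψ', fun y => ?_, ?_⟩
    · obtain ⟨s, hs⟩ := QuotientGroup.mk'_surjective (Z.subgroupOf S) (y : ↥S ⧸ Z.subgroupOf S)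
      have hy : θ s ∈ P' := hs ▸ y.2
      have hsP : (s : Ω) ∈ preimageAlong θ P' := (mem_preimage_iff s).2 hy
      have h1 := hψe ⟨s, Subgroup.mem_sup_left hsP⟩ (Subgroup.mem_sup_left hy)
      have h2 := hφe ⟨s, hsP⟩
      rw [show Subgroup.inclusion (le_sup_left : P' ≤ P' ⊔ R') y =
        ⟨θ ⟨(s : Ω), s.2⟩, Subgroup.mem_sup_left hy⟩ from Subtype.ext hs.symm, h1,
        show y = ⟨θ ⟨(s : Ω), s.2⟩, hm ⟨s, hsP⟩⟩ from Subtype.ext hs.symm, h2]
      exact congrArg θ (Subtype.ext (hext ⟨s, hsP⟩))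
    · ext z
      constructor
      · rintro ⟨y, hy, rfl⟩
        obtain ⟨s, hs, hsy⟩ := mem_image_iff.1
          (hR' ▸ (hy : (y : ↥S ⧸ Z.subgroupOf S) ∈ R') : (y : ↥S ⧸ Z.subgroupOf S) ∈ imageAlong θ R)
        rw [show y = ⟨θ ⟨(s : Ω), s.2⟩, hsy ▸ y.2⟩ from Subtype.ext hsy.symm,
          hψe ⟨s, Subgroup.mem_sup_right hs⟩, hR']
        exact mem_image_iff.2 ⟨_, himg.le (apply_mem_img ψ _ hs), rfl⟩
      · intro hz
        obtain ⟨s, hs, rfl⟩ := mem_image_iff.1 (hR' ▸ hz : z ∈ imageAlong θ R)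
        obtain ⟨w, hw, hws⟩ := himg.ge hs
        have hw' : θ ⟨w, hPR w.2⟩ ∈ R' := by
          rw [hR']
          exact mem_image_iff.2 ⟨⟨w, hPR w.2⟩, hw, rfl⟩
        refine ⟨⟨θ ⟨w, hPR w.2⟩, Subgroup.mem_sup_right hw'⟩, hw', ?_⟩
        rw [hψe]
        exact congrArg θ (Subtype.ext hws)
  rcases hsimple.2.2 R' _ (isNormalIn_inner hEp hsimple.1 hR'n) with h | ⟨htop, hinner⟩
  · intro x hx
    exact (hker ⟨x, hR.1 hx⟩).1
      (Subgroup.mem_bot.1 (h.le (hR'.ge (mem_image_iff.2 ⟨⟨x, hR.1 hx⟩, hx, rfl⟩))))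
  · exfalso
    subst htop
    have h1 := hyperfocal_factor hS hsat hZsc hE
    rw [hhyp, Subgroup.subgroupOf_self, Subgroup.map_top_of_surjective _
      (QuotientGroup.mk'_surjective _), show E = innerFusionSystem ⊤ from
      ext_hom fun P => (hinner P).symm, hyperfocal_inner hEp] at h1
    exact hsimple.2.1 h1.symm

/-- A quasisimple system centralizes its normal subgroups. -/
theorem centBy_quasisimple (hS : IsPGroup p S) (hq : F.Quasisimple p) (hR : F.IsNormal R) :
    CentBy F R F := by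
  intro P φ hφ
  have hZ := isCentral_center F
  have hRZ := (quasisimple_normal hS hq).2 R hR
  have hc : ∀ s ∈ S, s ∈ centralizerIn S R := fun s hs => mem_centralizerIn.2 ⟨hs, fun r hr =>
    ((center_le_centralizer F (hRZ hr)) s hs).symm⟩
  obtain ⟨ψ, hψ, hext, hfix⟩ := hZ.2 P φ hφ
  exact ⟨hφ, fun x hx => hc x (source_le hφ hx), fun x => hc _ (apply_mem hφ x),
    restr (sup_le_sup_left hRZ P) ψ, restr_mem F hψ _, fun x => hext x,
    fun r => hfix ⟨r, hRZ r.2⟩⟩

/-- A component centralizes every normal subgroup. -/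
theorem centBy_of_subnormal {T : Subgroup Ω} {C : FusionSystem T} (hC : C.IsSubnormalIn F p) :
    Fact p.Prime → Finite S → IsPGroup p S → F.IsSaturated p → C.Quasisimple p →
      ∀ R : Subgroup Ω, F.IsNormal R → CentBy F R C := by
  induction hC with
  | refl G q => exact fun hp hfin hS _ hq R hR => centBy_quasisimple hS hq hR
  | step hCD hDF ih =>
    rename_i T U S C D F p
    intro hp hfin hS hF hq R hR
    have hDinv := hDF.1.2.2
    have hUS := hDinv.2.1.1
    have := finite_of_le hUS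
    have hR0 := normal_inf hS hR hDinv hDF.1.1
    have hcent := ih hp this (hS.to_le hUS) hDF.1.1 hq _ hR0
    have hTU : T ≤ U := (IsSubnormalIn.le_and_fullyNormalized hCD hp (hS.to_le hUS) hDF.1.1 this).1
    have hTS := hTU.trans hUS
    have := finite_of_le hTS
    obtain ⟨m, hm⟩ : ∃ m, Nat.card S = p ^ m := IsPGroup.iff_card.1 hS
    -- coprime automorphisms extend fixing `R`
    have key : ∀ P ≤ T, ∀ α ∈ C.autGroup P, (orderOf α).Coprime p →
        ∃ ω ∈ F.Hom (P ⊔ R), (∀ x : P, ω (Subgroup.inclusion le_sup_left x) = ((α x : P) : Ω)) ∧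
          ∀ r : R, ω (Subgroup.inclusion le_sup_right r) = r := by
      intro P hP α hα hco
      obtain ⟨-, -, -, ψ, hψ, hψe, hψf⟩ := hcent P (autHom_mem C hP hα)
      obtain ⟨-, χ, hχ, hχe, hχm⟩ := le_modSystem hS hR hDF _ hψ
      have hle : P ⊔ R ≤ P ⊔ (R ⊓ U) ⊔ R := sup_le_sup_right le_sup_left R
      set a₀ := restr hle χ with ha₀
      have ha₀F : a₀ ∈ F.Hom (P ⊔ R) := restr_mem F hχ hle
      have hPS : P ⊔ R ≤ S := sup_le (hP.trans hTS) hR.1
      have := finite_of_le hPS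
      have := finite_mulAut (P := P ⊔ R) hPS
      have ha₀P : ∀ x : P, a₀ (Subgroup.inclusion le_sup_left x) = ((α x : P) : Ω) := fun x =>
        (hχe (Subgroup.inclusion le_sup_left x)).trans (hψe x)
      have hr : a₀.range = P ⊔ R := by
        refine Subgroup.eq_of_le_of_card_ge ?_ (card_range_eq (F.injective_of_mem ha₀F)).ge
        rw [← img_self, img_sup a₀ le_sup_left le_sup_right, img_normal_eq hR ha₀F le_sup_right]
        refine sup_le_sup_right ?_ _
        rintro _ ⟨x, hx, rfl⟩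
        exact (ha₀P ⟨x, hx⟩).symm ▸ SetLike.coe_mem _
      set a : MulAut ↥(P ⊔ R) := isoOf a₀ (F.injective_of_mem ha₀F) hr with ha
      have haF : a ∈ F.autGroup (P ⊔ R) := mem_autGroup_of_hom F ha₀F
      have hav : ∀ x, ((a x : ↥(P ⊔ R)) : Ω) = a₀ x := fun x => rfl
      obtain ⟨j, hjα, -, hjm⟩ := exists_pow_coprime (p := p) α hco a (orderOf_pos a) m
      have hpow : ∀ i (x : P), (((a ^ i) (Subgroup.inclusion le_sup_left x) : ↥(P ⊔ R)) : Ω) =
          (((α ^ i) x : P) : Ω) := by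
        intro i
        induction i with
        | zero => intro x; rfl
        | succ i ihi =>
          intro x
          rw [pow_succ, pow_succ, MulAut.mul_apply, MulAut.mul_apply, ← ihi (α x)]
          exact congrArg (fun z => (((a ^ i) z : ↥(P ⊔ R)) : Ω))
            (Subtype.ext ((hav _).trans (ha₀P x)))
      refine ⟨autHom (a ^ j), autHom_mem F hPS (pow_mem haF j), fun x => ?_, fun r => ?_⟩
      · have h := hpow j x
        rwa [hjα] at h
      set x : ↥(P ⊔ R) := Subgroup.inclusion le_sup_right r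
      set d : ↥(P ⊔ R) := x⁻¹ * a x with hd
      have hdR : (d : Ω) ∈ R ⊓ U := by
        refine ⟨R.mul_mem (R.inv_mem r.2) ?_, hχm (Subgroup.inclusion hle x) r.2⟩
        exact StronglyClosed.map_mem (IsNormal.stronglyClosed hR) ha₀F x r.2
      have had : a d = d := by
        refine Subtype.ext ((hav d).trans ?_)
        exact (hχe ⟨(d : Ω), Subgroup.mem_sup_right hdR⟩).trans (hψf ⟨(d : Ω), hdR⟩)
      have hai : ∀ i : ℕ, (a ^ i) x = x * d ^ i := by
        intro i
        induction i with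
        | zero => simp
        | succ i ihi =>
          rw [pow_succ' (M := MulAut ↥(P ⊔ R)), MulAut.mul_apply, ihi, map_mul, map_pow, had,
            show a x = x * d by rw [hd, mul_inv_cancel_left], mul_assoc, ← pow_succ']
      obtain ⟨t, rfl⟩ := hjm
      have hd1 : d ^ (p ^ m * t) = 1 := by
        refine Subtype.ext ?_
        have hd' : (⟨(d : Ω), hPS d.2⟩ : S) ^ p ^ m = 1 := hm ▸ pow_card_eq_one'
        have := congrArg (fun z : S => (z : Ω) ^ t) hd'
        simp only [SubmonoidClass.coe_pow, OneMemClass.coe_one, one_pow, ← pow_mul] at this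
        rw [SubmonoidClass.coe_pow]
        exact this
      show (((a ^ (p ^ m * t)) x : ↥(P ⊔ R)) : Ω) = r
      rw [hai, hd1, mul_one]
      rfl
    have hRn := le_normalizer_of_stronglyClosed (IsNormal.stronglyClosed hR)
    -- the hyperfocal subgroup centralizes `R`
    have hTC : T ≤ centralizerIn S R := by
      rw [← hq.2.1]
      refine (Subgroup.closure_le _).2 ?_
      rintro _ ⟨P, α, z, hP, hα, rfl⟩
      let B : Subgroup (C.autGroup P) :=
        { carrier := {β | ∀ z : P, (z : Ω)⁻¹ * (((β : MulAut P) z : P) : Ω) ∈ centralizerIn S R}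
          one_mem' := fun z => by simp
          mul_mem' := fun {a b} ha hb z => by
            have h := mul_mem (hb z) (ha ((b : MulAut P) z))
            rw [Subgroup.coe_mul, MulAut.mul_apply]
            rwa [show (z : Ω)⁻¹ * (((b : MulAut P) z : P) : Ω) *
              ((((b : MulAut P) z : P) : Ω)⁻¹ * (((a : MulAut P) ((b : MulAut P) z) : P) : Ω)) =
              (z : Ω)⁻¹ * (((a : MulAut P) ((b : MulAut P) z) : P) : Ω) by group] at h
          inv_mem' := fun {a} ha z => by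
            have h := inv_mem (ha (((a⁻¹ : C.autGroup P) : MulAut P) z))
            have e : ((a : MulAut P) (((a⁻¹ : C.autGroup P) : MulAut P) z)) = z :=
              (a : MulAut P).apply_symm_apply z
            rw [e, mul_inv_rev, inv_inv] at h
            exact h }
      suffices hB : pResidual p (C.autGroup P) ≤ B from hB hα z
      refine (Subgroup.closure_le _).2 fun β hβ x => ?_
      obtain ⟨ω, hω, hωP, hωR⟩ :=
        key P hP β β.2 (by rwa [Subgroup.orderOf_coe])
      have hxS : (x : Ω) ∈ S := hTS (hP x.2)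
      refine mem_centralizerIn_iff_conj.2 ⟨S.mul_mem (S.inv_mem hxS) (hTS (hP (SetLike.coe_mem _))),
        fun r hr => ?_⟩
      have hxr : (x : Ω) * r * (x : Ω)⁻¹ ∈ R := conj_mem_of_mem_normalizer (hRn hxS) hr
      have h1 : ω (Subgroup.inclusion le_sup_left x * Subgroup.inclusion le_sup_right ⟨r, hr⟩ *
          (Subgroup.inclusion le_sup_left x)⁻¹) = (x : Ω) * r * (x : Ω)⁻¹ :=
        (congrArg ω (Subtype.ext rfl : _ = Subgroup.inclusion le_sup_right ⟨_, hxr⟩)).trans
          (hωR ⟨_, hxr⟩)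
      rw [map_mul, map_mul, map_inv, hωP, hωR] at h1
      generalize (((β : MulAut P) x : P) : Ω) = v at h1 ⊢
      change v * r * v⁻¹ = (x : Ω) * r * (x : Ω)⁻¹ at h1
      calc (x : Ω)⁻¹ * v * r * ((x : Ω)⁻¹ * v)⁻¹ = (x : Ω)⁻¹ * (v * r * v⁻¹) * x := by group
        _ = (x : Ω)⁻¹ * ((x : Ω) * r * (x : Ω)⁻¹) * x := by rw [h1]
        _ = r := by group
    have hsub : C.IsSubsystemOf (centralizerSystem F R hR.1) := by
      refine isSubsystemOf_of_coprime (hS.to_le hTS) hq.1 hTC fun P hP α hα hco => ?_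
      obtain ⟨ω, hω, hωP, hωR⟩ := key P hP α hα hco
      have hαF : autHom α ∈ F.Hom P := by
        have h := restr_mem F hω (le_sup_left : P ≤ P ⊔ R)
        rwa [show restr (le_sup_left : P ≤ P ⊔ R) ω = autHom α from MonoidHom.ext hωP] at h
      exact mem_autGroup_of_hom _ ⟨hαF, hP.trans hTC, fun x => hTC (hP (α x).2), ω, hω, hωP, hωR⟩
    exact fun P => hsub P

/-- A constrained system has no components. -/
theorem no_component_of_constrained (hS : IsPGroup p S) (hc : F.IsConstrained p) :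
    ¬ ∃ (T : Subgroup Ω) (C : FusionSystem T), C.IsComponentIn F p := by
  rintro ⟨T, C, hsub, hq⟩
  obtain ⟨hF, Q, hQ, hQc⟩ := hc
  have hTS : T ≤ S := (IsSubnormalIn.le_and_fullyNormalized hsub inferInstance hS hF inferInstance).1
  have := finite_of_le hTS
  have hcent := centBy_of_subnormal hsub inferInstance inferInstance hS hF hq Q hQ
  have hTC : T ≤ centralizerIn S Q := (hcent T (subtype_mem C le_rfl)).2.1
  have hTQ : T ≤ Q := hTC.trans (hQc.2 Q (isConj_refl F hQ.1))
  refine (quasisimple_normal (hS.to_le hTS) hq).1 (eq_bot_iff.2 ?_)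
  refine hq.2.1.ge.trans ((Subgroup.closure_le _).2 ?_)
  rintro _ ⟨P, α, x, hP, -, rfl⟩
  obtain ⟨-, -, -, ψ, -, hψe, hψf⟩ := hcent P (autHom_mem C hP α.2)
  have h1 : (((α : MulAut P) x : P) : Ω) = x := by
    refine (hψe x).symm.trans ?_
    exact (congrArg ψ (Subtype.ext rfl : _ = Subgroup.inclusion le_sup_right
      (⟨(x : Ω), hTQ (hP x.2)⟩ : Q))).trans (hψf _)
  rw [SetLike.mem_coe, Subgroup.mem_bot, h1, inv_mul_cancel]

end Cfsg.Agent.Lib.Fusion.PrimeIndex
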