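import Cfsg.Agent.Lib.Fusion.PrimeIndex.WeaklyNormal
import Cfsg.Agent.Lib.Fusion.KNormalizer

/-!
In a normal subsystem every automorphism of a centric subgroup `P` extends to `P C_S(P)`, trivially
modulo `P` on `C_S(P)`.
-/

set_option autoImplicit false
set_option linter.unusedSectionVars false

namespace Cfsg.Agent.Lib.Fusion.PrimeIndex

open Cfsg Cfsg.FusionSystem

variable {Ω : Type*} [Group Ω] {S T : Subgroup Ω} {p : ℕ} [Fact p.Prime] [Finite S]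
  {F : FusionSystem S} {E : FusionSystem T}

/-- The elements moved only within `X`. -/
def trivModSub {X Y : Subgroup Ω} (hn : ∀ y ∈ Y, ∀ x ∈ X, y * x * y⁻¹ ∈ X) (ψ : Y →* Ω) :
    Subgroup Y where
  carrier := {y | (y : Ω)⁻¹ * ψ y ∈ X}
  one_mem' := by simp
  mul_mem' := fun {a b} ha hb => by
    show ((a * b : Y) : Ω)⁻¹ * ψ (a * b) ∈ X
    rw [map_mul, Subgroup.coe_mul, show ((a : Ω) * (b : Ω))⁻¹ * (ψ a * ψ b) =
      (b : Ω)⁻¹ * ((a : Ω)⁻¹ * ψ a) * (b : Ω)⁻¹⁻¹ * ((b : Ω)⁻¹ * ψ b) by group]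
    exact X.mul_mem (hn _ (Y.inv_mem b.2) _ ha) hb
  inv_mem' := fun {a} ha => by
    show ((a⁻¹ : Y) : Ω)⁻¹ * ψ a⁻¹ ∈ X
    rw [map_inv, Subgroup.coe_inv,
      show (a : Ω)⁻¹⁻¹ * (ψ a)⁻¹ = (a : Ω) * ((a : Ω)⁻¹ * ψ a)⁻¹ * (a : Ω)⁻¹ by group]
    exact hn _ a.2 _ (X.inv_mem ha)

theorem trivMod_all {X A B : Subgroup Ω} (hn : ∀ y ∈ A ⊔ B, ∀ x ∈ X, y * x * y⁻¹ ∈ X)
    (ψ : ↥(A ⊔ B) →* Ω)
    (hA : ∀ y : ↥(A ⊔ B), (y : Ω) ∈ A → (y : Ω)⁻¹ * ψ y ∈ X)
    (hB : ∀ y : ↥(A ⊔ B), (y : Ω) ∈ B → (y : Ω)⁻¹ * ψ y ∈ X) (y : ↥(A ⊔ B)) :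
    (y : Ω)⁻¹ * ψ y ∈ X := by
  have hle : A ⊔ B ≤ (trivModSub hn ψ).map (A ⊔ B).subtype :=
    sup_le (fun x hx => ⟨⟨x, Subgroup.mem_sup_left hx⟩, hA ⟨x, Subgroup.mem_sup_left hx⟩ hx, rfl⟩)
      (fun x hx => ⟨⟨x, Subgroup.mem_sup_right hx⟩, hB ⟨x, Subgroup.mem_sup_right hx⟩ hx, rfl⟩)
  obtain ⟨z, hz, hzy⟩ := hle y.2
  rw [← Subtype.ext (a1 := z) (a2 := y) hzy]
  exact hz

theorem ctr_conj {P : Subgroup Ω} (hP : P ≤ S) {y x : Ω} (hy : y ∈ ctr S P) (hx : x ∈ P) :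
    y * x * y⁻¹ ∈ P :=
  conj_mem_of_mem_normalizer (ctr_le_normalizerIn hP hy).2 hx

theorem normalizer_centralizerIn {P : Subgroup Ω} {g : Ω} (hg : g ∈ S)
    (hn : g ∈ Subgroup.normalizer (P : Set Ω)) {c : Ω} (hc : c ∈ centralizerIn S P) :
    g * c * g⁻¹ ∈ centralizerIn S P := by
  refine mem_centralizerIn_iff_conj.2 ⟨S.mul_mem (S.mul_mem hg hc.1) (S.inv_mem hg), fun x hx => ?_⟩
  have h1 := (mem_centralizerIn_iff_conj.1 hc).2 _ (conj_mem_of_mem_normalizer (inv_mem hn) hx)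
  calc g * c * g⁻¹ * x * (g * c * g⁻¹)⁻¹ = g * (c * (g⁻¹ * x * g⁻¹⁻¹) * c⁻¹) * g⁻¹ := by group
    _ = x := by rw [h1]; group

theorem ctr_normalizer {P : Subgroup Ω} [Finite (ctr S P)] {g : Ω} (hg : g ∈ S)
    (hn : g ∈ Subgroup.normalizer (P : Set Ω)) :
    g ∈ Subgroup.normalizer ((ctr S P : Subgroup Ω) : Set Ω) := by
  refine mem_normalizer_of_finite fun y hy => ?_
  have hle : (ctr S P).map (MulAut.conj g).toMonoidHom ≤ ctr S P := by
    rw [ctr, Subgroup.map_sup]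
    refine sup_le_sup ?_ ?_
    · rintro _ ⟨x, hx, rfl⟩
      exact conj_mem_of_mem_normalizer hn hx
    · rintro _ ⟨x, hx, rfl⟩
      exact normalizer_centralizerIn hg hn hx
  exact hle ⟨y, hy, rfl⟩

/-- The automorphisms of `P` extending to `P C_S(P)` trivially modulo `P`. -/
def twistSub (F : FusionSystem S) (P : Subgroup Ω) : Subgroup (MulAut P) where
  carrier := {α | ∃ a ∈ F.autGroup (ctr S P),
    (∀ x : P, ((a ⟨x, le_ctr S P x.2⟩ : ctr S P) : Ω) = ((α x : P) : Ω)) ∧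
    ∀ y : ctr S P, (y : Ω)⁻¹ * ((a y : _) : Ω) ∈ P}
  one_mem' := ⟨1, one_mem _, fun _ => rfl, fun y => by simp⟩
  mul_mem' := by
    rintro α β ⟨a, ha, ha', haP⟩ ⟨b, hb, hb', hbP⟩
    refine ⟨a * b, mul_mem ha hb, fun x => ?_, fun y => ?_⟩
    · rw [MulAut.mul_apply, show b ⟨x, le_ctr S P x.2⟩ = ⟨β x, le_ctr S P (β x).2⟩ from
        Subtype.ext (hb' x)]
      exact ha' (β x)
    · have h := P.mul_mem (hbP y) (haP (b y))
      rw [MulAut.mul_apply]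
      rwa [show (y : Ω)⁻¹ * ((b y : _) : Ω) * (((b y : _) : Ω)⁻¹ * ((a (b y) : _) : Ω)) =
        (y : Ω)⁻¹ * ((a (b y) : _) : Ω) by group] at h
  inv_mem' := by
    rintro α ⟨a, ha, ha', haP⟩
    refine ⟨a⁻¹, inv_mem ha, fun x => ?_, fun y => ?_⟩
    · rw [MulAut.inv_apply, MulAut.inv_apply]
      refine congrArg Subtype.val (a.symm_apply_eq.2 (Subtype.ext (a1 := (⟨x, le_ctr S P x.2⟩ : ctr S P)) (a2 := a ⟨_, le_ctr S P (α.symm x).2⟩) ?_))
      have := ha' (α.symm x)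
      rw [MulEquiv.apply_symm_apply] at this
      exact this.symm
    · have h := P.inv_mem (haP (a⁻¹ y))
      rw [MulAut.inv_apply, MulEquiv.apply_symm_apply] at h
      rw [MulAut.inv_apply]
      rwa [mul_inv_rev, inv_inv] at h

theorem mem_twistSub_of_hom {P : Subgroup Ω} (hP : P ≤ S) {α : MulAut P} {ψ : ctr S P →* Ω}
    (hψ : ψ ∈ F.Hom (ctr S P)) (h₁ : ∀ x : P, ψ ⟨x, le_ctr S P x.2⟩ = ((α x : P) : Ω))
    (h₂ : ∀ c : ctr S P, (c : Ω) ∈ centralizerIn S P → (c : Ω)⁻¹ * ψ c ∈ P) :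
    α ∈ twistSub F P := by
  have := finite_of_le (ctr_le hP)
  have h : ∀ y : ctr S P, (y : Ω)⁻¹ * ψ y ∈ P :=
    trivMod_all (fun y hy x hx => ctr_conj hP hy hx) ψ
      (fun y hy => P.mul_mem (P.inv_mem hy) ((h₁ ⟨y, hy⟩).symm ▸ SetLike.coe_mem _)) h₂
  have hr : ψ.range = ctr S P := by
    refine Subgroup.eq_of_le_of_card_ge ?_ (card_range_eq (F.injective_of_mem hψ)).ge
    rintro _ ⟨y, rfl⟩
    rw [← mul_inv_cancel_left (y : Ω) (ψ y)]
    exact mul_mem y.2 (le_ctr S P (h y))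
  exact ⟨isoOf ψ (F.injective_of_mem hψ) hr, mem_autGroup_of_hom F hψ, h₁, h⟩

theorem twistSub_conj (hS : IsPGroup p S) (hF : F.IsSaturated p) {P : Subgroup Ω}
    (hP : F.IsFullyNormalized P) {α g : MulAut P} (hα : α ∈ twistSub F P)
    (hg : g ∈ F.autGroup P) : g * α * g⁻¹ ∈ twistSub F P := by
  obtain ⟨a, ha, ha', haP⟩ := hα
  obtain ⟨χ, hχ, hχe⟩ := exists_extension hS hF hP hg
  have hχP : ∀ y : ctr S P, (y : Ω) ∈ P → ((χ y : _) : Ω) ∈ P := fun y hy =>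
    (hχe ⟨y, hy⟩).symm ▸ SetLike.coe_mem _
  refine ⟨χ * a * χ⁻¹, mul_mem (mul_mem hχ ha) (inv_mem hχ), fun x => ?_, fun y => ?_⟩
  · have e1 : χ⁻¹ ⟨x, le_ctr S P x.2⟩ = ⟨g⁻¹ x, le_ctr S P (g⁻¹ x).2⟩ := by
      rw [MulAut.inv_apply, MulEquiv.symm_apply_eq]
      refine Subtype.ext ?_
      rw [hχe (g⁻¹ x), MulAut.inv_apply, MulEquiv.apply_symm_apply]
    rw [MulAut.mul_apply, MulAut.mul_apply, e1,
      show a ⟨g⁻¹ x, le_ctr S P (g⁻¹ x).2⟩ = ⟨α (g⁻¹ x), le_ctr S P (α (g⁻¹ x)).2⟩ from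
        Subtype.ext (ha' _), hχe (α (g⁻¹ x)), MulAut.mul_apply, MulAut.mul_apply]
  · obtain ⟨w, rfl⟩ := χ.surjective y
    rw [MulAut.mul_apply, MulAut.mul_apply, MulAut.inv_apply, MulEquiv.symm_apply_apply]
    have h1 : ((χ w : _) : Ω)⁻¹ * ((χ (a w) : _) : Ω) = ((χ (w⁻¹ * a w) : _) : Ω) := by
      rw [map_mul, map_inv]
      rfl
    rw [h1]
    exact hχP _ (haP w)

theorem le_sylow_of_normal {A : Type*} [Group A] [Finite A] {L : Subgroup A} [hn : L.Normal]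
    (hL : IsPGroup p L) (R : Sylow p A) : L ≤ (R : Subgroup A) := by
  obtain ⟨R', hR'⟩ := hL.exists_le_sylow
  obtain ⟨g, rfl⟩ := MulAction.exists_smul_eq A R' R
  intro x hx
  rw [Sylow.coe_subgroup_smul]
  exact ⟨g⁻¹ * x * g, hR' (by simpa using hn.conj_mem x hx g⁻¹), by simp [mul_assoc]⟩

/-- A map of `C_F(N)` on a fully normalized subgroup trivial modulo `N` is a conjugation. -/
theorem stab_eq_conj (hS : IsPGroup p S) (hF : F.IsSaturated p) {N : Subgroup Ω}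
    (hN : F.IsFullyCentralized N) {Q : Subgroup Ω}
    (hQ : (centralizerSystem F N hN.1).IsFullyNormalized Q) {β : MulAut Q}
    (hβ : β ∈ (centralizerSystem F N hN.1).autGroup Q)
    (hβN : ∀ x : Q, (x : Ω)⁻¹ * ((β x : Q) : Ω) ∈ N) :
    ∃ f ∈ centralizerIn S N, ∀ x : Q, ((β x : Q) : Ω) = f * (x : Ω) * f⁻¹ := by
  set C := centralizerSystem F N hN.1
  have := finite_of_le (centralizerIn_le S N)
  have := finite_of_le hQ.1
  have := finite_mulAut (P := Q) hQ.1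
  have hCp := hS.to_le (centralizerIn_le S N)
  have hCs : C.IsSaturated p :=
    centralizerSystem_isSaturated hS hF hN (centralizerSystem_spec F N hN.1)
  obtain ⟨⟨-, R, hR⟩, -⟩ := IsSaturated.automized_receptive hCp hCs hQ
  have hfix : ∀ b ∈ C.autGroup Q, ∀ x : Q, (x : Ω) ∈ N → b x = x := by
    intro b hb x hx
    obtain ⟨-, -, -, ψ, -, hext, hfx⟩ := autHom_mem C hQ.1 hb
    refine Subtype.ext ((hext x).symm.trans (Eq.trans ?_ (hfx ⟨x, hx⟩)))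
    exact congrArg ψ (Subtype.ext rfl)
  let L : Subgroup (C.autGroup Q) :=
    { carrier := {b | ∀ x : Q, (x : Ω)⁻¹ * (((b : MulAut Q) x : Q) : Ω) ∈ N}
      one_mem' := fun x => by simp
      mul_mem' := fun {a b} ha hb x => by
        have h := N.mul_mem (hb x) (ha ((b : MulAut Q) x))
        rw [Subgroup.coe_mul, MulAut.mul_apply]
        rwa [show (x : Ω)⁻¹ * (((b : MulAut Q) x : Q) : Ω) * ((((b : MulAut Q) x : Q) : Ω)⁻¹ *
          (((a : MulAut Q) ((b : MulAut Q) x) : Q) : Ω)) =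
          (x : Ω)⁻¹ * (((a : MulAut Q) ((b : MulAut Q) x) : Q) : Ω) by group] at h
      inv_mem' := fun {a} ha x => by
        have h := N.inv_mem (ha ((a : MulAut Q)⁻¹ x))
        rw [MulAut.inv_apply, MulEquiv.apply_symm_apply] at h
        rw [Subgroup.coe_inv, MulAut.inv_apply]
        rwa [mul_inv_rev, inv_inv] at h }
  haveI : L.Normal := ⟨fun b hb g x => by
    obtain ⟨w, rfl⟩ := (g : MulAut Q).surjective x
    rw [Subgroup.coe_mul, Subgroup.coe_mul, Subgroup.coe_inv, MulAut.mul_apply, MulAut.mul_apply,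
      MulAut.inv_apply, MulEquiv.symm_apply_apply]
    have h1 : (((g : MulAut Q) w : Q) : Ω)⁻¹ * (((g : MulAut Q) ((b : MulAut Q) w) : Q) : Ω) =
        (((g : MulAut Q) (w⁻¹ * (b : MulAut Q) w) : Q) : Ω) := by
      rw [map_mul, map_inv]
      rfl
    rw [h1, hfix _ g.2 _ (hb w)]
    exact hb w⟩
  have hLp : IsPGroup p L := by
    obtain ⟨m, hm⟩ : ∃ m, Nat.card Q = p ^ m := IsPGroup.iff_card.1 (hCp.to_le hQ.1)
    rintro ⟨⟨b, hbC⟩, hb⟩
    refine ⟨m, Subtype.ext (Subtype.ext (MulEquiv.ext fun x => ?_))⟩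
    let w : Q := x⁻¹ * b x
    have hk : ∀ k : ℕ, (b ^ k) x = x * w ^ k := by
      intro k
      induction k with
      | zero => simp
      | succ k ih =>
        rw [pow_succ', MulAut.mul_apply, ih, map_mul, map_pow, hfix b hbC w (hb x),
          show b x = x * w from (mul_inv_cancel_left x (b x)).symm, mul_assoc, ← pow_succ']
    show (b ^ p ^ m) x = x
    rw [hk, ← hm, pow_card_eq_one', mul_one]
  have h1 := le_sylow_of_normal hLp R (x := ⟨β, hβ⟩) hβN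
  rw [hR] at h1
  obtain ⟨f, hf, hfe⟩ := mem_autInducedBy.1 (Subgroup.mem_subgroupOf.1 h1)
  exact ⟨f, hf, hfe⟩

/-- An automorphism of `N C_S(N)` fixing `N` and trivial modulo `N` is a conjugation. -/
theorem stab_ctr_eq_conj (hS : IsPGroup p S) (hF : F.IsSaturated p) {N : Subgroup Ω}
    (hN : F.IsFullyCentralized N) {κ : MulAut (ctr S N)} (hκ : κ ∈ F.autGroup (ctr S N))
    (hfix : ∀ x : ctr S N, (x : Ω) ∈ N → κ x = x)
    (hmod : ∀ x : ctr S N, (x : Ω)⁻¹ * ((κ x : _) : Ω) ∈ N) :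
    ∃ f ∈ centralizerIn S N, ∀ x : ctr S N, ((κ x : _) : Ω) = f * (x : Ω) * f⁻¹ := by
  set C₁ := centralizerIn S N with hC₁
  have := finite_of_le (centralizerIn_le S N)
  have hle : C₁ ≤ ctr S N := le_sup_right
  have hκh := autHom_mem F (ctr_le hN.1) hκ
  have hval : ∀ x : C₁, restr hle (autHom κ) x ∈ C₁ := by
    intro x
    refine mem_centralizerIn_iff_conj.2 ⟨ctr_le hN.1 (κ _).2, fun n hn => ?_⟩
    have hn' : n ∈ ctr S N := le_ctr S N hn
    have e : (⟨(x : Ω), hle x.2⟩ : ctr S N) * ⟨n, hn'⟩ * ⟨(x : Ω), hle x.2⟩⁻¹ = ⟨n, hn'⟩ :=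
      Subtype.ext ((mem_centralizerIn_iff_conj.1 x.2).2 n hn)
    have h1 := congrArg (fun z => ((κ z : _) : Ω)) e
    simp only [map_mul, map_inv, Subgroup.coe_mul, Subgroup.coe_inv, hfix ⟨n, hn'⟩ hn] at h1
    exact h1
  have hr : (restr hle (autHom κ)).range = C₁ := by
    refine Subgroup.eq_of_le_of_card_ge ?_
      (card_range_eq (F.injective_of_mem (restr_mem F hκh hle))).ge
    rintro _ ⟨x, rfl⟩
    exact hval x
  have hlN : C₁ ⊔ N ≤ ctr S N := sup_le hle (le_ctr S N)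
  have hmem : restr hle (autHom κ) ∈ (centralizerSystem F N hN.1).Hom C₁ :=
    ⟨restr_mem F hκh hle, le_rfl, hval, restr hlN (autHom κ), restr_mem F hκh hlN,
      fun x => rfl, fun x => congrArg Subtype.val (hfix ⟨x, le_ctr S N x.2⟩ x.2)⟩
  obtain ⟨f, hf, hfe⟩ := stab_eq_conj hS hF hN (isFullyNormalized_top _)
    (β := isoOf _ (F.injective_of_mem hmem.1) hr) (mem_autGroup_of_hom _ hmem)
    (fun x => hmod ⟨x, hle x.2⟩)
  have hfn : f ∈ Subgroup.normalizer ((ctr S N : Subgroup Ω) : Set Ω) :=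
    Subgroup.le_normalizer (hle hf)
  have e : autHom κ = autHom (conjAut hfn) := by
    refine hom_ext_sup (fun x hx hxN => ?_) (fun x hx hxC => hfe ⟨x, hxC⟩)
    show _ = f * x * f⁻¹
    rw [(mem_centralizerIn_iff_conj.1 hf).2 x hxN]
    exact congrArg Subtype.val (hfix ⟨x, hx⟩ hxN)
  exact ⟨f, hf, fun x => DFunLike.congr_fun e x⟩

/-- In a subgroup containing a Sylow subgroup and normal, membership of `p`-powers suffices. -/
theorem mem_of_pow_mem_of_sylow_le {A : Type*} [Group A] [Finite A] {M : Subgroup A} [M.Normal]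
    (R : Sylow p A) (hR : (R : Subgroup A) ≤ M) {a : A} {m : ℕ} (h : a ^ p ^ m ∈ M) : a ∈ M := by
  have hnd : ¬ p ∣ M.index := fun hd => R.not_dvd_index (hd.trans (Subgroup.index_dvd_of_le hR))
  have h1 : (a : A ⧸ M) ^ p ^ m = 1 := by
    rw [← QuotientGroup.mk_pow, QuotientGroup.eq_one_iff]
    exact h
  have h2 : orderOf (a : A ⧸ M) = 1 :=
    Nat.eq_one_of_dvd_coprimes
      (Nat.Coprime.pow_right m (((Fact.out : p.Prime).coprime_iff_not_dvd).2 hnd).symm)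
      (orderOf_dvd_natCard _) (orderOf_dvd_of_pow_eq_one h1)
  exact (QuotientGroup.eq_one_iff (N := M) a).1 (orderOf_eq_one_iff.1 h2)

theorem isCentric_img (D : WNData p F E) {P Q : Subgroup Ω} (hP : E.IsCentric P)
    (h : F.IsConj P Q) : E.IsCentric Q :=
  ⟨(isCentric_of_invariant_conj D.inv hP h).1, fun _ ⟨f, hf, hfr⟩ =>
    (isCentric_of_invariant_conj D.inv hP (isConj_trans h ⟨f, D.inv.1 _ hf, hfr⟩)).2⟩

/-- The step from `N_T(P)` down to `P`. -/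
theorem twist_step (D : WNData p F E) {P : Subgroup Ω} (hP : E.IsCentric P)
    (hPn : F.IsFullyNormalized P) (hNn : F.IsFullyNormalized (normalizerIn T P))
    (ih : E.autGroup (normalizerIn T P) ≤ twistSub F (normalizerIn T P)) {α : MulAut P}
    (hα : α ∈ E.autGroup P)
    (hαn : ∀ β ∈ autInducedBy T P, α * β * α⁻¹ ∈ autInducedBy T P) :
    ∃ m : ℕ, α ^ p ^ m ∈ twistSub F P := by
  have := D.finite
  have hTS := D.le
  have hPS := hP.1.trans hTS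
  have hNT : normalizerIn T P ≤ T := normalizerIn_le T P
  have hPN : P ≤ normalizerIn T P := le_normalizerIn hP.1
  set N := normalizerIn T P with hN
  have hNS := hNT.trans hTS
  have := finite_of_le hNS
  have := finite_of_le hPS
  obtain ⟨ψ₀, hψ₀, hψ₀e⟩ := exists_extension_of_normalizes D.pgroupT D.satE
    (isFullyNormalized_subsystem D.pgroup D.saturated D.inv.2.1 E D.inv.1 hP.1 hPn) hα hαn
  have hr₀ : ψ₀.range = N := by
    refine Subgroup.eq_of_le_of_card_ge ?_ (card_range_eq (E.injective_of_mem hψ₀)).ge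
    rintro _ ⟨n, rfl⟩
    refine mem_normalizerIn.2 ⟨apply_mem hψ₀ n, mem_normalizer_of_finite fun y hy => ?_⟩
    obtain ⟨x, hx⟩ := α.surjective ⟨y, hy⟩
    have hnx : (n : Ω) * (x : Ω) * (n : Ω)⁻¹ ∈ P := conj_mem_of_mem_normalizer n.2.2 x.2
    rw [show y = ψ₀ ⟨x, hPN x.2⟩ by rw [hψ₀e x x.2, hx], ← map_inv, ← map_mul, ← map_mul]
    exact (hψ₀e _ hnx (hPN hnx)).symm ▸ SetLike.coe_mem _
  set a₁ : MulAut N := isoOf ψ₀ (E.injective_of_mem hψ₀) hr₀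
  have ha₁ : a₁ ∈ E.autGroup N := mem_autGroup_of_hom E hψ₀
  have ha₁P : ∀ x : P, ((a₁ ⟨x, hPN x.2⟩ : N) : Ω) = α x := fun x => hψ₀e x x.2 _
  set U := centralizerIn S P with hU
  set C₁ := centralizerIn S N with hC₁
  set R₁ := ctr S N with hR₁
  obtain ⟨b, hb, hbN, hbT⟩ := ih ha₁
  have := finite_of_le (ctr_le (S := S) hNS)
  have hR₁S : R₁ ≤ S := ctr_le hNS
  have hNc := IsSaturated.fullyCentralized D.pgroup D.saturated hNn
  have hC₁U : C₁ ≤ U := fun c hc =>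
    mem_centralizerIn.2 ⟨hc.1, fun x hx => (mem_centralizerIn.1 hc).2 x (hPN hx)⟩
  have hCT : ∀ z ∈ centralizerIn T P, z ∈ P := fun z hz => hP.2 P (isConj_refl E hP.1) hz
  have hUN : ∀ e ∈ U, e ∈ Subgroup.normalizer (N : Set Ω) := fun e he =>
    mem_normalizer_of_finite fun n hn => mem_normalizerIn.2 ⟨D.conj_mem he.1 hn.1,
      mul_mem (mul_mem (centralizerIn_le_normalizerIn S P he).2 hn.2)
        (inv_mem (centralizerIn_le_normalizerIn S P he).2)⟩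
  have hUR : ∀ e ∈ U, e ∈ Subgroup.normalizer (R₁ : Set Ω) := fun e he =>
    ctr_normalizer he.1 (hUN e he)
  have key : ∀ e ∈ U, ∃ z ∈ P, ∃ f ∈ C₁, ∀ y : R₁, ∀ h : e * (y : Ω) * e⁻¹ ∈ R₁,
      ((b ⟨e * (y : Ω) * e⁻¹, h⟩ : R₁) : Ω) = z * e * f * ((b y : R₁) : Ω) * (z * e * f)⁻¹ := by
    intro e he
    set En : MulAut N := conjAut (hUN e he) with hEn
    have hEnF : En ∈ F.autGroup N := conjAut_mem_autGroup F hNS he.1 _
    have hε : a₁ * (En * a₁⁻¹ * En⁻¹) ∈ E.autGroup N :=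
      mul_mem ha₁ (conj_mem_autGroup_of_invariant D.inv hTS hNT hEnF (inv_mem ha₁))
    have hEnP : ∀ x : N, (x : Ω) ∈ P → En x = x := fun x hx =>
      Subtype.ext ((mem_centralizerIn_iff_conj.1 he).2 x hx)
    obtain ⟨z, hz, hzε⟩ := exists_eq_conj_of_trivial_on_centric D.pgroupT D.satE hPN hNT
      inf_le_right hP hε (fun x hx => by
        have h1 : En⁻¹ x = x := by
          conv_lhs => rw [← hEnP x hx]
          rw [MulAut.inv_apply, MulEquiv.symm_apply_apply]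
        have h2 : a₁⁻¹ x = ⟨α.symm ⟨x, hx⟩, hPN (SetLike.coe_mem _)⟩ := by
          rw [MulAut.inv_apply, MulEquiv.symm_apply_eq]
          refine Subtype.ext ?_
          rw [ha₁P, MulEquiv.apply_symm_apply]
        rw [MulAut.mul_apply, MulAut.mul_apply, MulAut.mul_apply, h1,
          hEnP _ (by rw [h2]; exact SetLike.coe_mem _), MulAut.inv_apply,
          MulEquiv.apply_symm_apply])
    have hzP := hCT z hz
    set ce : MulAut R₁ := conjAut (hUR e he) with hce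
    have hze : z * e ∈ Subgroup.normalizer (R₁ : Set Ω) :=
      mul_mem (Subgroup.le_normalizer (le_ctr S N (hPN hzP))) (hUR e he)
    set θ : MulAut R₁ := b * ce * b⁻¹ with hθ
    set κ : MulAut R₁ := (conjAut hze)⁻¹ * θ with hκ
    have hzeS : z * e ∈ S := S.mul_mem (hPS hzP) he.1
    have hκF : κ ∈ F.autGroup R₁ :=
      mul_mem (inv_mem (conjAut_mem_autGroup F hR₁S hzeS _))
        (mul_mem (mul_mem hb (conjAut_mem_autGroup F hR₁S he.1 _)) (inv_mem hb))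
    have hκv : ∀ y : R₁, ((κ y : R₁) : Ω) = (z * e)⁻¹ * ((θ y : R₁) : Ω) * (z * e) := by
      intro y
      have h1 : conjAut hze (κ y) = θ y := by
        rw [hκ, MulAut.mul_apply, MulAut.inv_apply, MulEquiv.apply_symm_apply]
      rw [← h1]
      show ((κ y : R₁) : Ω) = (z * e)⁻¹ * (z * e * ((κ y : R₁) : Ω) * (z * e)⁻¹) * (z * e)
      group
    have hfix : ∀ y : R₁, (y : Ω) ∈ N → κ y = y := by
      intro y hy
      refine Subtype.ext ?_
      rw [hκv]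
      have hb1 : b⁻¹ y = ⟨(a₁⁻¹ ⟨y, hy⟩ : N), le_ctr S N (SetLike.coe_mem _)⟩ := by
        rw [MulAut.inv_apply, MulEquiv.symm_apply_eq]
        refine Subtype.ext ?_
        rw [hbN, MulAut.inv_apply, MulEquiv.apply_symm_apply]
      have h2 : ((θ y : R₁) : Ω) = z * e * (y : Ω) * (z * e)⁻¹ := by
        have h3 := hzε (En ⟨y, hy⟩)
        rw [MulAut.mul_apply, MulAut.mul_apply, MulAut.mul_apply] at h3
        rw [MulAut.inv_apply (e := En), MulEquiv.symm_apply_apply] at h3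
        rw [hθ, MulAut.mul_apply, MulAut.mul_apply, hb1]
        have e2 : ce ⟨(a₁⁻¹ ⟨y, hy⟩ : N), le_ctr S N (SetLike.coe_mem _)⟩ =
            ⟨(En (a₁⁻¹ ⟨y, hy⟩) : N), le_ctr S N (SetLike.coe_mem _)⟩ := Subtype.ext rfl
        rw [e2, hbN, h3]
        show z * (e * (y : Ω) * e⁻¹) * z⁻¹ = _
        group
      rw [h2]
      group
    have hmod : ∀ y : R₁, (y : Ω)⁻¹ * ((κ y : R₁) : Ω) ∈ N := by
      intro y
      have hzN := hPN hzP
      obtain ⟨w, rfl⟩ := b.surjective y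
      have hRN : ∀ y ∈ R₁, ∀ x ∈ N, y * x * y⁻¹ ∈ N := fun y hy x hx => ctr_conj hNS hy hx
      rw [hκv, hθ, MulAut.mul_apply, MulAut.mul_apply, MulAut.inv_apply,
        MulEquiv.symm_apply_apply]
      have h1 := hbT w
      have h2 := hbT (ce w)
      have hcw : ((ce w : R₁) : Ω) = e * (w : Ω) * e⁻¹ := rfl
      have hwR := w.2
      have hcwR := (ce w).2
      generalize ((b w : R₁) : Ω) = u at h1 ⊢
      generalize ((b (ce w) : R₁) : Ω) = v at h2 ⊢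
      generalize ((ce w : R₁) : Ω) = cw at hcw h2 hcwR
      have e1 : u⁻¹ * ((z * e)⁻¹ * v * (z * e)) = ((w : Ω)⁻¹ * u)⁻¹ *
          (e⁻¹ * ((cw⁻¹ * z⁻¹ * cw⁻¹⁻¹) * (cw⁻¹ * v) * z) * e⁻¹⁻¹) := by
        rw [hcw]
        group
      rw [e1]
      exact N.mul_mem (N.inv_mem h1) (conj_mem_of_mem_normalizer (inv_mem (hUN e he))
        (N.mul_mem (N.mul_mem (hRN _ (R₁.inv_mem hcwR) _ (N.inv_mem hzN)) h2) hzN))
    obtain ⟨f, hf, hfκ⟩ := stab_ctr_eq_conj D.pgroup D.saturated hNc hκF hfix hmod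
    refine ⟨z, hzP, f, hf, fun y h => ?_⟩
    have h1 := hfκ (b y)
    rw [hκv] at h1
    have h2 : θ (b y) = b ⟨e * (y : Ω) * e⁻¹, h⟩ := by
      rw [hθ, MulAut.mul_apply, MulAut.mul_apply, MulAut.inv_apply, MulEquiv.symm_apply_apply]
      exact congrArg b (Subtype.ext rfl)
    rw [h2] at h1
    generalize ((b ⟨e * (y : Ω) * e⁻¹, h⟩ : R₁) : Ω) = v at h1 ⊢
    generalize ((b y : R₁) : Ω) = u at h1 ⊢
    calc v = z * e * ((z * e)⁻¹ * v * (z * e)) * (z * e)⁻¹ := by group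
      _ = z * e * (f * u * f⁻¹) * (z * e)⁻¹ := by rw [h1]
      _ = z * e * f * u * (z * e * f)⁻¹ := by group
  -- extend `b` to `R₁ U`
  have hbh := autHom_mem F hR₁S hb
  have hR₁e : R₁ ≤ extender S R₁ (autHom b) := le_extender hR₁S (apply_mem hbh)
  have hle : R₁ ⊔ U ≤ extender S R₁ (autHom b) := by
    refine sup_le hR₁e fun e he => ?_
    obtain ⟨z, hz, f, hf, h⟩ := key e he
    exact mem_extender.2 ⟨he.1, hUR e he, z * e * f,
      S.mul_mem (S.mul_mem (hPS hz) he.1) hf.1, fun x hx => h x hx⟩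
  obtain ⟨ψ, hψ, hψe, -⟩ := IsReceptive.extend (IsSaturated.receptive D.pgroup D.saturated
    (isFullyCentralized_of_isCentric (ctr_centric hNc))) hbh (range_autHom b)
  have hPR : ctr S P ≤ R₁ ⊔ U := sup_le_sup_right (hPN.trans (le_ctr S N)) _
  set φ := restr (hPR.trans hle) ψ with hφ
  have hφF : φ ∈ F.Hom (ctr S P) := restr_mem F hψ _
  have hφR : ∀ y : ctr S P, ∀ h : (y : Ω) ∈ R₁, φ y = ((b ⟨y, h⟩ : R₁) : Ω) :=
    fun y h => hψe y h _
  have hφP : ∀ x : P, φ ⟨x, le_ctr S P x.2⟩ = α x := by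
    intro x
    rw [hφR _ (le_ctr S N (hPN x.2))]
    exact (hbN ⟨x, hPN x.2⟩).trans (ha₁P x)
  set V := P ⊔ C₁ with hV
  have hVP : V ≤ ctr S P := sup_le_sup_left hC₁U _
  have hVn : ∀ y ∈ ctr S P, ∀ x ∈ V, y * x * y⁻¹ ∈ V := by
    intro y hy x hx
    have hyS := ctr_le hPS hy
    have hyN : y ∈ Subgroup.normalizer (N : Set Ω) := mem_normalizer_of_finite fun n hn =>
      mem_normalizerIn.2 ⟨D.conj_mem hyS hn.1, mul_mem (mul_mem (ctr_le_normalizerIn hPS hy).2 hn.2)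
        (inv_mem (ctr_le_normalizerIn hPS hy).2)⟩
    have hle : V.map (MulAut.conj y).toMonoidHom ≤ V := by
      rw [hV, Subgroup.map_sup]
      refine sup_le_sup ?_ ?_
      · rintro _ ⟨v, hv, rfl⟩
        exact ctr_conj hPS hy hv
      · rintro _ ⟨v, hv, rfl⟩
        exact normalizer_centralizerIn hyS hyN hv
    exact hle ⟨x, hx, rfl⟩
  have hφC : ∀ c : ctr S P, (c : Ω) ∈ C₁ → (c : Ω)⁻¹ * φ c ∈ P := by
    intro c hc
    have hcR : (c : Ω) ∈ R₁ := Subgroup.mem_sup_right hc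
    rw [hφR c hcR]
    refine hCT _ (mem_centralizerIn_iff_conj.2 ⟨hNT (hbT ⟨c, hcR⟩), fun x hx => ?_⟩)
    obtain ⟨x₀, hx₀⟩ := α.surjective ⟨x, hx⟩
    have hc' := (mem_centralizerIn_iff_conj.1 (hC₁U hc)).2
    have h1 : ((b ⟨c, hcR⟩ : R₁) : Ω) * x * ((b ⟨c, hcR⟩ : R₁) : Ω)⁻¹ = x := by
      have e1 : φ ⟨x₀, le_ctr S P x₀.2⟩ = x := by rw [hφP, hx₀]
      rw [← hφR c hcR, ← e1, ← map_inv, ← map_mul, ← map_mul]
      exact congrArg φ (Subtype.ext (hc' x₀ x₀.2))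
    calc (c : Ω)⁻¹ * ((b ⟨c, hcR⟩ : R₁) : Ω) * x * ((c : Ω)⁻¹ * ((b ⟨c, hcR⟩ : R₁) : Ω))⁻¹
        = (c : Ω)⁻¹ * (((b ⟨c, hcR⟩ : R₁) : Ω) * x * ((b ⟨c, hcR⟩ : R₁) : Ω)⁻¹) * c := by group
      _ = (c : Ω)⁻¹ * x * c := by rw [h1]
      _ = (c : Ω)⁻¹ * ((c : Ω) * x * (c : Ω)⁻¹) * c := by rw [hc' x hx]
      _ = x := by group
  have hφV : ∀ y : ctr S P, (y : Ω)⁻¹ * φ y ∈ V := by
    refine trivMod_all hVn φ (fun y hy => ?_) fun y hy => ?_
    · exact Subgroup.mem_sup_left (P.mul_mem (P.inv_mem hy) ((hφP ⟨y, hy⟩).symm ▸ SetLike.coe_mem _))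
    · obtain ⟨z, hz, f, hf, h⟩ := key y hy
      have hyx : (y : Ω) ∈ extender S R₁ (autHom b) := hle (Subgroup.mem_sup_right hy)
      have hc : (z * (y : Ω) * f)⁻¹ * φ y ∈ C₁ := by
        refine mem_centralizerIn_iff_conj.2 ⟨S.mul_mem (S.inv_mem
          (S.mul_mem (S.mul_mem (hPS hz) hy.1) hf.1)) (apply_mem hψ _), fun n hn => ?_⟩
        obtain ⟨w, hw⟩ := b.surjective ⟨n, le_ctr S N hn⟩
        have hyw := conj_mem_of_mem_normalizer (hUR y hy) w.2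
        have e1 : φ y * n * (φ y)⁻¹ = z * (y : Ω) * f * n * (z * (y : Ω) * f)⁻¹ := by
          have h3 : ψ ⟨w, hR₁e w.2⟩ = n := (hψe w w.2 _).trans (by rw [autHom_apply, hw])
          have h4 := h w hyw
          rw [hw] at h4
          rw [← h4]
          show ψ ⟨y, _⟩ * n * (ψ ⟨y, _⟩)⁻¹ = _
          rw [← h3, ← map_inv, ← map_mul, ← map_mul]
          exact hψe _ hyw _
        generalize z * (y : Ω) * f = s at e1 ⊢
        calc s⁻¹ * φ y * n * (s⁻¹ * φ y)⁻¹ = s⁻¹ * (φ y * n * (φ y)⁻¹) * s := by group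
          _ = n := by rw [e1]; group
      have h5 : (y : Ω)⁻¹ * z * (y : Ω) = z := by
        have := (mem_centralizerIn_iff_conj.1 hy).2 z hz
        calc (y : Ω)⁻¹ * z * (y : Ω) = (y : Ω)⁻¹ * ((y : Ω) * z * (y : Ω)⁻¹) * y := by rw [this]
          _ = z := by group
      have e2 : (y : Ω)⁻¹ * φ y =
          ((y : Ω)⁻¹ * z * (y : Ω)) * (f * ((z * (y : Ω) * f)⁻¹ * φ y)) := by group
      refine (congrArg (· ∈ V) (e2.trans (congrArg (· * _) h5))).mpr ?_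
      exact Subgroup.mul_mem _ (Subgroup.mem_sup_left hz) (Subgroup.mem_sup_right (C₁.mul_mem hf hc))
  have := finite_of_le (ctr_le (S := S) hPS)
  have hφr : φ.range = ctr S P := by
    refine Subgroup.eq_of_le_of_card_ge ?_ (card_range_eq (F.injective_of_mem hφF)).ge
    rintro _ ⟨y, rfl⟩
    rw [← mul_inv_cancel_left (y : Ω) (φ y)]
    exact mul_mem y.2 (hVP (hφV y))
  set a₀ : MulAut (ctr S P) := isoOf φ (F.injective_of_mem hφF) hφr
  have ha₀V : ∀ v : ctr S P, (v : Ω) ∈ V → (v : Ω)⁻¹ * ((a₀ v : _) : Ω) ∈ P := by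
    intro v hv
    have hn : ∀ y ∈ P ⊔ C₁, ∀ x ∈ P, y * x * y⁻¹ ∈ P := fun y hy x hx => ctr_conj hPS (hVP hy) hx
    exact trivMod_all hn (restr hVP φ)
      (fun y hy => P.mul_mem (P.inv_mem hy) ((hφP ⟨y, hy⟩).symm ▸ SetLike.coe_mem _))
      (fun y hy => hφC ⟨y, hVP y.2⟩ hy) ⟨v, hv⟩
  obtain ⟨m, hm⟩ : ∃ m, Nat.card S = p ^ m := IsPGroup.iff_card.1 D.pgroup
  have hkP : ∀ (k : ℕ) (x : P),
      (((a₀ ^ k) ⟨x, le_ctr S P x.2⟩ : ctr S P) : Ω) = (((α ^ k) x : P) : Ω) := by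
    intro k
    induction k with
    | zero => intro x; rfl
    | succ k ih =>
      intro x
      rw [pow_succ', pow_succ', MulAut.mul_apply, MulAut.mul_apply,
        show (a₀ ^ k) ⟨x, le_ctr S P x.2⟩ = ⟨_, le_ctr S P ((α ^ k) x).2⟩ from Subtype.ext (ih x)]
      exact hφP _
  refine ⟨m, a₀ ^ p ^ m, pow_mem (mem_autGroup_of_hom F hφF) _, hkP _, fun y => ?_⟩
  obtain ⟨w, hw⟩ : ∃ w : ctr S P, w = y⁻¹ * a₀ y := ⟨_, rfl⟩
  have hwV : (w : Ω) ∈ V := hw ▸ hφV y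
  have hk : ∀ k : ℕ, ((y : Ω) * (w : Ω) ^ k)⁻¹ * (((a₀ ^ k) y : _) : Ω) ∈ P := by
    intro k
    induction k with
    | zero => simp
    | succ k ih =>
      set q : ctr S P := (y * w ^ k)⁻¹ * (a₀ ^ k) y with hq
      have hqP : (q : Ω) ∈ P := ih
      have e1 : (a₀ ^ (k + 1)) y = y * w * (a₀ (w ^ k)) * a₀ q := by
        rw [pow_succ', MulAut.mul_apply]
        have : (a₀ ^ k) y = y * w ^ k * q := (mul_inv_cancel_left _ _).symm
        rw [this, map_mul, map_mul, show a₀ y = y * w by rw [hw, mul_inv_cancel_left]]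
      have h1 : ((w : Ω) ^ k)⁻¹ * ((a₀ (w ^ k) : _) : Ω) ∈ P :=
        ha₀V (w ^ k) (by simpa using V.pow_mem hwV k)
      have h2 : ((a₀ q : _) : Ω) ∈ P := (congrArg (· ∈ P) (hφP ⟨q, hqP⟩)).mpr (SetLike.coe_mem _)
      rw [e1, Subgroup.coe_mul, Subgroup.coe_mul, Subgroup.coe_mul,
        show ((y : Ω) * (w : Ω) ^ (k + 1))⁻¹ *
          ((y : Ω) * (w : Ω) * ((a₀ (w ^ k) : _) : Ω) * ((a₀ q : _) : Ω)) =
          ((w : Ω) ^ k)⁻¹ * ((a₀ (w ^ k) : _) : Ω) * ((a₀ q : _) : Ω) by rw [pow_succ']; group]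
      exact P.mul_mem h1 h2
  have hwk : (w : Ω) ^ p ^ m = 1 := by
    rw [← hm]
    exact congrArg Subtype.val (pow_card_eq_one' (x := (⟨w, ctr_le hPS w.2⟩ : S)))
  have := hk (p ^ m)
  rwa [hwk, mul_one] at this

theorem twistSub_transport (D : WNData p F E) {P P' : Subgroup Ω} (hP : P ≤ T)
    {β : normalizerIn S P →* Ω} (hβ : β ∈ F.Hom (normalizerIn S P)) (himg : img β P = P')
    (h : E.autGroup P' ≤ twistSub F P') : E.autGroup P ≤ twistSub F P := by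
  intro α hα
  have hPS := hP.trans D.le
  have := finite_of_le (ctr_le (S := S) hPS)
  have hYN := ctr_le_normalizerIn (S := S) hPS
  set β' := restr hYN β with hβ'
  have hβ'F : β' ∈ F.Hom (ctr S P) := restr_mem F hβ hYN
  have hr : (restr (le_normalizerIn hPS) β).range = P' := (range_restr _ _).trans himg
  have hcF := restr_mem F hβ (le_normalizerIn hPS)
  set i := isoOf _ (F.injective_of_mem hcF) hr
  have hα' := congr_mem_of_invariant D.inv hP hcF hr hα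
  obtain ⟨a, ha, ha₁, ha₂⟩ := h hα'
  have hP'S : P' ≤ S := hr ▸ range_le hcF
  have hβP : ∀ x : P, β' ⟨x, le_ctr S P x.2⟩ = ((i x : P') : Ω) := fun x => rfl
  have hm1 : ∀ y, β' y ∈ ctr S P' := by
    intro y
    have h1 : β'.range ≤ ctr S P' := by
      rw [range_restr, ctr, img_sup β (le_normalizerIn hPS) (centralizerIn_le_normalizerIn S P)]
      refine sup_le_sup himg.le ?_
      rintro _ ⟨c, hc, rfl⟩
      refine mem_centralizerIn_iff_conj.2 ⟨apply_mem hβ c, fun x hx => ?_⟩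
      rw [← himg] at hx
      obtain ⟨x, hxN, hxP, rfl⟩ := mem_img.1 hx
      rw [← map_inv, ← map_mul, ← map_mul]
      exact congrArg β (Subtype.ext ((mem_centralizerIn_iff_conj.1 hc).2 x hxP))
    exact h1 ⟨y, rfl⟩
  let e₁ := compose β' (autHom a) hm1
  have he₁ : e₁ ∈ F.Hom (ctr S P) := compose_mem F hβ'F (autHom_mem F (ctr_le hP'S) ha) hm1
  have hm2 : ∀ y, e₁ y ∈ β'.range := by
    intro y
    show ((a ⟨β' y, hm1 y⟩ : _) : Ω) ∈ _
    have h1 : (β' y)⁻¹ * ((a ⟨β' y, hm1 y⟩ : _) : Ω) ∈ β'.range := by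
      refine (le_trans himg.ge ?_) (ha₂ ⟨β' y, hm1 y⟩)
      rw [range_restr]
      exact img_mono β (le_ctr S P)
    rw [← mul_inv_cancel_left (β' y) ((a ⟨β' y, hm1 y⟩ : _) : Ω)]
    exact mul_mem ⟨y, rfl⟩ h1
  obtain ⟨d, hd, -, hdl, hdl'⟩ := exists_inv F hβ'F rfl
  refine mem_twistSub_of_hom hPS (ψ := compose e₁ d hm2) (compose_mem F he₁ hd hm2)
    (fun x => ?_) fun c hc => ?_
  · have e1 : (⟨β' ⟨x, le_ctr S P x.2⟩, hm1 _⟩ : ctr S P') = ⟨i x, le_ctr S P' (i x).2⟩ :=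
      Subtype.ext rfl
    have e2 : e₁ ⟨x, le_ctr S P x.2⟩ = β' ⟨α x, le_ctr S P (α x).2⟩ := by
      show ((a ⟨β' ⟨x, le_ctr S P x.2⟩, hm1 _⟩ : ctr S P') : Ω) = _
      rw [e1, ha₁, hβP (α x)]
      show ((i (α (i.symm (i x))) : P') : Ω) = _
      rw [MulEquiv.symm_apply_apply]
    show d ⟨e₁ _, _⟩ = _
    simp only [e2]
    exact hdl _ _
  · show (c : Ω)⁻¹ * d ⟨e₁ c, _⟩ ∈ P
    have h1 := ha₂ ⟨β' c, hm1 c⟩
    obtain ⟨x, hxY, hxP, hx⟩ := mem_img.1 (himg.ge h1)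
    have e2 : e₁ c = β' (c * ⟨x, le_ctr S P hxP⟩) := by
      rw [map_mul, show β' ⟨x, le_ctr S P hxP⟩ = β ⟨x, hxY⟩ from rfl, hx, mul_inv_cancel_left]
      rfl
    simp only [e2]
    rw [hdl _ ⟨_, rfl⟩, Subgroup.coe_mul, inv_mul_cancel_left]
    exact hxP

/-- Every automorphism in a normal subsystem of a centric `P` extends to `P C_S(P)` trivially
modulo `P`. -/
theorem autGroup_le_twistSub (hS : IsPGroup p S) (hE : E.IsNormalIn F p) {P : Subgroup Ω}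
    (hP : E.IsCentric P) : E.autGroup P ≤ twistSub F P := by
  have D : WNData p F E := ⟨hS, hE.1.2.1, hE.1.1, hE.1.2.2⟩
  have := D.finite
  have hTS := D.le
  suffices key : ∀ n, ∀ P : Subgroup Ω, E.IsCentric P → Nat.card T ≤ Nat.card P + n →
      E.autGroup P ≤ twistSub F P from key (Nat.card T) P hP (Nat.le_add_left _ _)
  intro n
  induction n using Nat.strong_induction_on with
  | _ n ih =>
  intro P hP hn
  rcases hP.1.eq_or_lt with e | hlt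
  · subst e
    intro α hα
    obtain ⟨β, hβ, hβ₁, hβ₂⟩ := hE.2 α hα
    exact mem_twistSub_of_hom hTS (ψ := autHom β) (autHom_mem F (ctr_le hTS) hβ)
      (fun x => hβ₁ x) fun c hc => (hβ₂ c hc).1
  -- a good conjugate of `P`
  have hPS := hP.1.trans hTS
  obtain ⟨P₀, hPP₀, hP₀⟩ := exists_fullyNormalized F hPS
  obtain ⟨β₀, hβ₀, hβ₀N, himg₀⟩ := IsSaturated.exists_normalizer_map hS D.saturated hP₀ hPP₀
  have hP₀c := isCentric_img D hP hPP₀
  have hN₁T := normalizerIn_le T P₀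
  obtain ⟨M, hN₁M, hM⟩ := exists_fullyNormalized F (hN₁T.trans hTS)
  obtain ⟨β₁, hβ₁, hβ₁N, himg₁⟩ := IsSaturated.exists_normalizer_map hS D.saturated hM hN₁M
  have := finite_of_le (hN₁T.trans hTS)
  have hle : normalizerIn S P₀ ≤ normalizerIn S (normalizerIn T P₀) := fun g hg =>
    ⟨hg.1, mem_normalizer_of_finite fun n hn => mem_normalizerIn.2
      ⟨D.conj_mem hg.1 hn.1, mul_mem (mul_mem hg.2 hn.2) (inv_mem hg.2)⟩⟩
  set β₂ := restr hle β₁ with hβ₂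
  have hβ₂F : β₂ ∈ F.Hom (normalizerIn S P₀) := restr_mem F hβ₁ hle
  have hP₀N : P₀ ≤ normalizerIn S P₀ := le_normalizerIn hP₀.1
  set P₁ := img β₂ P₀ with hP₁
  have hPP₁ : F.IsConj P₀ P₁ := isConj_img F hβ₂F hP₀N
  have := finite_of_le hP₀.1
  have hP₁S := isConj_le_right hPP₁
  have := finite_of_le hP₁S
  have hβ₂N : ∀ x, β₂ x ∈ normalizerIn S P₁ := fun x => mem_normalizerIn.2 ⟨apply_mem hβ₂F x,
    mem_normalizer_of_finite fun y hy => by
      obtain ⟨z, hzN, hzP, rfl⟩ := mem_img.1 hy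
      rw [← map_inv, ← map_mul, ← map_mul]
      exact apply_mem_img β₂ _ (conj_mem_of_mem_normalizer x.2.2 hzP)⟩
  have := finite_of_le (normalizerIn_le S P₁)
  have hr₂ : β₂.range = normalizerIn S P₁ := by
    refine Subgroup.eq_of_le_of_card_ge ?_ ?_
    · rintro _ ⟨x, rfl⟩
      exact hβ₂N x
    · rw [card_range_eq (F.injective_of_mem hβ₂F)]
      exact hP₀.2 P₁ hPP₁
  have hP₁n : F.IsFullyNormalized P₁ := ⟨hP₁S, fun Q hQ => by
    refine (hP₀.2 Q (isConj_trans hPP₁ hQ)).trans ?_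
    rw [← hr₂, card_range_eq (F.injective_of_mem hβ₂F)]⟩
  have hNM : normalizerIn T P₁ = M := by
    rw [← himg₁]
    ext y
    constructor
    · intro hy
      obtain ⟨x, rfl⟩ := hr₂.ge ⟨hTS hy.1, hy.2⟩
      exact apply_mem_img β₁ ⟨x, hle x.2⟩
        ⟨(StronglyClosed.map_mem_iff D.inv.2.1 hβ₂F x).1 hy.1, x.2.2⟩
    · intro hy
      obtain ⟨x, hxN, hx, rfl⟩ := mem_img.1 hy
      have hx' : x ∈ normalizerIn S P₀ := ⟨hTS hx.1, hx.2⟩
      exact ⟨StronglyClosed.map_mem D.inv.2.1 hβ₂F ⟨x, hx'⟩ hx.1, (hβ₂N ⟨x, hx'⟩).2⟩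
  have hP₁c := isCentric_img D hP₀c hPP₁
  refine twistSub_transport D hP.1 hβ₀ himg₀ (twistSub_transport D hP₀c.1 hβ₂F rfl ?_)
  intro α hα
  have := finite_mulAut (P := P₁) hP₁c.1
  set A := E.autGroup P₁ with hA
  have hP₁E := isFullyNormalized_subsystem hS D.saturated D.inv.2.1 E D.inv.1 hP₁c.1 hP₁n
  obtain ⟨⟨-, R, hR⟩, -⟩ := IsSaturated.automized_receptive D.pgroupT D.satE hP₁E
  let M₀ : Subgroup A := (twistSub F P₁).subgroupOf A
  haveI : M₀.Normal := ⟨fun b hb g =>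
    twistSub_conj hS D.saturated hP₁n hb (autGroup_le_of_isSubsystemOf D.inv.1 hP₁c.1 g.2)⟩
  have hRM : (R : Subgroup A) ≤ M₀ := by
    rw [hR]
    intro g hg
    obtain ⟨t, htn, htT, hte⟩ := mem_autInducedBy_iff_conjAut.1 (Subgroup.mem_subgroupOf.1 hg)
    show (g : MulAut P₁) ∈ twistSub F P₁
    rw [← hte]
    refine mem_twistSub_of_hom hP₁S (ψ := conjHom _ t) (F.conj_mem (ctr_le hP₁S) (hTS htT))
      (fun x => rfl) fun c hc => hP₁c.2 P₁ (isConj_refl E hP₁c.1)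
        (mem_centralizerIn_iff_conj.2 ⟨?_, fun x hx => ?_⟩)
    · show (c : Ω)⁻¹ * (t * (c : Ω) * t⁻¹) ∈ T
      rw [show (c : Ω)⁻¹ * (t * (c : Ω) * t⁻¹) = (c : Ω)⁻¹ * t * (c : Ω)⁻¹⁻¹ * t⁻¹ by group]
      exact T.mul_mem (D.conj_mem (S.inv_mem hc.1) htT) (T.inv_mem htT)
    · have h1 := (mem_centralizerIn_iff_conj.1 (normalizer_centralizerIn (hTS htT) htn hc)).2 x hx
      have h2 := (mem_centralizerIn_iff_conj.1 (Subgroup.inv_mem _ hc)).2 x hx
      show (c : Ω)⁻¹ * (t * (c : Ω) * t⁻¹) * x * ((c : Ω)⁻¹ * (t * (c : Ω) * t⁻¹))⁻¹ = x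
      generalize t * (c : Ω) * t⁻¹ = u at h1 ⊢
      calc (c : Ω)⁻¹ * u * x * ((c : Ω)⁻¹ * u)⁻¹ = (c : Ω)⁻¹ * (u * x * u⁻¹) * (c : Ω)⁻¹⁻¹ := by group
        _ = x := by rw [h1, h2]
  have hNle : Subgroup.normalizer ((R : Subgroup A) : Set A) ≤ M₀ := by
    rintro ⟨γ, hγ⟩ hγN
    obtain ⟨m, hm⟩ := twist_step D hP₁c hP₁n (hNM.symm ▸ hM) (by
      have hlt₁ : P₁ < T := lt_of_le_of_ne hP₁c.1 fun e => hlt.ne
        (Subgroup.eq_of_le_of_card_ge hP.1 (by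
          rw [isConj_card hPP₀, isConj_card hPP₁, e]))
      have hcard : Nat.card P₁ < Nat.card (normalizerIn T P₁) := by
        have := finite_of_le (normalizerIn_le T P₁)
        by_contra hge
        exact (lt_normalizerIn D.pgroupT hlt₁).ne
          (Subgroup.eq_of_le_of_card_ge (le_normalizerIn hP₁c.1) (not_lt.1 hge))
      have h1 := isConj_card hPP₀
      have h2 := isConj_card hPP₁
      have h3 := Subgroup.card_le_of_le (normalizerIn_le T P₁)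
      exact ih (Nat.card T - Nat.card (normalizerIn T P₁)) (by omega) _
        (isCentric_of_le hP₁c (le_normalizerIn hP₁c.1) (normalizerIn_le T P₁)) (by omega))
      hγ (fun β hβ => by
        have hβA : β ∈ A := autInducedBy_le_autGroup E hP₁c.1 hβ
        have h1 := (Subgroup.mem_normalizer_iff.1 hγN ⟨β, hβA⟩).1 (by rw [hR]; exact hβ)
        rw [hR] at h1
        exact h1)
    exact mem_of_pow_mem_of_sylow_le (M := M₀) R hRM (a := ⟨γ, hγ⟩) (m := m) hm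
  have htop : M₀ = ⊤ := eq_top_of_frattini M₀ M₀ R hRM hNle le_rfl
  exact Subgroup.mem_subgroupOf.1 (htop ▸ Subgroup.mem_top (⟨α, hα⟩ : A) : (⟨α, hα⟩ : A) ∈ M₀)

end Cfsg.Agent.Lib.Fusion.PrimeIndex
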