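import Cfsg.Agent.Lib.Fusion.PrimeIndex.Envelope
import Cfsg.Agent.Lib.Fusion.PrimeIndex.StrongTwist
import Cfsg.Agent.Lib.Fusion.ModelBasic
import Cfsg.Agent.Lib.Fusion.Inner
import Cfsg.Agent.Lib.Fusion.QuotientHyperfocal

/-!
Normal subgroups and their centralizer systems against normal and subnormal subsystems.
-/

set_option autoImplicit false
set_option linter.unusedSectionVars false

namespace Cfsg.Agent.Lib.Fusion.PrimeIndex

open Cfsg Cfsg.FusionSystem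

universe u

variable {Ω : Type u} [Group Ω] {S U R : Subgroup Ω} {p : ℕ} [Fact p.Prime] [Finite S]
  {F : FusionSystem S} {D : FusionSystem U}

/-- The image of a normal subgroup. -/
theorem img_normal_eq (hR : F.IsNormal R) {P : Subgroup Ω} {ψ : P →* Ω} (hψ : ψ ∈ F.Hom P)
    (hRP : R ≤ P) : img ψ R = R :=
  img_eq_of_stronglyClosed (IsNormal.stronglyClosed hR) hψ hRP

theorem stronglyClosed_inf (hR : F.IsNormal R) (hD : D.IsInvariantIn F) :
    D.StronglyClosed (R ⊓ U) :=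
  ⟨inf_le_right, fun Q hQ φ hφ x =>
    ⟨(IsNormal.stronglyClosed hR).2 Q (hQ.trans inf_le_left) φ (hD.1 Q hφ) x, apply_mem hφ x⟩⟩

/-- An element of `Aut_D(P)` induced by `P R` is inner, for radical `P`. -/
theorem mem_inn_of_sup (hS : IsPGroup p S) (hR : F.IsNormal R) (hD : D.IsInvariantIn F)
    {P : Subgroup Ω} (hPU : P ≤ U)
    (hr : (pCore p (D.autGroup P)).map (D.autGroup P).subtype ≤ Inn P) {γ : MulAut P}
    (hγ : γ ∈ D.autGroup P) (hγR : γ ∈ autInducedBy (P ⊔ R) P) : γ ∈ Inn P := by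
  have hPS : P ≤ S := hPU.trans hD.2.1.1
  have hsup : P ⊔ R ≤ S := sup_le hPS hR.1
  have := finite_of_le hsup
  let N := (autInducedBy (P ⊔ R) P).subgroupOf (D.autGroup P)
  haveI hNn : N.Normal := by
    constructor
    rintro ⟨β, hβ⟩ hβN ⟨α, hα⟩
    obtain ⟨k, hk, hkx⟩ := mem_autInducedBy.1 hβN
    obtain ⟨ψ, hψ, hext, himg⟩ := hR.2 P (autHom α)
      (autHom_mem F hPS (Fusion.autGroup_le_of_isSubsystemOf hD.1 P hα))
    have hval : ψ ⟨k, hk⟩ ∈ P ⊔ R := by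
      have h1 : img ψ (P ⊔ R) ≤ P ⊔ R := by
        rw [img_sup ψ le_sup_left le_sup_right]
        refine sup_le (le_trans ?_ le_sup_left) (le_trans himg.le le_sup_right)
        rintro _ ⟨x, hx, rfl⟩
        have := hext ⟨x, hx⟩
        exact this ▸ (α ⟨x, hx⟩).2
      exact h1 (apply_mem_img ψ _ hk)
    refine mem_autInducedBy.2 ⟨ψ ⟨k, hk⟩, hval, fun x => ?_⟩
    obtain ⟨y, rfl⟩ := α.surjective x
    show ((α (β (α.symm (α y))) : P) : Ω) = _
    rw [MulEquiv.symm_apply_apply]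
    have h1 : (β y : Ω) = k * y * k⁻¹ := hkx y
    have hmem : k * (y : Ω) * k⁻¹ ∈ P := h1 ▸ (β y).2
    have h2 := map_conj (φ := autHom α) (ψ := ψ) (fun z hz _ => hext ⟨z, hz⟩) le_sup_left hk y.2
      hmem
    rw [show β y = ⟨k * y * k⁻¹, hmem⟩ from Subtype.ext h1]
    exact h2
  have hNp : IsPGroup p N :=
    (isPGroup_autInducedBy (hS.to_le hsup) P).comap_of_injective _ Subtype.val_injective
  exact hr ⟨⟨γ, hγ⟩, le_pCore_of_normal hNp hγR, rfl⟩

/-- A normal subgroup meets a normal subsystem in a normal subgroup. -/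
theorem normal_inf (hS : IsPGroup p S) (hR : F.IsNormal R) (hD : D.IsInvariantIn F)
    (hDs : D.IsSaturated p) : D.IsNormal (R ⊓ U) := by
  have hUS := hD.2.1.1
  have := finite_of_le hUS
  have hUp := hS.to_le hUS
  refine (normal_iff_stronglyClosed_le hUp hDs _).2 ⟨stronglyClosed_inf hR hD, fun P hc hr => ?_⟩
  refine le_of_normalizer_le hUp hc.1 inf_le_right
    (hc.1.trans (le_normalizer_of_stronglyClosed (stronglyClosed_inf hR hD))) fun g hg => ?_
  exact mem_of_conjAut_inn hc (⟨hg.1.2, hg.2⟩ : g ∈ normalizerIn U P)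
    (mem_inn_of_sup hS hR hD hc.1 hr.2.le (conjAut_mem_autGroup D hc.1 hg.1.2 hg.2)
      (conjAut_mem_autInducedBy (Subgroup.mem_sup_right hg.1.1) hg.2))

/-- The maps extending to the normal subgroup trivially modulo the base. -/
def modSystem (hR : F.IsNormal R) (hD : D.IsInvariantIn F) : FusionSystem U where
  Hom P := {φ | φ ∈ D.Hom P ∧ ∃ ψ ∈ F.Hom (P ⊔ R),
    (∀ x : P, ψ (Subgroup.inclusion le_sup_left x) = φ x) ∧
    ∀ x : ↥(P ⊔ R), (x : Ω) ∈ R → (x : Ω)⁻¹ * ψ x ∈ U}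
  le_of_mem h := D.le_of_mem h.1
  injective_of_mem h := D.injective_of_mem h.1
  conj_mem {P g} hP hg := by
    have := finite_of_le hD.2.1.1
    refine ⟨D.conj_mem hP hg, conjHom _ g,
      F.conj_mem (sup_le (hP.trans hD.2.1.1) hR.1) (hD.2.1.1 hg), fun _ => rfl, fun x hx => ?_⟩
    show (x : Ω)⁻¹ * (g * (x : Ω) * g⁻¹) ∈ U
    have h := U.mul_mem
      (StronglyClosed.conj_mem_self hD.2.1 (S.inv_mem (hR.1 hx)) hg) (U.inv_mem hg)
    rwa [show (x : Ω)⁻¹ * g * (x : Ω)⁻¹⁻¹ * g⁻¹ = (x : Ω)⁻¹ * (g * (x : Ω) * g⁻¹) by group] at h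
  comp_mem {P Q φ χ} hφ hχ h := by
    obtain ⟨hφD, ψ, hψ, hψe, hψm⟩ := hφ
    obtain ⟨hχD, ξ, hξ, hξe, hξm⟩ := hχ
    have hm : ∀ x, ψ x ∈ Q ⊔ R := by
      have h1 : ψ.range ≤ Q ⊔ R := by
        rw [← img_self, img_sup ψ le_sup_left le_sup_right, img_normal_eq hR hψ le_sup_right]
        refine sup_le_sup_right ?_ _
        rintro _ ⟨x, hx, rfl⟩
        exact (hψe ⟨x, hx⟩).symm ▸ h ⟨x, hx⟩
      exact fun x => h1 ⟨x, rfl⟩
    refine ⟨D.comp_mem hφD hχD h, compose ψ ξ hm, compose_mem F hψ hξ hm, fun x => ?_,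
      fun x hx => ?_⟩
    · rw [compose_apply]
      refine Eq.trans (congrArg ξ (Subtype.ext (hψe x) : (⟨_, hm _⟩ : ↥(Q ⊔ R)) =
        Subgroup.inclusion le_sup_left ⟨φ x, h x⟩)) (hξe _)
    · have hy : ψ x ∈ R := StronglyClosed.map_mem (IsNormal.stronglyClosed hR) hψ x hx
      have h1 := U.mul_mem (hψm x hx) (hξm ⟨ψ x, hm x⟩ hy)
      rw [show (x : Ω)⁻¹ * ψ x * ((ψ x)⁻¹ * ξ ⟨ψ x, hm x⟩) = (x : Ω)⁻¹ * ξ ⟨ψ x, hm x⟩ by group]
        at h1
      exact h1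
  inv_mem {P φ} hφ := by
    obtain ⟨hφD, ψ, hψ, hψe, hψm⟩ := hφ
    obtain ⟨c, hc, -, hcl, -⟩ := exists_inv D hφD rfl
    have hr : ψ.range = φ.range ⊔ R := by
      rw [← img_self, img_sup ψ le_sup_left le_sup_right, img_normal_eq hR hψ le_sup_right]
      congr 1
      ext y
      constructor
      · rintro ⟨x, hx, rfl⟩
        exact ⟨⟨x, hx⟩, (hψe ⟨x, hx⟩).symm⟩
      · rintro ⟨x, rfl⟩
        exact ⟨Subgroup.inclusion le_sup_left x, x.2, hψe x⟩
    obtain ⟨d, hd, -, hdl, hdl'⟩ := exists_inv F hψ hr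
    refine ⟨c, ⟨hc, d, hd, ?_, fun y hy => ?_⟩, fun x => hcl x _⟩
    · rintro ⟨_, x, rfl⟩
      refine Eq.trans ?_ (hcl x _).symm
      exact (congrArg d (Subtype.ext (hψe x).symm)).trans
        (hdl (Subgroup.inclusion le_sup_left x) ((hψe x).symm ▸ Subgroup.mem_sup_left ⟨x, rfl⟩))
    · have hy' : d y ∈ R := StronglyClosed.map_mem (IsNormal.stronglyClosed hR) hd y hy
      have h1 := U.inv_mem (hψm ⟨d y, Subgroup.mem_sup_right hy'⟩ hy')
      rw [hdl' y, mul_inv_rev, inv_inv] at h1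
      exact h1

/-- Extension to the normal subgroup of an automorphism of order prime to `p`. -/
theorem exists_ext_mod (hS : IsPGroup p S) (hR : F.IsNormal R) (hDn : D.IsNormalIn F p)
    {P : Subgroup Ω} (hc : D.IsCentric P) (hPc : F.IsFullyCentralized P)
    (hRn : ∀ x ∈ R, x ∈ Subgroup.normalizer (P : Set Ω))
    (hcomm : ∀ α ∈ D.autGroup P, ∀ x ∈ R, ∃ q ∈ P, ∀ (y : P) (h : x * (y : Ω) * x⁻¹ ∈ P),
      ((α ⟨x * y * x⁻¹, h⟩ : P) : Ω) = q * (x * ((α y : P) : Ω) * x⁻¹) * q⁻¹)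
    {α : MulAut P} (hα : α ∈ D.autGroup P) (hco : (orderOf α).Coprime p) :
    ∃ ψ ∈ F.Hom (P ⊔ R), (∀ x : P, ψ (Subgroup.inclusion le_sup_left x) = ((α x : P) : Ω)) ∧
      ∀ x : ↥(P ⊔ R), (x : Ω) ∈ R → (x : Ω)⁻¹ * ψ x ∈ U := by
  have hF := hDn.1.2.1
  have hPS := hPc.1
  set X := ctr S P with hX
  have hXS : X ≤ S := ctr_le hPS
  have := finite_of_le hXS
  have := finite_of_le hPS
  have hXc : F.IsCentric X := ctr_centric hPc
  obtain ⟨a, ha, ha₁, ha₂⟩ := autGroup_le_twistSub hS hDn hc hα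
  have hah := autHom_mem F hXS ha
  obtain ⟨ψ, hψ, hψe, -⟩ := IsReceptive.extend
    (IsSaturated.receptive hS hF (isFullyCentralized_of_isCentric hXc)) hah (range_autHom a)
  have hPX : P ≤ X := le_ctr S P
  have hnX : ∀ x ∈ R, x ∈ Subgroup.normalizer (X : Set Ω) := fun x hx =>
    ctr_normalizer (hR.1 hx) (hRn x hx)
  have hPn : ∀ z ∈ X, z ∈ Subgroup.normalizer (P : Set Ω) := fun z hz =>
    (ctr_le_normalizerIn hPS hz).2
  -- the elements of `R` lie in the extender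
  have hmain : ∀ x ∈ R, ∃ h ∈ S, x⁻¹ * h ∈ X ∧ ∀ (z : X) (hz : x * (z : Ω) * x⁻¹ ∈ X),
      ((a ⟨x * z * x⁻¹, hz⟩ : X) : Ω) = h * ((a z : X) : Ω) * h⁻¹ := by
    intro x hx
    obtain ⟨q, hq, hqe⟩ := hcomm α hα x hx
    set cx : MulAut X := conjAut (hnX x hx) with hcx
    have hqX : q ∈ Subgroup.normalizer (X : Set Ω) := Subgroup.le_normalizer (hPX hq)
    set cq : MulAut X := conjAut hqX with hcq
    have hcxv : ∀ z : X, ((cx z : X) : Ω) = x * (z : Ω) * x⁻¹ := fun z => rfl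
    have hcqv : ∀ z : X, ((cq z : X) : Ω) = q * (z : Ω) * q⁻¹ := fun z => rfl
    set κ : MulAut X := a * cx * a⁻¹ * cx⁻¹ * cq⁻¹ with hκ
    have hκv : ∀ w : X, κ (cq (cx (a w))) = a (cx w) := fun w => by
      simp only [hκ, MulAut.mul_apply, MulAut.inv_apply, MulEquiv.symm_apply_apply]
    have hκF : κ ∈ F.autGroup X :=
      mul_mem (mul_mem (mul_mem (mul_mem ha (conjAut_mem_autGroup F hXS (hR.1 hx) _)) (inv_mem ha))
        (inv_mem (conjAut_mem_autGroup F hXS (hR.1 hx) _)))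
        (inv_mem (conjAut_mem_autGroup F hXS (hPS hq) _))
    have hfix : ∀ z : X, (z : Ω) ∈ P → κ z = z := by
      intro z hz
      obtain ⟨w, rfl⟩ : ∃ w, cq (cx (a w)) = z :=
        ⟨a⁻¹ (cx⁻¹ (cq⁻¹ z)), by
          simp only [MulAut.inv_apply, MulEquiv.apply_symm_apply]⟩
      have hw : (w : Ω) ∈ P := by
        rw [hcqv, hcxv] at hz
        have h1 := conj_mem_of_mem_normalizer
          (inv_mem (Subgroup.le_normalizer hq : q ∈ Subgroup.normalizer (P : Set Ω))) hz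
        rw [show q⁻¹ * (q * (x * ((a w : X) : Ω) * x⁻¹) * q⁻¹) * q⁻¹⁻¹ =
          x * ((a w : X) : Ω) * x⁻¹ by group] at h1
        have h2 := conj_mem_of_mem_normalizer (inv_mem (hRn x hx)) h1
        rw [show x⁻¹ * (x * ((a w : X) : Ω) * x⁻¹) * x⁻¹⁻¹ = ((a w : X) : Ω) by group] at h2
        have h3 := P.mul_mem h2 (P.inv_mem (ha₂ w))
        rwa [show ((a w : X) : Ω) * ((w : Ω)⁻¹ * ((a w : X) : Ω))⁻¹ = (w : Ω) by group] at h3
      rw [hκv]
      refine Subtype.ext ?_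
      have hw' : x * (w : Ω) * x⁻¹ ∈ P := conj_mem_of_mem_normalizer (hRn x hx) hw
      have h1 : ((a (cx w) : X) : Ω) = ((α ⟨_, hw'⟩ : P) : Ω) := ha₁ ⟨_, hw'⟩
      have h2 : ((a w : X) : Ω) = ((α ⟨_, hw⟩ : P) : Ω) := ha₁ ⟨_, hw⟩
      rw [hcqv, hcxv, h1, h2]
      exact hqe ⟨_, hw⟩ hw'
    have hmod : ∀ z : X, (z : Ω)⁻¹ * ((κ z : X) : Ω) ∈ P := by
      intro z
      obtain ⟨w, rfl⟩ : ∃ w, cq (cx (a w)) = z :=
        ⟨a⁻¹ (cx⁻¹ (cq⁻¹ z)), by
          simp only [MulAut.inv_apply, MulEquiv.apply_symm_apply]⟩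
      rw [hκv]
      have h1 := ha₂ (cx w)
      have h2 : ((cx (a w) : X) : Ω)⁻¹ * ((cx w : X) : Ω) ∈ P := by
        rw [hcxv, hcxv, show (x * ((a w : X) : Ω) * x⁻¹)⁻¹ * (x * (w : Ω) * x⁻¹) =
          x * ((w : Ω)⁻¹ * ((a w : X) : Ω))⁻¹ * x⁻¹ by group]
        exact conj_mem_of_mem_normalizer (hRn x hx) (P.inv_mem (ha₂ w))
      have h3 : ((cq (cx (a w)) : X) : Ω)⁻¹ * ((cx (a w) : X) : Ω) ∈ P := by
        rw [hcqv]
        generalize hu : cx (a w) = u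
        rw [show (q * (u : Ω) * q⁻¹)⁻¹ * (u : Ω) = q * ((u : Ω)⁻¹ * q⁻¹ * (u : Ω)⁻¹⁻¹) by group]
        exact P.mul_mem hq
          (conj_mem_of_mem_normalizer (inv_mem (hPn u u.2)) (P.inv_mem hq))
      have h4 := P.mul_mem (P.mul_mem h3 h2) h1
      rwa [show ((cq (cx (a w)) : X) : Ω)⁻¹ * ((cx (a w) : X) : Ω) *
        (((cx (a w) : X) : Ω)⁻¹ * ((cx w : X) : Ω)) *
        (((cx w : X) : Ω)⁻¹ * ((a (cx w) : X) : Ω)) =
        ((cq (cx (a w)) : X) : Ω)⁻¹ * ((a (cx w) : X) : Ω) by group] at h4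
    obtain ⟨f, hf, hfe⟩ := stab_ctr_eq_conj hS hF hPc hκF hfix hmod
    refine ⟨f * q * x, S.mul_mem (S.mul_mem hf.1 (hPS hq)) (hR.1 hx), ?_, fun z hz => ?_⟩
    · have hfq : f * q ∈ X := X.mul_mem (Subgroup.mem_sup_right hf) (hPX hq)
      have h1 := conj_mem_of_mem_normalizer (inv_mem (hnX x hx)) hfq
      rwa [show x⁻¹ * (f * q) * x⁻¹⁻¹ = x⁻¹ * (f * q * x) by group] at h1
    · rw [show (⟨x * (z : Ω) * x⁻¹, hz⟩ : X) = cx z from rfl, ← hκv, hfe, hcqv, hcxv]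
      group
  have hRe : R ≤ extender S X (autHom a) := fun x hx => by
    obtain ⟨h, hh, -, he⟩ := hmain x hx
    exact mem_extender.2 ⟨hR.1 hx, hnX x hx, h, hh, fun z hz => he z hz⟩
  have hXe : X ≤ extender S X (autHom a) := le_extender hXS (apply_mem hah)
  set Y := X ⊔ R with hY
  have hYe : Y ≤ extender S X (autHom a) := sup_le hXe hRe
  have hYS : Y ≤ S := sup_le hXS hR.1
  have := finite_of_le hYS
  let ψ₁ := restr hYe ψ
  have hψ₁ : ψ₁ ∈ F.Hom Y := restr_mem F hψ hYe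
  have hψX : ∀ (z : Ω) (hz : z ∈ X) (hz' : z ∈ Y), ψ₁ ⟨z, hz'⟩ = ((a ⟨z, hz⟩ : X) : Ω) :=
    fun z hz hz' => hψe z hz (hYe hz')
  have hψR : ∀ y : Y, (y : Ω) ∈ R → (y : Ω)⁻¹ * ψ₁ y ∈ X := by
    intro y hy
    obtain ⟨h, hh, hhX, he⟩ := hmain y hy
    have hcen : h⁻¹ * ψ₁ y ∈ centralizerIn S X := by
      refine mem_centralizerIn_iff_conj.2 ⟨S.mul_mem (S.inv_mem hh) (apply_mem hψ₁ y),
        fun z hz => ?_⟩
      obtain ⟨w, hw⟩ := a.surjective ⟨z, hz⟩
      have hyw : (y : Ω) * (w : Ω) * (y : Ω)⁻¹ ∈ X :=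
        conj_mem_of_mem_normalizer (hnX y hy) w.2
      have h1 := map_conj (φ := autHom a) (ψ := ψ₁) (fun u hu hu' => hψX u hu hu')
        le_sup_left y.2 w.2 hyw
      rw [autHom_apply, autHom_apply, he w hyw, hw] at h1
      change h * z * h⁻¹ = ψ₁ y * z * (ψ₁ y)⁻¹ at h1
      generalize ψ₁ y = v at h1 ⊢
      calc h⁻¹ * v * z * (h⁻¹ * v)⁻¹ = h⁻¹ * (v * z * v⁻¹) * h := by group
        _ = h⁻¹ * (h * z * h⁻¹) * h := by rw [h1]
        _ = z := by group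
    have h2 := X.mul_mem hhX (hXc.2 X (isConj_refl F hXS) hcen)
    rwa [show (y : Ω)⁻¹ * h * (h⁻¹ * ψ₁ y) = (y : Ω)⁻¹ * ψ₁ y by group] at h2
  have hr : ψ₁.range = Y := by
    refine Subgroup.eq_of_le_of_card_ge ?_ (card_range_eq (F.injective_of_mem hψ₁)).ge
    rw [← img_self, img_sup ψ₁ le_sup_left le_sup_right, img_normal_eq hR hψ₁ le_sup_right]
    refine sup_le_sup_right ?_ _
    rintro _ ⟨⟨z, hz'⟩, hz, rfl⟩
    exact (hψX z hz hz').symm ▸ SetLike.coe_mem _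
  set A : MulAut Y := isoOf ψ₁ (F.injective_of_mem hψ₁) hr with hA
  have hAv : ∀ y : Y, ((A y : Y) : Ω) = ψ₁ y := fun y => rfl
  have hAF : A ∈ F.autGroup Y := mem_autGroup_of_hom F hψ₁
  obtain ⟨m, hm⟩ : ∃ m, Nat.card S = p ^ m := IsPGroup.iff_card.1 hS
  have := finite_mulAut (P := Y) hYS
  obtain ⟨j, hjα, -, hjm⟩ := exists_pow_coprime (p := p) α hco A (orderOf_pos A) m
  have hAX : ∀ z : Y, (z : Ω) ∈ X → (z : Ω)⁻¹ * ((A z : Y) : Ω) ∈ P ∧ ((A z : Y) : Ω) ∈ X := by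
    intro z hz
    rw [hAv, show z = ⟨(z : Ω), z.2⟩ from rfl, hψX z hz z.2]
    exact ⟨ha₂ ⟨z, hz⟩, SetLike.coe_mem _⟩
  have key₁ : ∀ i (z : Y), (z : Ω) ∈ X → (z : Ω)⁻¹ * (((A ^ i) z : Y) : Ω) ∈ P := by
    intro i
    induction i with
    | zero => intro z _; simp
    | succ i ih =>
      intro z hz
      obtain ⟨h1, h2⟩ := hAX z hz
      have h := P.mul_mem h1 (ih (A z) h2)
      rw [pow_succ, MulAut.mul_apply]
      rwa [show (z : Ω)⁻¹ * ((A z : Y) : Ω) * (((A z : Y) : Ω)⁻¹ * (((A ^ i) (A z) : Y) : Ω)) =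
        (z : Ω)⁻¹ * (((A ^ i) (A z) : Y) : Ω) by group] at h
  have key₂ : ∀ i (x : Y), (x : Ω) ∈ R → ∀ d : Y, d = x⁻¹ * A x →
      ((x * d ^ i : Y) : Ω)⁻¹ * (((A ^ i) x : Y) : Ω) ∈ P := by
    intro i
    induction i with
    | zero => intro x _ d _; simp
    | succ i ih =>
      intro x hx d hd
      have hdX : (d : Ω) ∈ X := by
        rw [hd]
        exact hψR x hx
      have e : A x = x * d := by rw [hd, mul_inv_cancel_left]
      rw [pow_succ (M := MulAut Y), MulAut.mul_apply, e, map_mul, pow_succ]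
      have h1 := ih x hx d hd
      simp only [Subgroup.coe_mul, ← mul_assoc] at h1 ⊢
      have h2 := key₁ i d hdX
      generalize (x : Ω) * ((d ^ i : Y) : Ω) = u at h1 ⊢
      generalize (((A ^ i) x : Y) : Ω) = v at h1 ⊢
      generalize (((A ^ i) d : Y) : Ω) = w at h2 ⊢
      have h3 := P.mul_mem (conj_mem_of_mem_normalizer (inv_mem (hPn _ hdX)) h1) h2
      rwa [show (d : Ω)⁻¹ * (u⁻¹ * v) * (d : Ω)⁻¹⁻¹ * ((d : Ω)⁻¹ * w) =
        (u * (d : Ω))⁻¹ * v * w by group] at h3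
  have hpow : ∀ i (y : P), (((A ^ i) ⟨y, Subgroup.mem_sup_left (hPX y.2)⟩ : Y) : Ω) =
      (((α ^ i) y : P) : Ω) := by
    intro i
    induction i with
    | zero => intro y; rfl
    | succ i ih =>
      intro y
      rw [pow_succ, pow_succ, MulAut.mul_apply, MulAut.mul_apply, ← ih (α y)]
      refine congrArg (fun z => (((A ^ i) z : Y) : Ω)) (Subtype.ext ?_)
      rw [hAv, hψX _ (hPX y.2), ha₁ y]
  have hPY : P ⊔ R ≤ Y := sup_le_sup_right hPX R
  refine ⟨restr hPY (autHom (A ^ j)), restr_mem F (autHom_mem F hYS (pow_mem hAF j)) hPY,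
    fun y => ?_, fun x hx => ?_⟩
  · have h := hpow j y
    rwa [hjα] at h
  · have h := key₂ j ⟨x, Subgroup.mem_sup_right hx⟩ hx _ rfl
    obtain ⟨t, rfl⟩ := hjm
    set d : Y := (⟨x, Subgroup.mem_sup_right hx⟩ : Y)⁻¹ * A ⟨x, Subgroup.mem_sup_right hx⟩
    have hd1 : d ^ (p ^ m * t) = 1 := by
      refine Subtype.ext ?_
      have hd' : (⟨(d : Ω), hYS d.2⟩ : S) ^ p ^ m = 1 := hm ▸ pow_card_eq_one'
      have := congrArg (fun z : S => (z : Ω) ^ t) hd'
      simp only [SubmonoidClass.coe_pow, OneMemClass.coe_one, one_pow, ← pow_mul] at this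
      rw [SubmonoidClass.coe_pow]
      exact this
    rw [hd1, mul_one] at h
    exact hc.1 h

/-- The maps of a normal subsystem extend to a normal subgroup trivially modulo the base. -/
theorem le_modSystem (hS : IsPGroup p S) (hR : F.IsNormal R) (hDn : D.IsNormalIn F p) :
    D ≤ modSystem hR hDn.1.2.2 := by
  have W : WNData p F D := ⟨hS, hDn.1.2.1, hDn.1.1, hDn.1.2.2⟩
  have := W.finite
  have hUS := W.le
  have hUp := W.pgroupT
  have hR0 := normal_inf hS hR hDn.1.2.2 hDn.1.1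
  refine alperin hUp hDn.1.1 _ fun P hP α hα => ?_
  have hPc : D.IsCentric P := by
    rcases hP with rfl | hess
    · exact isCentric_self D
    · exact hess.1
  have hPr : (pCore p (D.autGroup P)).map (D.autGroup P).subtype ≤ Inn P := by
    rcases hP with rfl | hess
    · obtain ⟨⟨-, Rs, hRs⟩, -⟩ :=
        IsSaturated.automized_receptive hUp hDn.1.1 (isFullyNormalized_top D)
      rintro _ ⟨γ, hγ, rfl⟩
      rw [inn_eq_autInducedBy]
      exact Subgroup.mem_subgroupOf.1 (hRs ▸ Cfsg.Agent.Lib.Fusion.pCore_le_sylow Rs hγ)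
    · exact (IsEssential.radical hUp hDn.1.1 hess).2.le
  have hR0P : R ⊓ U ≤ P := (IsNormal.le_and_invariant hUp hDn.1.1 hR0 hP).1
  have hPU := hPc.1
  have hPS := hPU.trans hUS
  have := finite_of_le hPS
  have hRnP : ∀ x ∈ R, x ∈ Subgroup.normalizer (P : Set Ω) := fun x hx =>
    mem_normalizer_of_finite fun y hy => by
      have hRsc := IsNormal.stronglyClosed hR
      have h1 : x * y * x⁻¹ * y⁻¹ ∈ R ⊓ U := by
        refine ⟨?_, U.mul_mem (W.conj_mem (hR.1 hx) (hPU hy)) (U.inv_mem (hPU hy))⟩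
        rw [show x * y * x⁻¹ * y⁻¹ = x * (y * x⁻¹ * y⁻¹) by group]
        exact R.mul_mem hx (StronglyClosed.conj_mem_self hRsc (hPS hy) (R.inv_mem hx))
      have h2 := P.mul_mem (hR0P h1) hy
      rwa [inv_mul_cancel_right] at h2
  -- move to a fully normalized conjugate
  obtain ⟨P', hPP', hP'⟩ := exists_fullyNormalized F hPS
  obtain ⟨β, hβ, hβN, himg⟩ := IsSaturated.exists_normalizer_map hS W.saturated hP' hPP'
  have hYN : P ⊔ R ≤ normalizerIn S P :=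
    sup_le (le_normalizerIn hPS) fun x hx => ⟨hR.1 hx, hRnP x hx⟩
  set β₁ := restr hYN β with hβ₁
  have hβ₁F : β₁ ∈ F.Hom (P ⊔ R) := restr_mem F hβ hYN
  have hP'c := isCentric_img W hPc hPP'
  have hβR : img β₁ R = R := img_normal_eq hR hβ₁F le_sup_right
  have hr₁ : β₁.range = P' ⊔ R := by
    rw [← img_self, img_sup β₁ le_sup_left le_sup_right, hβR, hβ₁,
      img_restr hYN β le_sup_left, himg]
  have hcF := restr_mem F hβ (le_normalizerIn hPS)
  have hcr : (restr (le_normalizerIn hPS) β).range = P' := (range_restr _ _).trans himg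
  set i := isoOf _ (F.injective_of_mem hcF) hcr with hi
  have hiv : ∀ y : P, ((i y : P') : Ω) = β₁ ⟨y, Subgroup.mem_sup_left y.2⟩ := fun y => rfl
  have hRn' : ∀ x ∈ R, x ∈ Subgroup.normalizer (P' : Set Ω) := by
    intro x hx
    obtain ⟨z, hzx, rfl⟩ := (hβR.ge hx : x ∈ img β₁ R)
    exact (hβN _).2
  have hcomm : ∀ α' ∈ D.autGroup P', ∀ x ∈ R, ∃ q ∈ P', ∀ (y : P') (h : x * (y : Ω) * x⁻¹ ∈ P'),
      ((α' ⟨x * y * x⁻¹, h⟩ : P') : Ω) = q * (x * ((α' y : P') : Ω) * x⁻¹) * q⁻¹ := by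
    intro α' hα' x hx
    obtain ⟨z, hzR', rfl⟩ := (hβR.ge hx : x ∈ img β₁ R)
    have hzR : (z : Ω) ∈ R := hzR'
    obtain ⟨c, hc, hcr', he⟩ := isoOf_symm_eq F hcF hcr
    have hσ := congr_mem_of_invariant W.inv hP'c.1 hc hcr' hα'
    rw [he] at hσ
    set σ := MulAut.congr i.symm α' with hσdef
    have hσv : ∀ y : P, i (σ y) = α' (i y) := fun y => i.apply_symm_apply _
    set cz : MulAut P := conjAut (hRnP z hzR) with hcz
    have hczF : cz ∈ F.autGroup P := conjAut_mem_autGroup F hPS (hR.1 hzR) _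
    set γ := σ * cz * σ⁻¹ * cz⁻¹ with hγ
    have hγD : γ ∈ D.autGroup P := by
      rw [hγ, show σ * cz * σ⁻¹ * cz⁻¹ = σ * (cz * σ⁻¹ * cz⁻¹) by group]
      exact mul_mem hσ (conj_mem_autGroup_of_invariant W.inv hUS hPU hczF (inv_mem hσ))
    have hγR : γ ∈ autInducedBy (P ⊔ R) P := by
      obtain ⟨ψ, hψ, hext, himg'⟩ := hR.2 P (autHom σ)
        (autHom_mem F hPS (Fusion.autGroup_le_of_isSubsystemOf W.inv.1 P hσ))
      refine mul_mem (mem_autInducedBy.2 ⟨ψ ⟨z, Subgroup.mem_sup_right hzR⟩,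
        Subgroup.mem_sup_right (himg'.le (apply_mem_img ψ _ hzR)), fun w => ?_⟩)
        (inv_mem (conjAut_mem_autInducedBy (Subgroup.mem_sup_right hzR) _))
      obtain ⟨y, rfl⟩ := σ.surjective w
      rw [MulAut.mul_apply, MulAut.mul_apply, MulAut.inv_apply, MulEquiv.symm_apply_apply]
      exact map_conj (φ := autHom σ) (ψ := ψ) (fun u hu _ => hext ⟨u, hu⟩) le_sup_left
        (Subgroup.mem_sup_right hzR) y.2 (cz y).2
    obtain ⟨q, hq⟩ := mem_inn_of_sup hS hR W.inv hPU hPr hγD hγR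
    refine ⟨i q, SetLike.coe_mem _, fun y h => ?_⟩
    obtain ⟨w, rfl⟩ := i.surjective y
    have h1 : σ (cz w) = q * cz (σ w) * q⁻¹ := by
      have e : γ (cz (σ w)) = σ (cz w) := by
        simp only [hγ, MulAut.mul_apply, MulAut.inv_apply, MulEquiv.symm_apply_apply]
      rw [← e, ← hq]
      rfl
    have hczv : ∀ v : P, ((i (cz v) : P') : Ω) =
        β₁ z * ((i v : P') : Ω) * (β₁ z)⁻¹ := by
      intro v
      rw [hiv, hiv, ← map_inv, ← map_mul, ← map_mul]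
      exact congrArg β₁ (Subtype.ext rfl)
    rw [show (⟨β₁ z * ((i w : P') : Ω) * (β₁ z)⁻¹, h⟩ : P') = i (cz w) from
      Subtype.ext (hczv w).symm, ← hσv, ← hσv, h1, map_mul, map_mul, map_inv, Subgroup.coe_mul,
      Subgroup.coe_mul, Subgroup.coe_inv, hczv]
  have hP'n : D.IsFullyNormalized P' :=
    isFullyNormalized_subsystem hS W.saturated W.inv.2.1 D W.inv.1 hP'c.1 hP'
  have hP'le : D.autGroup P' ≤ (modSystem hR W.inv).autGroup P' :=
    autGroup_le_of_generators hUp hDn.1.1 hP'n _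
      (autInducedBy_le_autGroup (modSystem hR W.inv) hP'c.1) fun α' hα' hco => by
        obtain ⟨ψ, hψ, hext, hmod⟩ := exists_ext_mod hS hR hDn hP'c
          (IsSaturated.fullyCentralized hS W.saturated hP') hRn' hcomm hα' hco
        exact mem_autGroup_of_hom _ ⟨autHom_mem D hP'c.1 hα', ψ, hψ, hext, hmod⟩
  obtain ⟨-, ψ', hψ', hext', hmod'⟩ := autHom_mem _ hP'c.1
    (hP'le (congr_mem_of_invariant W.inv hPU hcF hcr hα))
  obtain ⟨d, hd, -, hdl, hdl'⟩ := exists_inv F hβ₁F hr₁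
  have hm₁ : ∀ x, β₁ x ∈ P' ⊔ R := fun x => hr₁.le ⟨x, rfl⟩
  have hm₂ : ∀ x, compose β₁ ψ' hm₁ x ∈ P' ⊔ R := by
    have h1 : ψ'.range ≤ P' ⊔ R := by
      rw [← img_self, img_sup ψ' le_sup_left le_sup_right, img_normal_eq hR hψ' le_sup_right]
      refine sup_le_sup_right ?_ _
      rintro _ ⟨x, hx, rfl⟩
      exact (hext' ⟨x, hx⟩).symm ▸ SetLike.coe_mem _
    exact fun x => h1 ⟨_, rfl⟩
  refine mem_autGroup_of_hom _ ⟨autHom_mem D hPU hα, compose (compose β₁ ψ' hm₁) d hm₂,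
    compose_mem F (compose_mem F hβ₁F hψ' hm₁) hd hm₂, fun x => ?_, fun x hx => ?_⟩
  · rw [compose_apply]
    have e : compose β₁ ψ' hm₁ (Subgroup.inclusion le_sup_left x) =
        β₁ (Subgroup.inclusion le_sup_left (α x)) := by
      rw [compose_apply]
      refine ((congrArg ψ' (Subtype.ext rfl : (⟨_, hm₁ (Subgroup.inclusion le_sup_left x)⟩ :
        ↥(P' ⊔ R)) = Subgroup.inclusion le_sup_left (i x))).trans (hext' (i x))).trans ?_
      show ((i (α (i.symm (i x))) : P') : Ω) = _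
      rw [MulEquiv.symm_apply_apply]
      rfl
    exact (congrArg d (Subtype.ext e)).trans (hdl (Subgroup.inclusion le_sup_left (α x)) (hm₁ _))
  · set y : ↥(P' ⊔ R) := ⟨compose β₁ ψ' hm₁ x, hm₂ x⟩ with hy
    have hyR : (y : Ω) ∈ R := StronglyClosed.map_mem (IsNormal.stronglyClosed hR) hψ' _
      (StronglyClosed.map_mem (IsNormal.stronglyClosed hR) hβ₁F x hx)
    have hdR : d y ∈ P ⊔ R := Subgroup.mem_sup_right
      (StronglyClosed.map_mem (IsNormal.stronglyClosed hR) hd y hyR)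
    rw [compose_apply]
    refine (StronglyClosed.map_mem_iff W.inv.2.1 hβ₁F (x⁻¹ * ⟨d y, hdR⟩)).1 ?_
    rw [map_mul, map_inv, hdl' y]
    exact hmod' ⟨β₁ x, hm₁ x⟩ (StronglyClosed.map_mem (IsNormal.stronglyClosed hR) hβ₁F x hx)

/-- The centralizer system of a normal subgroup is normal. -/
theorem isNormalIn_centralizer (hS : IsPGroup p S) (hF : F.IsSaturated p) (hR : F.IsNormal R) :
    (centralizerSystem F R hR.1).IsNormalIn F p := by
  have hRsc := IsNormal.stronglyClosed hR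
  have hRfn : F.IsFullyNormalized R :=
    isFullyNormalized_of_le_normalizer' F hR.1 (le_normalizer_of_stronglyClosed hRsc)
  have hRfc := IsSaturated.fullyCentralized hS hF hRfn
  set C := centralizerIn S R with hC
  have hCS : C ≤ S := centralizerIn_le S R
  set X := ctr S R with hXdef
  have hXS : X ≤ S := ctr_le hR.1
  have := finite_of_le hCS
  have := finite_of_le hXS
  have := finite_of_le hR.1
  have hRX : R ≤ X := le_ctr S R
  have hCX : C ≤ X := le_sup_right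
  have hCc : F.StronglyClosed C := by
    refine ⟨hCS, fun Q hQ φ hφ x => ?_⟩
    obtain ⟨ψ, hψ, hext, himg⟩ := hR.2 Q φ hφ
    refine mem_centralizerIn_iff_conj.2 ⟨apply_mem hφ x, fun r hr => ?_⟩
    obtain ⟨w, hw, hwr⟩ := himg.ge hr
    have e : Subgroup.inclusion le_sup_left x * w * (Subgroup.inclusion le_sup_left x)⁻¹ = w :=
      Subtype.ext ((mem_centralizerIn_iff_conj.1 (hQ x.2)).2 w hw)
    have h := congrArg ψ e
    rwa [map_mul, map_mul, map_inv, hext, hwr] at h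
  have hXc : F.IsCentric X := ctr_centric hRfc
  refine ⟨⟨centralizerSystem_isSaturated hS hF hRfc (centralizerSystem_spec F R hR.1), hF,
    fun P φ h => h.1, hCc, fun P hP φ hφ α hα => ?_, fun P hP φ hφ => ?_⟩, fun α hα => ?_⟩
  · obtain ⟨hφF, -, hφC, ψ, hψ, hψe, hψR⟩ := hφ
    obtain ⟨A, hA, hAe, hAimg⟩ := hR.2 C (autHom α) (autHom_mem F hCS hα)
    set P' := (P.subgroupOf C).map (C.subtype.comp α.toMonoidHom) with hP'
    have hP'C : P' ≤ C := by
      rintro _ ⟨x, -, rfl⟩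
      exact SetLike.coe_mem _
    have hPA : P ⊔ R ≤ C ⊔ R := sup_le_sup_right hP R
    set A₀ := restr hPA A with hA₀
    have hA₀F : A₀ ∈ F.Hom (P ⊔ R) := restr_mem F hA hPA
    have hA₀P : img A₀ P = P' := by
      ext y
      constructor
      · rintro ⟨⟨x, hx'⟩, hx, rfl⟩
        exact ⟨⟨x, hP hx⟩, hx, (hAe ⟨x, hP hx⟩).symm⟩
      · rintro ⟨x, hx, rfl⟩
        exact ⟨⟨(x : Ω), Subgroup.mem_sup_left hx⟩, hx, hAe x⟩
    have hA₀r : A₀.range = P' ⊔ R := by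
      rw [← img_self, img_sup A₀ le_sup_left le_sup_right, hA₀P,
        img_normal_eq hR hA₀F le_sup_right]
    obtain ⟨d, hd, hdr, hdl, hdl'⟩ := exists_inv F hA₀F hA₀r
    have hψv : ∀ x, ψ x ∈ C ⊔ R := by
      have h1 : ψ.range ≤ C ⊔ R := by
        rw [← img_self, img_sup ψ le_sup_left le_sup_right]
        refine sup_le_sup ?_ ?_
        · rintro _ ⟨x, hx, rfl⟩
          exact (hψe ⟨x, hx⟩).symm ▸ hφC _
        · rintro _ ⟨x, hx, rfl⟩
          exact (hψR ⟨x, hx⟩).symm ▸ hx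
      exact fun x => h1 ⟨x, rfl⟩
    have hdP : ∀ y, d y ∈ P ⊔ R := fun y => hdr.le ⟨y, rfl⟩
    let e := compose (compose d ψ hdP) A (fun y => hψv _)
    have he : e ∈ F.Hom (P' ⊔ R) := compose_mem F (compose_mem F hd hψ hdP) hA _
    let χ := restr (le_sup_left : P' ≤ P' ⊔ R) e
    have hdR : ∀ r : R, d (Subgroup.inclusion le_sup_right r) ∈ R := fun r =>
      StronglyClosed.map_mem hRsc hd _ r.2
    refine ⟨χ, ⟨restr_mem F he _, hP'C, fun y => ?_, e, he, fun _ => rfl, fun r => ?_⟩,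
      fun x hφx hαx => ?_⟩
    · exact StronglyClosed.map_mem hCc he _ (hP'C y.2)
    · show A ⟨ψ ⟨d (Subgroup.inclusion le_sup_right r), _⟩, _⟩ = (r : Ω)
      have h1 : ψ ⟨d (Subgroup.inclusion le_sup_right r), hdP _⟩ =
          d (Subgroup.inclusion le_sup_right r) := hψR ⟨_, hdR r⟩
      refine Eq.trans (congrArg A (Subtype.ext (a2 := (⟨d (Subgroup.inclusion le_sup_right r),
        Subgroup.mem_sup_right (hdR r)⟩ : ↥(C ⊔ R))) h1)) ?_
      exact hdl' (Subgroup.inclusion le_sup_right r) (hdP _)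
    · show A ⟨ψ ⟨d ⟨((α ⟨x, hP x.2⟩ : C) : Ω), _⟩, _⟩, _⟩ = ((α ⟨φ x, hφx⟩ : C) : Ω)
      have h1 : A₀ (Subgroup.inclusion le_sup_left x) = ((α ⟨x, hP x.2⟩ : C) : Ω) :=
        hAe ⟨x, hP x.2⟩
      have h2 : d ⟨((α ⟨x, hP x.2⟩ : C) : Ω), Subgroup.mem_sup_left hαx⟩ = (x : Ω) := by
        have := hdl (Subgroup.inclusion le_sup_left x) (h1.symm ▸ Subgroup.mem_sup_left hαx)
        simp only [h1] at this
        exact this
      refine Eq.trans (congrArg A (Subtype.ext (a2 := Subgroup.inclusion le_sup_left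
        (⟨φ x, hφx⟩ : C)) ?_)) (hAe _)
      exact (congrArg ψ (Subtype.ext h2)).trans (hψe x)
  · obtain ⟨ψ, hψ, hψe, hψimg⟩ := hR.2 P φ hφ
    have hψR := restr_mem F hψ (le_sup_right : R ≤ P ⊔ R)
    have hrR : (restr (le_sup_right : R ≤ P ⊔ R) ψ).range = R := (range_restr _ _).trans hψimg
    obtain ⟨χ, hχ, hχe⟩ :=
      exists_extension hS hF hRfn (mem_autGroup_of_hom F (α := isoOf _ (F.injective_of_mem hψR) hrR) hψR)
    have hχC := restr_mem F (autHom_mem F hXS hχ) hCX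
    have hrC : (restr hCX (autHom χ)).range = C :=
      (range_restr _ _).trans (img_eq_of_stronglyClosed hCc (autHom_mem F hXS hχ) hCX)
    set a := isoOf _ (F.injective_of_mem hχC) hrC with ha
    have hφC : ∀ x, φ x ∈ C := fun x => hCc.2 P hP φ hφ x
    have hψX : ∀ x, ψ x ∈ X := by
      have h1 : ψ.range ≤ X := by
        rw [← img_self, img_sup ψ le_sup_left le_sup_right]
        refine sup_le ?_ (hψimg.le.trans hRX)
        rintro _ ⟨x, hx, rfl⟩
        exact (hψe ⟨x, hx⟩).symm ▸ hCX (hφC _)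
      exact fun x => h1 ⟨x, rfl⟩
    let e := compose ψ (autHom χ⁻¹) hψX
    have he : e ∈ F.Hom (P ⊔ R) := compose_mem F hψ (autHom_mem F hXS (inv_mem hχ)) hψX
    have heP : ∀ x : P, e (Subgroup.inclusion le_sup_left x) ∈ C := fun x =>
      StronglyClosed.map_mem hCc he _ (hP x.2)
    refine ⟨a, mem_autGroup_of_hom F hχC, restr le_sup_left e,
      ⟨restr_mem F he _, hP, heP, e, he, fun _ => rfl, fun r => ?_⟩, fun x hx => ?_⟩
    · show ((χ⁻¹ ⟨ψ (Subgroup.inclusion le_sup_right r), _⟩ : X) : Ω) = r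
      have h1 : (⟨ψ (Subgroup.inclusion le_sup_right r), hψX _⟩ : X) = χ ⟨r, hRX r.2⟩ :=
        Subtype.ext (hχe r).symm
      rw [h1, MulAut.inv_apply, MulEquiv.symm_apply_apply]
    · show φ x = ((χ (χ⁻¹ ⟨ψ (Subgroup.inclusion le_sup_left x), _⟩) : X) : Ω)
      rw [MulAut.inv_apply, MulEquiv.apply_symm_apply]
      exact (hψe x).symm
  · obtain ⟨hαF, -, -, ψ, hψ, hψe, hψR⟩ := autHom_mem (centralizerSystem F R hR.1) le_rfl hα
    have hXle : X ≤ C ⊔ R := sup_le le_sup_right le_sup_left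
    set A := restr hXle ψ with hAdef
    have hAF : A ∈ F.Hom X := restr_mem F hψ hXle
    have hAR : ∀ (r : Ω) (hr : r ∈ R) (h : r ∈ X), A ⟨r, h⟩ = r := fun r hr h => hψR ⟨r, hr⟩
    have hAC : ∀ (c : Ω) (hc : c ∈ C) (h : c ∈ X), A ⟨c, h⟩ = ((α ⟨c, hc⟩ : C) : Ω) :=
      fun c hc h => hψe ⟨c, hc⟩
    have hAr : A.range = X := by
      refine Subgroup.eq_of_le_of_card_ge ?_ (card_range_eq (F.injective_of_mem hAF)).ge
      rw [← img_self]
      show img A (R ⊔ C) ≤ R ⊔ C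
      rw [img_sup A hRX hCX]
      refine sup_le_sup ?_ ?_
      · rintro _ ⟨⟨r, h⟩, hr, rfl⟩
        exact (hAR r hr h).symm ▸ hr
      · rintro _ ⟨⟨c, h⟩, hc, rfl⟩
        exact (hAC c hc h).symm ▸ SetLike.coe_mem _
    have hCn := le_normalizer_of_stronglyClosed hCc
    have hRn := le_normalizer_of_stronglyClosed hRsc
    have hXn : S ≤ Subgroup.normalizer (X : Set Ω) := le_normalizer_sup hRn hCn hR.1 hCS
    have hAconj : ∀ g ∈ centralizerIn S C, ∀ (w : X) (hw : g * (w : Ω) * g⁻¹ ∈ X),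
        A ⟨g * (w : Ω) * g⁻¹, hw⟩ = g * A w * g⁻¹ := by
      intro g hg w hw
      suffices h : A.comp ((conjAut (hXn hg.1)).toMonoidHom) =
          (MulAut.conj g).toMonoidHom.comp A from DFunLike.congr_fun h w
      refine hom_ext_sup (fun x hx hxR => ?_) fun x hx hxC => ?_
      · show A ⟨g * x * g⁻¹, _⟩ = g * A ⟨x, hx⟩ * g⁻¹
        exact (hAR _ (conj_mem_of_mem_normalizer (hRn hg.1) hxR) _).trans
          (congrArg (fun v => g * v * g⁻¹) (hAR x hxR hx).symm)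
      · show A ⟨g * x * g⁻¹, _⟩ = g * A ⟨x, hx⟩ * g⁻¹
        have e2 : A ⟨x, hx⟩ ∈ C := (hAC x hxC hx).symm ▸ SetLike.coe_mem _
        refine Eq.trans ?_ ((mem_centralizerIn_iff_conj.1 hg).2 _ e2).symm
        exact congrArg A (Subtype.ext ((mem_centralizerIn_iff_conj.1 hg).2 x hxC))
    have hYe : C ⊔ centralizerIn S C ≤ extender S X A := by
      refine sup_le (hCX.trans (le_extender hXS (apply_mem hAF))) fun g hg => ?_
      refine mem_extender.2 ⟨hg.1, hXn hg.1, g, hg.1, fun w hw => ?_⟩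
      exact hAconj g hg w hw
    obtain ⟨χ, hχ, hχe, -⟩ := IsReceptive.extend
      (IsSaturated.receptive hS hF (isFullyCentralized_of_isCentric hXc)) hAF hAr
    set Y := C ⊔ centralizerIn S C with hY
    have hYS : Y ≤ S := sup_le hCS (centralizerIn_le S C)
    have := finite_of_le hYS
    let b₀ := restr hYe χ
    have hb₀ : b₀ ∈ F.Hom Y := restr_mem F hχ hYe
    have hbC : ∀ (c : Ω) (hc : c ∈ C) (h : c ∈ Y), b₀ ⟨c, h⟩ = ((α ⟨c, hc⟩ : C) : Ω) :=
      fun c hc h => (hχe c (hCX hc) (hYe h)).trans (hAC c hc _)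
    have hkey : ∀ g : Y, (g : Ω) ∈ centralizerIn S C →
        (g : Ω)⁻¹ * b₀ g ∈ C ⊓ Subgroup.centralizer (C : Set Ω) := by
      intro g hg
      have hz : (g : Ω)⁻¹ * b₀ g ∈ centralizerIn S X := by
        refine mem_centralizerIn_iff_conj.2 ⟨S.mul_mem (S.inv_mem hg.1) (apply_mem hb₀ g),
          fun x hx => ?_⟩
        obtain ⟨w, hw⟩ := hAr.ge hx
        have hgw : (g : Ω) * (w : Ω) * (g : Ω)⁻¹ ∈ X :=
          conj_mem_of_mem_normalizer (hXn hg.1) w.2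
        have h1 := map_conj (φ := A) (ψ := χ) (fun u hu hu' => hχe u hu hu')
          (le_extender hXS (apply_mem hAF)) (hYe g.2) w.2 hgw
        suffices h2 : A ⟨(g : Ω) * (w : Ω) * (g : Ω)⁻¹, hgw⟩ = (g : Ω) * A w * (g : Ω)⁻¹ by
          rw [h2, hw] at h1
          have hv : χ ⟨(g : Ω), hYe g.2⟩ = b₀ g := rfl
          rw [hv] at h1
          generalize b₀ g = v at h1 ⊢
          calc (g : Ω)⁻¹ * v * x * ((g : Ω)⁻¹ * v)⁻¹ = (g : Ω)⁻¹ * (v * x * v⁻¹) * g := by group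
            _ = (g : Ω)⁻¹ * ((g : Ω) * x * (g : Ω)⁻¹) * g := by rw [← h1]
            _ = x := by group
        exact hAconj _ hg w hgw
      exact ⟨⟨hz.1, Subgroup.centralizer_le hRX hz.2⟩, Subgroup.centralizer_le hCX hz.2⟩
    have hbr : b₀.range = Y := by
      refine Subgroup.eq_of_le_of_card_ge ?_ (card_range_eq (F.injective_of_mem hb₀)).ge
      rw [← img_self, img_sup b₀ le_sup_left le_sup_right]
      refine sup_le ?_ ?_
      · rintro _ ⟨⟨x, h⟩, hx, rfl⟩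
        exact Subgroup.mem_sup_left ((hbC x hx h).symm ▸ SetLike.coe_mem _)
      · rintro _ ⟨x, hx, rfl⟩
        rw [← mul_inv_cancel_left (x : Ω) (b₀ x)]
        exact Subgroup.mul_mem _ x.2 (Subgroup.mem_sup_left (hkey x hx).1)
    exact ⟨isoOf b₀ (F.injective_of_mem hb₀) hbr, mem_autGroup_of_hom F hb₀,
      fun c => hbC c c.2 _, fun g hg => hkey g hg⟩

end Cfsg.Agent.Lib.Fusion.PrimeIndex
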