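import Cfsg.Agent.Lib.Fusion.PrimeIndex.ResidualLimit
import Cfsg.Agent.S5199
import Cfsg.Agent.Lib.Fusion.PrimeIndex.Character

/-!
The envelope of a normal subsystem with `p`-solvable automizer quotient.
-/

set_option autoImplicit false
set_option linter.unusedSectionVars false

namespace Cfsg.Agent.Lib.Fusion.PrimeIndex

open Cfsg Cfsg.FusionSystem

universe u

variable {Ω : Type u} [Group Ω] {S T U : Subgroup Ω} {p : ℕ} [Fact p.Prime] [Finite S]
  {F : FusionSystem S} {E : FusionSystem T} {G : FusionSystem U}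

/-- A power fixing an element of order prime to `p` and killing the `p`-part of another. -/
theorem exists_pow_coprime {A B : Type*} [Group A] [Monoid B] (a : A)
    (ha : (orderOf a).Coprime p) (b : B) (hb : 0 < orderOf b) (m : ℕ) :
    ∃ j : ℕ, a ^ j = a ∧ (orderOf (b ^ j)).Coprime p ∧ p ^ m ∣ j := by
  obtain ⟨e, k, hk, hbe⟩ :=
    Nat.exists_eq_pow_mul_and_not_dvd hb.ne' p (Fact.out : p.Prime).ne_one
  obtain ⟨j, hj1, hj0⟩ := Nat.chineseRemainder (ha.pow_right (e + m)) 1 0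
  have hd : p ^ (e + m) ∣ j := Nat.modEq_zero_iff_dvd.1 hj0
  refine ⟨j, (pow_eq_pow_iff_modEq.2 hj1).trans (pow_one a), ?_,
    (pow_dvd_pow p (Nat.le_add_left m e)).trans hd⟩
  refine Nat.Coprime.coprime_dvd_left ?_ ((Fact.out : p.Prime).coprime_iff_not_dvd.2 hk).symm
  refine orderOf_dvd_of_pow_eq_one ?_
  rw [← pow_mul]
  refine orderOf_dvd_iff_pow_eq_one.1 ?_
  rw [hbe]
  exact Nat.mul_dvd_mul_right ((pow_dvd_pow p (Nat.le_add_right e m)).trans hd) k

theorem cl_one (W : WNData p F E) (h : (1 : Ω) ∈ S) : cl W h = 1 :=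
  MulEquiv.ext fun t => Subtype.ext (by simp [cl_apply])

theorem cl_inv (W : WNData p F E) {s : Ω} (hs : s ∈ S) :
    cl W (S.inv_mem hs) = (cl W hs)⁻¹ := by
  refine eq_inv_of_mul_eq_one_left ?_
  rw [← cl_mul]
  exact MulEquiv.ext fun t => Subtype.ext (by simp [cl_apply])

/-- The state of the descent. -/
structure Env (p : ℕ) (F : FusionSystem S) (E : FusionSystem T) {U : Subgroup Ω}
    (G : FusionSystem U) : Prop where
  ctr_le : T ⊔ centralizerIn S T ≤ U
  sat : G.IsSaturated p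
  inv : G.IsInvariantIn F
  sub : E.IsNormalIn G p
  lim : ∀ {V V' : Subgroup Ω} {L : FusionSystem V} {L' : FusionSystem V'},
    L.IsResidualLimitOf F p → L'.IsResidualLimitOf G p → ∀ P, L.Hom P = L'.Hom P

theorem Env.self (hS : IsPGroup p S) (hF : F.IsSaturated p) (hE : E.IsNormalIn F p) :
    Env p F E F :=
  ⟨sup_le hE.1.2.2.2.1.1 (centralizerIn_le S T), hF, (isNormalIn_self hS hF).1.2.2, hE,
    fun h h' => residualLimit_unique h hS h'⟩

theorem Env.le (h : Env p F E G) : U ≤ S := h.inv.2.1.1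

/-- The extension of an automorphism. -/
def ExtTo (G : FusionSystem U) (T C : Subgroup Ω) (α : MulAut T) : Prop :=
  ∃ β ∈ G.autGroup (T ⊔ C),
    (∀ x : T, ((β (Subgroup.inclusion le_sup_left x) : ↥(T ⊔ C)) : Ω) = ((α x : T) : Ω)) ∧
    ∀ c : ↥(T ⊔ C), (c : Ω) ∈ C →
      (c : Ω)⁻¹ * ((β c : ↥(T ⊔ C)) : Ω) ∈ T ⊓ Subgroup.centralizer (T : Set Ω)

theorem Env.ext (h : Env p F E G) {α : MulAut T} (hα : α ∈ E.autGroup T) :
    ExtTo G T (centralizerIn S T) α :=
  centralizerIn_eq (T := T) h.le (le_sup_right.trans h.ctr_le) ▸ (h.sub.2 α hα :)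

theorem pow_ext {α : MulAut T} {β : MulAut ↥(T ⊔ centralizerIn S T)} (hTS : T ≤ S)
    (h1 : ∀ x : T, ((β (Subgroup.inclusion le_sup_left x) : ↥(T ⊔ centralizerIn S T)) : Ω) =
      ((α x : T) : Ω))
    (h2 : ∀ c : ↥(T ⊔ centralizerIn S T), (c : Ω) ∈ centralizerIn S T →
      (c : Ω)⁻¹ * ((β c : _) : Ω) ∈ T ⊓ Subgroup.centralizer (T : Set Ω)) (j : ℕ) :
    (∀ x : T, (((β ^ j) (Subgroup.inclusion le_sup_left x) : ↥(T ⊔ centralizerIn S T)) : Ω) =
      (((α ^ j) x : T) : Ω)) ∧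
    ∀ c : ↥(T ⊔ centralizerIn S T), (c : Ω) ∈ centralizerIn S T →
      (c : Ω)⁻¹ * (((β ^ j) c : _) : Ω) ∈ T ⊓ Subgroup.centralizer (T : Set Ω) := by
  induction j with
  | zero => exact ⟨fun _ => rfl, fun c _ => by simp⟩
  | succ j ih =>
    refine ⟨fun x => ?_, fun c hc => ?_⟩
    · rw [pow_succ, pow_succ, MulAut.mul_apply, MulAut.mul_apply, ← ih.1 (α x)]
      exact congrArg (fun z => (((β ^ j) z : _) : Ω)) (Subtype.ext (h1 x))
    · obtain ⟨hzT, hzc⟩ := h2 c hc
      have hvC : ((β c : _) : Ω) ∈ centralizerIn S T := by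
        rw [← mul_inv_cancel_left (c : Ω) ((β c : _) : Ω)]
        exact Subgroup.mul_mem _ hc ⟨hTS hzT, hzc⟩
      have h := Subgroup.mul_mem _ (h2 c hc) (ih.2 (β c) hvC)
      rw [pow_succ, MulAut.mul_apply]
      rwa [show (c : Ω)⁻¹ * ((β c : _) : Ω) *
        (((β c : _) : Ω)⁻¹ * (((β ^ j) (β c) : _) : Ω)) =
        (c : Ω)⁻¹ * (((β ^ j) (β c) : _) : Ω) by group] at h

/-- The elements of `U` inducing an element of `N`. -/
def clSub (W : WNData p F E) (U : Subgroup Ω) (N : Subgroup (MulAut T)) : Subgroup Ω where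
  carrier := {s | s ∈ U ∧ ∃ hs : s ∈ S, cl W hs ∈ N}
  one_mem' := ⟨U.one_mem, S.one_mem, by rw [cl_one W]; exact N.one_mem⟩
  mul_mem' := by
    rintro a b ⟨haU, ha, haN⟩ ⟨hbU, hb, hbN⟩
    exact ⟨U.mul_mem haU hbU, S.mul_mem ha hb, by rw [cl_mul W ha hb]; exact N.mul_mem haN hbN⟩
  inv_mem' := by
    rintro a ⟨haU, ha, haN⟩
    exact ⟨U.inv_mem haU, S.inv_mem ha, by rw [cl_inv W ha]; exact N.inv_mem haN⟩

/-- A `p`-power step. -/
theorem step_pPower (hS : IsPGroup p S) (hE : E.IsNormalIn F p) (he : Env p F E G)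
    (N : Subgroup (MulAut T)) (hN : ∀ g ∈ F.autGroup T, ∀ n ∈ N, g * n * g⁻¹ ∈ N)
    (hEN : E.autGroup T ≤ N) {m : ℕ} (hpow : ∀ g ∈ G.autGroup T, g ^ p ^ m ∈ N) :
    ∃ (U' : Subgroup Ω) (G' : FusionSystem U'), Env p F E G' ∧ G'.autGroup T ≤ N := by
  have W : WNData p F E := ⟨hS, hE.1.2.1, hE.1.1, hE.1.2.2⟩
  have := W.finite
  have hUS := he.le
  have hTU : T ≤ U := le_sup_left.trans he.ctr_le
  have := finite_of_le hUS
  have hUp := hS.to_le hUS
  have hTp := W.pgroupT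
  have hGF := he.inv.1
  have hGA : G.autGroup T ≤ F.autGroup T := Fusion.autGroup_le_of_isSubsystemOf hGF T
  have hsame : ∀ {g}, g ∈ T → ∀ hs : g ∈ S, cl W hs ∈ N := fun hg hs =>
    hEN (autInducedBy_le_autGroup E le_rfl (conjAut_mem_autInducedBy (K := T) hg _))
  set U' := clSub W U N with hU'def
  have hU'U : U' ≤ U := fun s hs => hs.1
  have hU'S : U' ≤ S := hU'U.trans hUS
  have := finite_of_le hU'S
  have hU'p := hS.to_le hU'S
  have hctr : T ⊔ centralizerIn S T ≤ U' := by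
    refine sup_le (fun t ht => ⟨hTU ht, W.le ht, hsame ht _⟩) fun c hc =>
      ⟨he.ctr_le (Subgroup.mem_sup_right hc), hc.1, ?_⟩
    rw [show cl W hc.1 = 1 from MulEquiv.ext fun t => Subtype.ext
      ((cl_apply W hc.1 t).trans ((mem_centralizerIn_iff_conj.1 hc).2 t t.2))]
    exact N.one_mem
  have hV : F.StronglyClosed U' := by
    refine ⟨hU'S, fun R hR φ hφ x => ⟨he.inv.2.1.2 R (hR.trans hU'U) φ hφ x, apply_mem hφ x, ?_⟩⟩
    obtain ⟨-, g, hg, hgv⟩ := le_classSystem W le_rfl W.le W.saturated (fun _ _ h => h) W.inv.1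
      N hN hEN R hφ
    obtain ⟨-, hxS, hxN⟩ := hR x.2
    have h := N.mul_mem (hgv x hxS (apply_mem hφ x)) (hN g hg _ hxN)
    rwa [inv_mul_cancel_right] at h
  have hhyp : G.hyperfocalSubgroup p ≤ U' := by
    refine (Subgroup.closure_le _).2 ?_
    rintro _ ⟨P, α, z, hP, hα, rfl⟩
    let B : Subgroup (G.autGroup P) :=
      { carrier := {β | ∀ z : P, (z : Ω)⁻¹ * (((β : MulAut P) z : P) : Ω) ∈ U'}
        one_mem' := fun z => by simp
        mul_mem' := fun {a b} ha hb z => by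
          have h := mul_mem (hb z) (ha ((b : MulAut P) z))
          rw [Subgroup.coe_mul, MulAut.mul_apply]
          rwa [show (z : Ω)⁻¹ * (((b : MulAut P) z : P) : Ω) *
            ((((b : MulAut P) z : P) : Ω)⁻¹ * (((a : MulAut P) ((b : MulAut P) z) : P) : Ω)) =
            (z : Ω)⁻¹ * (((a : MulAut P) ((b : MulAut P) z) : P) : Ω) by group] at h
        inv_mem' := fun {a} ha z => by
          have h := inv_mem (ha (((a⁻¹ : G.autGroup P) : MulAut P) z))
          have e : ((a : MulAut P) (((a⁻¹ : G.autGroup P) : MulAut P) z)) = z :=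
            (a : MulAut P).apply_symm_apply z
          rw [e, mul_inv_rev, inv_inv] at h
          exact h }
    suffices hB : pResidual p (G.autGroup P) ≤ B from hB hα z
    refine (Subgroup.closure_le _).2 fun β hβ x => ?_
    have := finite_of_le hP
    have := finite_mulAut (P := P) hP
    obtain ⟨j, hj1, -, hjm⟩ := exists_pow_coprime (p := p) β hβ β (orderOf_pos β) m
    obtain ⟨-, g, hg, hgv⟩ := le_classSystem W hUS hTU he.sat hGF he.sub.1.2.2.1 N
      (fun g hg => hN g (hGA hg)) hEN P (autHom_mem G hP β.2)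
    have hPS : P ≤ S := hP.trans hUS
    let f : P → MulAut T := fun y => cl W (hPS y.2)
    have key : ∀ (i : ℕ) (y : P),
        f (((β : MulAut P) ^ i) y) * (g ^ i * f y * (g ^ i)⁻¹)⁻¹ ∈ N := by
      intro i
      induction i with
      | zero =>
        intro y
        simp only [pow_zero, MulAut.one_apply, one_mul, inv_one, mul_one, mul_inv_cancel]
        exact N.one_mem
      | succ i ih =>
        intro y
        have h1 : f ((β : MulAut P) (((β : MulAut P) ^ i) y)) *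
            (g * f (((β : MulAut P) ^ i) y) * g⁻¹)⁻¹ ∈ N := hgv _ _ _
        have h2 := hN g (hGA hg) _ (ih y)
        rw [pow_succ', MulAut.mul_apply, pow_succ']
        generalize f ((β : MulAut P) (((β : MulAut P) ^ i) y)) = b at h1 ⊢
        generalize f (((β : MulAut P) ^ i) y) = a at h1 h2
        generalize f y = c at h2 ⊢
        generalize g ^ i = w at h2 ⊢
        have h3 := N.mul_mem h1 h2
        rwa [show b * (g * a * g⁻¹)⁻¹ * (g * (a * (w * c * w⁻¹)⁻¹) * g⁻¹) =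
          b * (g * w * c * (g * w)⁻¹)⁻¹ by group] at h3
    have hgN : g ^ j ∈ N := by
      obtain ⟨t, rfl⟩ := hjm
      rw [pow_mul]
      exact N.pow_mem (hpow g hg) t
    have h := key j x
    rw [show (β : MulAut P) ^ j = β from congrArg Subtype.val hj1] at h
    have hxM : f x ∈ F.autGroup T := hGA (cl_mem W hTU _ (hP x.2))
    refine ⟨U.mul_mem (U.inv_mem (hP x.2)) (hP (SetLike.coe_mem _)),
      S.mul_mem (S.inv_mem (hPS x.2)) (hPS (SetLike.coe_mem _)), ?_⟩
    rw [cl_mul W (S.inv_mem (hPS x.2)) (hPS (SetLike.coe_mem ((β : MulAut P) x))),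
      cl_inv W (hPS x.2)]
    change (f x)⁻¹ * f ((β : MulAut P) x) ∈ N
    generalize f ((β : MulAut P) x) = b at h ⊢
    generalize f x = a at h hxM ⊢
    generalize g ^ j = w at h hgN
    have h1 := N.mul_mem h (N.mul_mem hgN (hN a hxM _ (N.inv_mem hgN)))
    rw [show b * (w * a * w⁻¹)⁻¹ * (w * (a * w⁻¹ * a⁻¹)) = b * a⁻¹ by group] at h1
    have h2 := hN a⁻¹ (inv_mem hxM) _ h1
    rwa [show a⁻¹ * (b * a⁻¹) * a⁻¹⁻¹ = a⁻¹ * b by group] at h2
  obtain ⟨G', hG's, hG'i⟩ := exists_pPowerIndex hUp G he.sat hU'U hhyp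
  have hU'n : (U'.subgroupOf U).Normal := (Subgroup.normal_subgroupOf_iff hU'U).2
    fun t g ht hg => StronglyClosed.conj_mem_self hV (hUS hg) ht
  have hG'n := Cfsg.Agent.S5120.result p hUp G he.sat U' hU'U hU'n hhyp G' hG's hG'i
  have hTU' : T ≤ U' := le_sup_left.trans hctr
  have hEG' : E.IsSubsystemOf G' :=
    Cfsg.Agent.S5199.result p hUp G he.sat E he.sub G' hG'n (sup_le hTU' hhyp) hG'i
  have hinv : G'.IsInvariantIn F := by
    refine invariant_trans he.inv hG'n.1.2.2 hV fun α hα => ?_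
    refine isSubsystemOf_of_coprime hU'p hG's le_rfl fun P hP β hβ hc => ?_
    refine mem_autGroup_of_hom _ ⟨hP, fun x => hP (β x).2,
      P.subtype_injective.comp β.injective, ?_⟩
    let th : P →* Ω := restr hP (autHom α)
    have hth : th ∈ F.Hom P := restr_mem F (autHom_mem F hU'S hα) hP
    have hr : th.range = img (Cfsg.Agent.S5120.amb α) P := range_restr hP _
    let e := isoOf th (F.injective_of_mem hth) hr
    have h1 := congr_mem_of_invariant he.inv (hP.trans hU'U) hth hr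
      (Fusion.autGroup_le_of_isSubsystemOf hG'i.1 P hβ)
    have hP' := Cfsg.Agent.S5120.amb_img_le α P
    have := finite_of_le hP
    have h2 : MulAut.congr e β ∈ G'.autGroup (img (Cfsg.Agent.S5120.amb α) P) :=
      hG'i.2.2 _ hP' (mem_map_pResidual_of_coprime _ h1 (by rw [MulEquiv.orderOf_eq]; exact hc))
    refine ⟨autHom (MulAut.congr e β), autHom_mem G' hP' h2, fun x hx hφ h => ?_⟩
    rw [show (⟨Cfsg.Agent.S5120.amb α ⟨x, hx⟩, h⟩ : img (Cfsg.Agent.S5120.amb α) P) = e x from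
      Subtype.ext rfl, autHom_apply]
    show ((e (β (e.symm (e x))) : img (Cfsg.Agent.S5120.amb α) P) : Ω) = _
    rw [e.symm_apply_apply]
    rfl
  have hG'F := hinv.1
  have hTn : G'.IsFullyNormalized T := isFullyNormalized_of_le_normalizer' G' hTU'
    fun s hs => le_normalizer_of_stronglyClosed W.inv.2.1 (hU'S hs)
  refine ⟨U', G', ⟨hctr, hG's, hinv, ?_, fun {V V' L L'} hL hL' P => ?_⟩,
    autGroup_le_of_generators hU'p hG's hTn N ?_ fun α hα hc => ?_⟩
  · refine isNormalIn_sub hS hE hU'S hctr hG's hG'F hEG' fun α hα => ?_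
    have key : E.autGroup T ≤ extGroup G' (Y := T) hTU' := by
      refine autGroup_le_of_generators hTp W.satE (isFullyNormalized_top E) _ ?_ fun α hα hc => ?_
      · intro γ hγ
        obtain ⟨t, htn, htT, hte⟩ := mem_autInducedBy_iff_conjAut.1 hγ
        have hX : T ⊔ centralizerIn U' T ≤ U' := sup_le hTU' (centralizerIn_le U' T)
        have htX : t ∈ Subgroup.normalizer ((T ⊔ centralizerIn U' T : Subgroup Ω) : Set Ω) :=
          Subgroup.le_normalizer (Subgroup.mem_sup_left htT)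
        refine ⟨conjAut htX, conjAut_mem_autGroup G' hX (hTU' htT) htX, fun x => ?_, fun c hc => ?_⟩
        · rw [← hte]
          rfl
        · show (c : Ω)⁻¹ * (t * (c : Ω) * t⁻¹) ∈ _
          rw [(Subgroup.mem_centralizer_iff.1 hc.2 t htT), mul_inv_cancel_right, inv_mul_cancel]
          exact one_mem _
      · show ExtTo G' T (centralizerIn U' T) α
        rw [centralizerIn_eq (T := T) hU'S (le_sup_right.trans hctr)]
        obtain ⟨b, hb, hb1, hb2⟩ := he.ext hα
        have := finite_of_le (hctr.trans hU'S)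
        have := finite_mulAut (P := T ⊔ centralizerIn S T) (hctr.trans hU'S)
        obtain ⟨j, hj1, hjc, -⟩ := exists_pow_coprime α hc b (orderOf_pos b) 0
        obtain ⟨h1, h2⟩ := pow_ext W.le hb1 hb2 j
        rw [hj1] at h1
        exact ⟨b ^ j, hG'i.2.2 _ hctr (mem_map_pResidual_of_coprime _ (pow_mem hb j) hjc), h1, h2⟩
    exact centralizerIn_eq (T := T) hU'S (le_sup_right.trans hctr) ▸
      (key hα : ExtTo G' T (centralizerIn U' T) α)
  · obtain ⟨V₀, L₀, hL₀⟩ := exists_limit hUp G he.sat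
    rw [he.lim hL hL₀ P]
    exact Cfsg.Agent.S5203.result p hUp G he.sat G' hG'n hG'i L₀ hL₀ L' hL' P
  · intro γ hγ
    obtain ⟨t, htn, htU, hte⟩ := mem_autInducedBy_iff_conjAut.1 hγ
    obtain ⟨-, hs, hsN⟩ := htU
    rw [← hte]
    exact hsN
  · have := finite_mulAut (P := T) W.le
    obtain ⟨j, hj1, -, t, rfl⟩ := exists_pow_coprime α hc α (orderOf_pos α) m
    rw [← hj1, pow_mul]
    exact N.pow_mem (hpow α (Fusion.autGroup_le_of_isSubsystemOf hG'i.1 T hα)) t

/-- A step of order prime to `p`. -/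
theorem step_coprime (hS : IsPGroup p S) (hE : E.IsNormalIn F p) (he : Env p F E G)
    (N : Subgroup (MulAut T)) (hN : ∀ g ∈ F.autGroup T, ∀ n ∈ N, g * n * g⁻¹ ∈ N)
    (hEN : E.autGroup T ≤ N) {r : ℕ} (hr : r.Coprime p) (hpow : ∀ g ∈ G.autGroup T, g ^ r ∈ N) :
    ∃ (U' : Subgroup Ω) (G' : FusionSystem U'), Env p F E G' ∧ G'.autGroup T ≤ N := by
  have W : WNData p F E := ⟨hS, hE.1.2.1, hE.1.1, hE.1.2.2⟩
  have := W.finite
  have hUS := he.le
  have hTU : T ≤ U := le_sup_left.trans he.ctr_le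
  have := finite_of_le hUS
  have hUp := hS.to_le hUS
  have := finite_mulAut (P := T) W.le
  have hGF := he.inv.1
  have hGA : G.autGroup T ≤ F.autGroup T := Fusion.autGroup_le_of_isSubsystemOf hGF T
  haveI hnormal : (N.subgroupOf (G.autGroup T)).Normal :=
    ⟨fun n hn g => hN g (hGA g.2) n hn⟩
  let χ : G.autGroup T →* ↥(G.autGroup T) ⧸ N.subgroupOf (G.autGroup T) := QuotientGroup.mk' _
  have hχ : ∀ a : G.autGroup T, χ a = 1 ↔ (a : MulAut T) ∈ N := fun a =>
    (QuotientGroup.eq_one_iff a).trans Subgroup.mem_subgroupOf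
  have D : CharData p G E χ :=
    { pgroup := hUp
      saturated := he.sat
      satE := W.satE
      inv := he.sub.1.2.2
      coprime := by
        refine ((Fact.out : p.Prime).coprime_iff_not_dvd.2 fun hdvd => ?_).symm
        obtain ⟨x, hx⟩ := exists_prime_orderOf_dvd_card' p hdvd
        obtain ⟨g, rfl⟩ := QuotientGroup.mk'_surjective _ x
        have h1 : χ g ^ r = 1 := by
          rw [← map_pow, hχ, SubmonoidClass.coe_pow]
          exact hpow g g.2
        have h2 : p ∣ r := hx ▸ orderOf_dvd_of_pow_eq_one h1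
        exact (Fact.out : p.Prime).not_dvd_one (hr ▸ Nat.dvd_gcd h2 dvd_rfl)
      ker := fun a ha => (hχ a).2 (hEN ha) }
  set B' : Subgroup (MulAut U) := (χ.comp (resT D)).ker.map (G.autGroup U).subtype with hB'def
  have hB : baseAut G p ≤ B' := baseAut_le_char D
  have hB' : B' ≤ G.autGroup U := Subgroup.map_subtype_le _
  have hmem : ∀ b, b ∈ B' ↔ ∃ hb : b ∈ G.autGroup U, ((resT D ⟨b, hb⟩ : G.autGroup T) : MulAut T) ∈ N := by
    intro b
    constructor
    · rintro ⟨b, hb, rfl⟩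
      exact ⟨b.2, (hχ _).1 hb⟩
    · rintro ⟨hb, h⟩
      exact ⟨⟨b, hb⟩, (hχ _).2 h, rfl⟩
  have hnormF : ∀ α ∈ F.autGroup U, ∀ b ∈ B', α * b * α⁻¹ ∈ B' := by
    intro α hα b hb
    obtain ⟨hbG, hbN⟩ := (hmem b).1 hb
    have hc := conj_mem_autGroup_of_invariant he.inv hUS le_rfl hα hbG
    refine (hmem _).2 ⟨hc, ?_⟩
    have hth := restr_mem F (autHom_mem F hUS hα) hTU
    have hrT : (restr hTU (autHom α)).range = T :=
      (range_restr _ _).trans (img_eq_of_stronglyClosed W.inv.2.1 (autHom_mem F hUS hα) hTU)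
    set a : MulAut T := isoOf _ (F.injective_of_mem hth) hrT with ha
    have e : ((resT D ⟨_, hc⟩ : G.autGroup T) : MulAut T) =
        a * (resT D ⟨b, hbG⟩ : G.autGroup T) * a⁻¹ := by
      rw [eq_mul_inv_iff_mul_eq]
      refine MulEquiv.ext fun t => Subtype.ext ?_
      rw [MulAut.mul_apply, MulAut.mul_apply, resT_apply]
      show (((α * b * α⁻¹) (α ⟨t, hTU t.2⟩) : U) : Ω) = ((α _ : U) : Ω)
      rw [MulAut.mul_apply, MulAut.mul_apply, MulAut.inv_apply, MulEquiv.symm_apply_apply]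
      exact congrArg (fun z => ((α z : U) : Ω)) (Subtype.ext rfl)
    rw [e]
    exact hN a (mem_autGroup_of_hom F hth) _ hbN
  set G' := subSystem hUp G B' with hG'def
  have hG'n : G'.IsNormalIn G p := isNormalIn_subSystem hUp he.sat hB hB' fun α hα =>
    hnormF α (Fusion.autGroup_le_of_isSubsystemOf hGF U hα)
  have hEG' : E.IsSubsystemOf G' := subsystem_char D
  have hinv : G'.IsInvariantIn F := by
    refine invariant_trans he.inv hG'n.1.2.2 he.inv.2.1 fun α hα =>
      subSystem_le_of hUp hB (fun b hb => ?_) (gen_le_of fun R hR τ hτ hp => ?_)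
    · refine mem_autGroup_of_hom _ ⟨le_rfl, fun x => (b x).2,
        U.subtype_injective.comp b.injective, ?_⟩
      have hP' := Cfsg.Agent.S5120.amb_img_le α U
      refine ⟨restr hP' (autHom (α * b * α⁻¹)), restr_mem G' (autHom_mem G' le_rfl
        ((mem_autGroup_subSystem hUp hB hB').2 (hnormF α hα b hb))) hP', fun x hx hφ h => ?_⟩
      show (((α * b * α⁻¹) (α ⟨x, _⟩) : U) : Ω) = ((α _ : U) : Ω)
      rw [MulAut.mul_apply, MulAut.mul_apply, MulAut.inv_apply, MulEquiv.symm_apply_apply]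
      rfl
    · have hRU := hR.1
      refine ⟨hRU, fun x => hRU (τ x).2, R.subtype_injective.comp τ.injective, ?_⟩
      let th : R →* Ω := restr hRU (autHom α)
      have hth : th ∈ F.Hom R := restr_mem F (autHom_mem F hUS hα) hRU
      have hthr : th.range = img (Cfsg.Agent.S5120.amb α) R := range_restr hRU _
      let e := isoOf th (F.injective_of_mem hth) hthr
      have hP' := Cfsg.Agent.S5120.amb_img_le α R
      have h2 : autHom (MulAut.congr e τ) ∈ G'.Hom (img (Cfsg.Agent.S5120.amb α) R) :=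
        gen_le_subSystem hUp B' _ (mem_gen_of_isPEl hUp he.sat hP'
          (congr_mem_of_invariant he.inv hRU hth hthr hτ) (hp.map (MulAut.congr e).toMonoidHom))
      refine ⟨_, h2, fun x hx hφ h => ?_⟩
      rw [show (⟨Cfsg.Agent.S5120.amb α ⟨x, hx⟩, h⟩ : img (Cfsg.Agent.S5120.amb α) R) = e x from
        Subtype.ext rfl, autHom_apply]
      show ((e (τ (e.symm (e x))) : img (Cfsg.Agent.S5120.amb α) R) : Ω) = _
      rw [e.symm_apply_apply]
      rfl
  refine ⟨U, G', ⟨he.ctr_le, hG'n.1.1, hinv, ?_, fun {V V' L L'} hL hL' P => ?_⟩, fun a ha => ?_⟩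
  · refine isNormalIn_sub hS hE hUS he.ctr_le hG'n.1.1 hinv.1 hEG' fun α hα => ?_
    obtain ⟨β, hβ, hβ1, hβ2⟩ := he.ext hα
    obtain ⟨α', hα'⟩ := exists_dec (p := p) hUp he.sat (autHom_mem G he.ctr_le hβ)
    have e : restr (le_sup_left : T ≤ T ⊔ centralizerIn S T) (autHom β) = autHom α :=
      MonoidHom.ext hβ1
    have h1 : χ (resT D ⟨α', hα'.1⟩) = 1 :=
      weight_of_mem D (isCentric_self E) (autHom_mem E le_rfl hα) (α := ⟨α', hα'.1⟩)
        (e ▸ hα'.restr le_sup_left)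
    exact ⟨β, mem_autGroup_of_hom G' ⟨autHom_mem G he.ctr_le hβ, α', ⟨⟨α', hα'.1⟩, h1, rfl⟩,
      Lab.of_dec hα'⟩, hβ1, hβ2⟩
  · obtain ⟨V₀, L₀, hL₀⟩ := exists_limit hUp G he.sat
    rw [he.lim hL hL₀ P]
    exact limit_eq_of_normal hUp he.sat (isNormalIn_self hUp he.sat) hG'n hL₀ hL' P
  · obtain ⟨hφG, β, hβB, -, b, hb, hd⟩ := autHom_mem G' hTU ha
    obtain ⟨-, e, he', hex⟩ := hd
    obtain ⟨hc, hcN⟩ := (hmem _).1 (mul_mem hβB (hB hb))
    have hcent : E.IsCentric (T ⊓ T) := (inf_idem (a := T)).symm ▸ isCentric_self E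
    have h1 := (gen_le_triv D T he').2 hcent
    have h2 : XL E χ 1 e := h1.restr (le_inf le_rfl le_rfl)
    have heT : ∀ x, e x ∈ T := fun x =>
      D.inv.2.1.2 T le_rfl e (gen_le G p T he') x
    have h3 : XL E χ (χ (resT D ⟨_, hc⟩) * 1) (autHom a) :=
      h2.comp D.lab (XL.autHom_self (resT D ⟨_, hc⟩)) heT fun x => hex x (D.le (heT x))
    rw [(hχ _).2 hcN, one_mul] at h3
    have haG : a ∈ G.autGroup T := mem_autGroup_of_hom G hφG
    exact (hχ ⟨a, haG⟩).1
      (XL.unique D.lab (isCentric_self E) (XL.autHom_self (E := E) ⟨a, haG⟩) h3)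

/-- The extension condition of normality is empty over a subgroup containing its centralizer. -/
theorem extends_of_centralizer_le {Y : Subgroup Ω} {α : MulAut Y} (haF : α ∈ F.autGroup Y)
    (hCY : centralizerIn S Y ≤ Y) : ExtTo F Y (centralizerIn S Y) α := by
  suffices key : ∀ (X : Subgroup Ω) (h : Y ≤ X), X = Y → ∃ β ∈ F.autGroup X,
      (∀ x : Y, ((β (Subgroup.inclusion h x) : X) : Ω) = ((α x : Y) : Ω)) ∧
      ∀ c : X, (c : Ω) ∈ centralizerIn S Y →
        (c : Ω)⁻¹ * ((β c : X) : Ω) ∈ Y ⊓ Subgroup.centralizer (Y : Set Ω) from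
    key _ le_sup_left (sup_eq_left.2 hCY)
  intro X h hX
  subst hX
  refine ⟨α, haF, fun x => rfl, fun c hc => ⟨Subgroup.mul_mem _ (Subgroup.inv_mem _ c.2) (α c).2,
    Subgroup.mul_mem _ (Subgroup.inv_mem _ hc.2) (Subgroup.mem_centralizer_iff.2 fun y hy => ?_)⟩⟩
  obtain ⟨z, hz⟩ := α.surjective ⟨y, hy⟩
  have h1 : z * c = c * z := Subtype.ext (Subgroup.mem_centralizer_iff.1 hc.2 (z : Ω) z.2)
  have h2 := congrArg (fun w => ((α w : _) : Ω)) h1
  simp only [map_mul, Subgroup.coe_mul, hz] at h2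
  exact h2

/-- The descent. -/
theorem exists_env (hS : IsPGroup p S) (hF : F.IsSaturated p) (hE : E.IsNormalIn F p)
    [hn : ((E.autGroup T).subgroupOf (F.autGroup T)).Normal]
    (hsolv : Cfsg.IsPSolvable p (↥(F.autGroup T) ⧸ (E.autGroup T).subgroupOf (F.autGroup T))) :
    ∃ (U : Subgroup Ω) (G : FusionSystem U), Env p F E G ∧ G.autGroup T ≤ E.autGroup T := by
  have hEA : E.autGroup T ≤ F.autGroup T := Fusion.autGroup_le_of_isSubsystemOf hE.1.2.2.1 T
  obtain ⟨n, H, hH0, hHn, -, hHN, hstep⟩ := hsolv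
  let K := (E.autGroup T).subgroupOf (F.autGroup T)
  let pre : Fin (n + 1) → Subgroup (MulAut T) := fun i =>
    ((H i).comap (QuotientGroup.mk' K)).map (F.autGroup T).subtype
  suffices key : ∀ i, ∃ (U : Subgroup Ω) (G : FusionSystem U),
      Env p F E G ∧ G.autGroup T ≤ pre i by
    obtain ⟨U, G, hG, hle⟩ := key 0
    refine ⟨U, G, hG, hle.trans ?_⟩
    rintro _ ⟨a, ha, rfl⟩
    rw [hH0] at ha
    exact Subgroup.mem_subgroupOf.1 ((QuotientGroup.eq_one_iff a).1 ha)
  intro i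
  induction i using Fin.reverseInduction with
  | last =>
    refine ⟨S, F, Env.self hS hF hE, fun a ha => ⟨⟨a, ha⟩, ?_, rfl⟩⟩
    show QuotientGroup.mk' K ⟨a, ha⟩ ∈ H (Fin.last n)
    rw [hHn]
    exact Subgroup.mem_top _
  | cast i ih =>
    obtain ⟨U, G, hG, hle⟩ := ih
    have hTU : T ≤ U := le_sup_left.trans hG.ctr_le
    let N := G.autGroup T ⊓ pre i.castSucc
    have hGA : G.autGroup T ≤ F.autGroup T := Fusion.autGroup_le_of_isSubsystemOf hG.inv.1 T
    have hN : ∀ g ∈ F.autGroup T, ∀ x ∈ N, g * x * g⁻¹ ∈ N := by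
      rintro g hg x ⟨hxG, a, ha, rfl⟩
      refine ⟨conj_mem_autGroup_of_invariant hG.inv hG.le hTU hg hxG,
        ⟨g, hg⟩ * a * ⟨g, hg⟩⁻¹, ?_, rfl⟩
      show QuotientGroup.mk' K _ ∈ H i.castSucc
      rw [map_mul, map_mul, map_inv]
      exact (hHN i.castSucc).conj_mem _ ha _
    have hEN : E.autGroup T ≤ N := fun a ha => by
      refine ⟨Fusion.autGroup_le_of_isSubsystemOf hG.sub.1.2.2.1 T ha, ⟨a, hEA ha⟩, ?_, rfl⟩
      show QuotientGroup.mk' K ⟨a, hEA ha⟩ ∈ H i.castSucc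
      rw [show QuotientGroup.mk' K ⟨a, hEA ha⟩ = 1 from (QuotientGroup.eq_one_iff _).2 ha]
      exact one_mem _
    have hpow : ∀ g ∈ G.autGroup T, g ^ (H i.castSucc).relIndex (H i.succ) ∈ N := by
      intro g hg
      obtain ⟨a, ha, rfl⟩ := hle hg
      refine ⟨pow_mem hg _, a ^ (H i.castSucc).relIndex (H i.succ), ?_, rfl⟩
      show QuotientGroup.mk' K _ ∈ H i.castSucc
      rw [map_pow]
      have := hHN i.castSucc
      exact Subgroup.pow_index_mem ((H i.castSucc).subgroupOf (H i.succ)) ⟨_, ha⟩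
    rcases hstep i with ⟨m, hm⟩ | hco
    · rw [hm] at hpow
      obtain ⟨U', G', h, h'⟩ := step_pPower hS hE hG N hN hEN hpow
      exact ⟨U', G', h, h'.trans inf_le_right⟩
    · obtain ⟨U', G', h, h'⟩ := step_coprime hS hE hG N hN hEN hco hpow
      exact ⟨U', G', h, h'.trans inf_le_right⟩

/-- The envelope. -/
theorem exists_envelope (hS : IsPGroup p S) (hF : F.IsSaturated p) (hE : E.IsNormalIn F p)
    [hn : ((E.autGroup T).subgroupOf (F.autGroup T)).Normal]
    (hsolv : Cfsg.IsPSolvable p (↥(F.autGroup T) ⧸ (E.autGroup T).subgroupOf (F.autGroup T))) :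
    ∃ F₀ : FusionSystem (T ⊔ centralizerIn S T),
      F₀.IsNormalIn F p ∧ Env p F E F₀ ∧ F₀.autGroup T = E.autGroup T := by
  obtain ⟨U, G, he, hle⟩ := exists_env hS hF hE hsolv
  have W : WNData p F E := ⟨hS, hE.1.2.1, hE.1.1, hE.1.2.2⟩
  have := W.finite
  have hUS := he.le
  have hTU : T ≤ U := le_sup_left.trans he.ctr_le
  have := finite_of_le hUS
  obtain rfl : U = T ⊔ centralizerIn S T := by
    refine le_antisymm (fun s hs => ?_) he.ctr_le
    have hsS := hUS hs
    obtain ⟨k, hk⟩ := hS ⟨s, hsS⟩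
    have := finite_mulAut (P := T) W.le
    have hsn := le_normalizer_of_stronglyClosed W.inv.2.1 hsS
    have hp : IsPEl p (conjAut hsn) := isPEl_conjAut hS hsS hsn
    have hzp : IsPGroup p (Subgroup.zpowers (conjAut hsn)) := by
      obtain ⟨e, he'⟩ := hp
      rintro ⟨x, hx⟩
      obtain ⟨z, rfl⟩ := Subgroup.mem_zpowers_iff.1 hx
      refine ⟨e, Subtype.ext ?_⟩
      show ((conjAut hsn) ^ z) ^ p ^ e = 1
      rw [← zpow_natCast, zpow_comm, zpow_natCast, he', one_zpow]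
    obtain ⟨γ, hγ, hγs⟩ := IsFullyAutomized.exists_conj
      (IsSaturated.automized_receptive W.pgroupT W.satE (isFullyNormalized_top E)).1
      (Subgroup.zpowers_le.2 (hle (conjAut_mem_autGroup G hTU hs hsn))) hzp
    obtain ⟨t, ht, hte⟩ := mem_autInducedBy.1 (hγs _ (Subgroup.mem_zpowers _))
    set t' : T := γ⁻¹ ⟨t, ht⟩ with ht'
    have hc : (t' : Ω)⁻¹ * s ∈ centralizerIn S T := by
      refine mem_centralizerIn_iff_conj.2 ⟨S.mul_mem (S.inv_mem (W.le t'.2)) hsS, fun x hx => ?_⟩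
      have h1 := hte (γ ⟨x, hx⟩)
      rw [MulAut.mul_apply, MulAut.mul_apply, MulAut.inv_apply, MulEquiv.symm_apply_apply] at h1
      have h2 : γ (conjAut hsn ⟨x, hx⟩) = γ (t' * ⟨x, hx⟩ * t'⁻¹) := by
        rw [map_mul, map_mul, map_inv, ht', MulAut.inv_apply, MulEquiv.apply_symm_apply]
        exact Subtype.ext h1
      have h3 : s * x * s⁻¹ = (t' : Ω) * x * (t' : Ω)⁻¹ := congrArg Subtype.val (γ.injective h2)
      generalize (t' : Ω) = w at h3 ⊢
      calc w⁻¹ * s * x * (w⁻¹ * s)⁻¹ = w⁻¹ * (s * x * s⁻¹) * w := by group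
        _ = w⁻¹ * (w * x * w⁻¹) * w := by rw [h3]
        _ = x := by group
    rw [← mul_inv_cancel_left (t' : Ω) s]
    exact Subgroup.mul_mem _ (Subgroup.mem_sup_left t'.2) (Subgroup.mem_sup_right hc)
  exact ⟨G, ⟨⟨he.sat, hF, he.inv⟩, fun α hα => extends_of_centralizer_le
    (Fusion.autGroup_le_of_isSubsystemOf he.inv.1 _ hα) fun c hc =>
      Subgroup.mem_sup_right (mem_centralizerIn.2 ⟨hc.1, fun t ht =>
        (mem_centralizerIn.1 hc).2 t (Subgroup.mem_sup_left ht)⟩)⟩, he,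
    le_antisymm hle (Fusion.autGroup_le_of_isSubsystemOf he.sub.1.2.2.1 T)⟩

end Cfsg.Agent.Lib.Fusion.PrimeIndex
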