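import Cfsg.Agent.Lib.Fusion.PrimeIndex.Basic
import Cfsg.Agent.Lib.Fusion.KNormalizer
import Cfsg.Agent.Lib.Fusion.NormalizerFacts
import Cfsg.Agent.Lib.Fusion.Generating

/-!
The labels of the identity of a fully normalized subgroup come from automorphisms of `Q C_S(Q)`.
-/

set_option autoImplicit false
set_option linter.unusedSectionVars false

namespace Cfsg.Agent.Lib.Fusion.PrimeIndex

open Cfsg Cfsg.FusionSystem

variable {Ω : Type*} [Group Ω] {S : Subgroup Ω}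

/-- `Q C_S(Q)`. -/
def ctr (S Q : Subgroup Ω) : Subgroup Ω := Q ⊔ centralizerIn S Q

theorem le_ctr (S Q : Subgroup Ω) : Q ≤ ctr S Q := le_sup_left

theorem ctr_le {Q : Subgroup Ω} (hQ : Q ≤ S) : ctr S Q ≤ S := sup_le hQ (centralizerIn_le S Q)

theorem ctr_le_normalizerIn {Q : Subgroup Ω} (hQ : Q ≤ S) : ctr S Q ≤ normalizerIn S Q :=
  sup_le (le_normalizerIn hQ) (centralizerIn_le_normalizerIn S Q)

/-- A label carried by an extension to `Q C_S(Q)`. -/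
def Ext (F : FusionSystem S) (p : ℕ) (Q : Subgroup Ω) (α : MulAut S) (τ : MulAut Q) : Prop :=
  ∃ χ ∈ F.autGroup (ctr S Q), Lab F p α (autHom χ) ∧
    ∀ q : Q, ((χ ⟨q, le_ctr S Q q.2⟩ : ctr S Q) : Ω) = ((τ q : Q) : Ω)

variable {p : ℕ} [Fact p.Prime] [Finite S] {F : FusionSystem S} {Q : Subgroup Ω}

theorem ctr_centric (hQ : F.IsFullyCentralized Q) : F.IsCentric (ctr S Q) := by
  refine ⟨ctr_le hQ.1, ?_⟩
  rintro R ⟨φ, hφ, rfl⟩ g hg
  have hQ' : F.IsConj Q (img φ Q) := isConj_img F hφ (le_ctr S Q)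
  have hle : img φ (centralizerIn S Q) ≤ centralizerIn S (img φ Q) := by
    rintro _ ⟨c, hc, rfl⟩
    refine mem_centralizerIn.2 ⟨apply_mem hφ c, ?_⟩
    rintro _ ⟨q, hq, rfl⟩
    rw [← map_mul, ← map_mul]
    exact congrArg φ (Subtype.ext ((mem_centralizerIn.1 hc).2 q hq))
  have := finite_of_le (centralizerIn_le S (img φ Q))
  have heq : img φ (centralizerIn S Q) = centralizerIn S (img φ Q) := by
    refine Subgroup.eq_of_le_of_card_ge hle ?_
    rw [card_img (F.injective_of_mem hφ) (le_sup_right : centralizerIn S Q ≤ ctr S Q)]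
    exact hQ.2 _ hQ'
  refine img_le_range φ (centralizerIn S Q) (heq.ge ?_)
  exact mem_centralizerIn.2 ⟨(mem_centralizerIn.1 hg).1, fun y hy =>
    (mem_centralizerIn.1 hg).2 y (img_le_range φ Q hy)⟩

theorem lab_autHom_mul (hS : IsPGroup p S) {X : Subgroup Ω} {α β : MulAut S} {χ ξ : MulAut X}
    (h₁ : Lab F p α (autHom χ)) (h₂ : Lab F p β (autHom ξ)) :
    Lab F p (α * β) (autHom (χ * ξ)) :=
  h₂.comp hS h₁ (fun x => (ξ x).2) fun _ => rfl

theorem lab_autHom_inv (hS : IsPGroup p S) {X : Subgroup Ω} {α : MulAut S} {χ : MulAut X}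
    (h : Lab F p α (autHom χ)) : Lab F p α⁻¹ (autHom χ⁻¹) :=
  h.inv hS (range_autHom χ) fun x hx => congrArg Subtype.val (χ.symm_apply_apply x)

theorem Ext.mul (hS : IsPGroup p S) {α β : MulAut S} {τ σ : MulAut Q} (h₁ : Ext F p Q α τ)
    (h₂ : Ext F p Q β σ) : Ext F p Q (α * β) (τ * σ) := by
  obtain ⟨χ, hχ, hl, he⟩ := h₁
  obtain ⟨ξ, hξ, hm, hf⟩ := h₂
  refine ⟨χ * ξ, mul_mem hχ hξ, lab_autHom_mul hS hl hm, fun q => ?_⟩
  rw [MulAut.mul_apply, MulAut.mul_apply, ← he (σ q)]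
  exact congrArg (fun z => ((χ z : ctr S Q) : Ω)) (Subtype.ext (hf q))

theorem Ext.inv (hS : IsPGroup p S) {α : MulAut S} {τ : MulAut Q} (h : Ext F p Q α τ) :
    Ext F p Q α⁻¹ τ⁻¹ := by
  obtain ⟨χ, hχ, hl, he⟩ := h
  refine ⟨χ⁻¹, inv_mem hχ, lab_autHom_inv hS hl, fun q => ?_⟩
  have h1 : χ ⟨((τ⁻¹ q : Q) : Ω), le_ctr S Q (τ⁻¹ q).2⟩ = ⟨q, le_ctr S Q q.2⟩ :=
    Subtype.ext ((he (τ⁻¹ q)).trans (congrArg Subtype.val (τ.apply_symm_apply q)))
  rw [← h1, MulAut.inv_apply, MulEquiv.symm_apply_apply]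

theorem Ext.mul_base (hS : IsPGroup p S) {α b : MulAut S} {τ : MulAut Q} (h : Ext F p Q α τ)
    (hb : b ∈ baseAut F p) : Ext F p Q (α * b) τ := by
  obtain ⟨χ, hχ, hl, he⟩ := h
  exact ⟨χ, hχ, hl.mul_base hS hb, he⟩

theorem Ext.of_congr (hS : IsPGroup p S) {α β : MulAut S} {τ : MulAut Q} (h : Ext F p Q α τ)
    (hb : α⁻¹ * β ∈ baseAut F p) : Ext F p Q β τ := by
  have := h.mul_base hS hb
  rwa [mul_inv_cancel_left] at this

/-- Every automorphism of a fully normalized subgroup extends to `Q C_S(Q)`. -/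
theorem exists_extension (hS : IsPGroup p S) (hF : F.IsSaturated p) (hQ : F.IsFullyNormalized Q)
    {τ : MulAut Q} (hτ : τ ∈ F.autGroup Q) :
    ∃ χ ∈ F.autGroup (ctr S Q),
      ∀ q : Q, ((χ ⟨q, le_ctr S Q q.2⟩ : ctr S Q) : Ω) = ((τ q : Q) : Ω) := by
  have hτh := autHom_mem F hQ.1 hτ
  obtain ⟨ψ, hψ, hext, -⟩ := IsReceptive.extend
    (IsSaturated.automized_receptive hS hF hQ).2 hτh (range_autHom τ)
  have hQe : Q ≤ extender S Q (autHom τ) := le_extender hQ.1 (apply_mem hτh)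
  have hle : ctr S Q ≤ extender S Q (autHom τ) := sup_le hQe (centralizerIn_le_extender _)
  have hψ' : restr hle ψ ∈ F.Hom (ctr S Q) := restr_mem F hψ hle
  have hr : (restr hle ψ).range = ctr S Q := by
    have := finite_of_le (ctr_le hQ.1)
    refine Subgroup.eq_of_le_of_card_ge ?_ (card_range_eq (F.injective_of_mem hψ')).ge
    rw [range_restr, ctr, img_sup ψ hQe (centralizerIn_le_extender _)]
    refine sup_le (le_trans ?_ le_sup_left) (le_trans ?_ le_sup_right)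
    · rintro _ ⟨x, hx, rfl⟩
      rw [hext x hx x.2]
      exact (τ ⟨x, hx⟩).2
    · rintro _ ⟨x, hx, rfl⟩
      exact apply_mem_centralizerIn (range_autHom τ) hψ hext hQe x.2 hx
  exact ⟨isoOf _ (F.injective_of_mem hψ') hr, mem_autGroup_of_hom F hψ',
    fun q => hext q q.2 (hle (le_ctr S Q q.2))⟩

theorem exists_ext (hS : IsPGroup p S) (hF : F.IsSaturated p) (hQ : F.IsFullyNormalized Q)
    {τ : MulAut Q} (hτ : τ ∈ F.autGroup Q) : ∃ α, Ext F p Q α τ := by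
  obtain ⟨χ, hχ, he⟩ := exists_extension hS hF hQ hτ
  obtain ⟨α, hα⟩ := exists_lab hS hF (autHom_mem F (ctr_le hQ.1) hχ)
  exact ⟨α, χ, hχ, hα, he⟩

theorem Ext.one (hQ : Q ≤ S) : Ext F p Q 1 1 :=
  ⟨1, one_mem _, Lab.of_gen ((gen F p).conj_mem (ctr_le hQ) S.one_mem |> fun h => by
    rwa [← subtype_eq_conjHom_one] at h), fun _ => rfl⟩

theorem Ext.of_isPEl (hS : IsPGroup p S) (hF : F.IsSaturated p) (hQ : F.IsFullyNormalized Q)
    {τ : MulAut Q} (hτ : τ ∈ F.autGroup Q) (hp : IsPEl p τ) : Ext F p Q 1 τ := by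
  obtain ⟨χ, hχ, he⟩ := exists_extension hS hF hQ hτ
  have := finite_mulAut (ctr_le hQ.1)
  obtain ⟨a, m, hm, hχo⟩ :=
    Nat.exists_eq_pow_mul_and_not_dvd (orderOf_pos χ).ne' p (Fact.out : p.Prime).ne_one
  obtain ⟨k, hk⟩ := hp
  have hco : Nat.Coprime (p ^ k) m :=
    Nat.Coprime.pow_left k ((Fact.out : p.Prime).coprime_iff_not_dvd.2 hm)
  obtain ⟨N, hN1, hN0⟩ := Nat.chineseRemainder hco 1 0
  have hτN : τ ^ N = τ := by
    refine (pow_eq_pow_iff_modEq.2 ?_).trans (pow_one τ)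
    exact hN1.of_dvd (orderOf_dvd_of_pow_eq_one hk)
  have hpow : ∀ (n : ℕ) (q : Q), (((χ ^ n) ⟨q, le_ctr S Q q.2⟩ : ctr S Q) : Ω) =
      (((τ ^ n) q : Q) : Ω) := by
    intro n
    induction n with
    | zero => intro q; rfl
    | succ n ih =>
      intro q
      rw [pow_succ', pow_succ', MulAut.mul_apply, MulAut.mul_apply, ← he ((τ ^ n) q)]
      exact congrArg (fun z => ((χ z : ctr S Q) : Ω)) (Subtype.ext (ih q))
  refine ⟨χ ^ N, pow_mem hχ N, Lab.of_gen (mem_gen_of_isPEl hS hF (ctr_le hQ.1) (pow_mem hχ N)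
    ⟨a, ?_⟩), fun q => by rw [hpow, hτN]⟩
  rw [← pow_mul]
  refine orderOf_dvd_iff_pow_eq_one.1 ?_
  rw [hχo, mul_comm N]
  exact mul_dvd_mul_left _ (Nat.modEq_zero_iff_dvd.1 hN0)

/-- The maps of the normalizer system having a label matching their action on `Q`. -/
def matchSystem (hS : IsPGroup p S) (hF : F.IsSaturated p) (hQ : F.IsFullyNormalized Q) :
    FusionSystem (normalizerIn S Q) where
  Hom P := {φ | φ ∈ F.normalizerHom Q P ∧ ∃ ψ ∈ F.Hom (P ⊔ Q),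
    (∀ x : P, ψ (Subgroup.inclusion le_sup_left x) = φ x) ∧
    ∃ τ ∈ F.autGroup Q, (∀ q : Q, ψ (Subgroup.inclusion le_sup_right q) = ((τ q : Q) : Ω)) ∧
      ∃ α, Lab F p α ψ ∧ Ext F p Q α τ}
  le_of_mem h := ⟨h.1.2.1, h.1.2.2.1⟩
  injective_of_mem h := F.injective_of_mem h.1.1
  conj_mem {P g} hP hg := by
    have hPS := sup_le (hP.trans (normalizerIn_le S Q)) hQ.1
    exact ⟨(normalizerSystem F Q hQ.1).conj_mem hP hg, conjHom _ g, F.conj_mem hPS hg.1,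
      fun x => rfl, conjAut hg.2, conjAut_mem_autGroup F hQ.1 hg.1 hg.2, fun q => rfl, 1,
      Lab.of_gen ((gen F p).conj_mem hPS hg.1),
      Ext.of_isPEl hS hF hQ (conjAut_mem_autGroup F hQ.1 hg.1 hg.2) (isPEl_conjAut hS hg.1 hg.2)⟩
  comp_mem {P R φ ξ} hφ hξ h := by
    obtain ⟨hφN, ψ, hψ, hext, τ, hτ, hψτ, α, hα, hατ⟩ := hφ
    obtain ⟨hξN, ψ', hψ', hext', τ', hτ', hψτ', α', hα', hατ'⟩ := hξ
    have hle : P ⊔ Q ≤ Subgroup.map (P ⊔ Q).subtype ((R ⊔ Q).comap ψ) := by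
      refine sup_le (fun x hx => ⟨⟨x, Subgroup.mem_sup_left hx⟩, ?_, rfl⟩)
        (fun x hx => ⟨⟨x, Subgroup.mem_sup_right hx⟩, ?_, rfl⟩)
      · show ψ _ ∈ R ⊔ Q
        rw [show ψ ⟨x, Subgroup.mem_sup_left hx⟩ = φ ⟨x, hx⟩ from hext ⟨x, hx⟩]
        exact Subgroup.mem_sup_left (h _)
      · show ψ _ ∈ R ⊔ Q
        rw [show ψ ⟨x, Subgroup.mem_sup_right hx⟩ = ((τ ⟨x, hx⟩ : Q) : Ω) from hψτ ⟨x, hx⟩]
        exact Subgroup.mem_sup_right (τ _).2
    have h' : ∀ x, ψ x ∈ R ⊔ Q := by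
      intro x
      obtain ⟨y, hy, hyx⟩ := hle x.2
      rw [← Subtype.ext (a1 := y) (a2 := x) hyx]
      exact hy
    refine ⟨(normalizerSystem F Q hQ.1).comp_mem hφN hξN h, compose ψ ψ' h',
      compose_mem F hψ hψ' h', fun x => ?_, τ' * τ, mul_mem hτ' hτ, fun q => ?_, α' * α,
      hα.comp hS hα' h' (fun _ => rfl), hατ'.mul hS hατ⟩
    · have e : (⟨ψ (Subgroup.inclusion le_sup_left x), h' _⟩ : ↥(R ⊔ Q)) =
          Subgroup.inclusion le_sup_left ⟨φ x, h x⟩ := Subtype.ext (hext x)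
      rw [compose_apply, e, hext']
      rfl
    · have e : (⟨ψ (Subgroup.inclusion le_sup_right q), h' _⟩ : ↥(R ⊔ Q)) =
          Subgroup.inclusion le_sup_right (τ q) := Subtype.ext (hψτ q)
      rw [compose_apply, e, hψτ']
      rfl
  inv_mem {P φ} hφ := by
    obtain ⟨hφN, ψ, hψ, hext, τ, hτ, hψτ, α, hα, hατ⟩ := hφ
    obtain ⟨c, hc, hl⟩ := (normalizerSystem F Q hQ.1).inv_mem hφN
    obtain ⟨d, hd, -, hdl, -⟩ := exists_inv F hψ rfl
    have hrange : φ.range ⊔ Q ≤ ψ.range := by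
      refine sup_le ?_ ?_
      · rintro _ ⟨x, rfl⟩
        exact ⟨Subgroup.inclusion le_sup_left x, hext x⟩
      · intro q hq
        exact ⟨Subgroup.inclusion le_sup_right (τ⁻¹ ⟨q, hq⟩), (hψτ _).trans
          (congrArg Subtype.val (τ.apply_symm_apply ⟨q, hq⟩))⟩
    refine ⟨c, ⟨hc, restr hrange d, restr_mem F hd _, ?_, τ⁻¹, inv_mem hτ, fun q => ?_, α⁻¹,
      (hα.inv hS rfl hdl).restr _, hατ.inv hS⟩, hl⟩
    · rintro ⟨_, x, rfl⟩
      refine Eq.trans ?_ (hl x).symm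
      refine Eq.trans (congrArg d (Subtype.ext ?_)) (hdl (Subgroup.inclusion le_sup_left x) ⟨_, rfl⟩)
      exact (hext x).symm
    · refine Eq.trans (congrArg d (Subtype.ext ?_))
        (hdl (Subgroup.inclusion le_sup_right (τ⁻¹ q)) ⟨_, rfl⟩)
      exact ((hψτ _).trans (congrArg Subtype.val (τ.apply_symm_apply q))).symm

theorem normalizerSystem_le_match (hS : IsPGroup p S) (hF : F.IsSaturated p)
    (hQ : F.IsFullyNormalized Q) : normalizerSystem F Q hQ.1 ≤ matchSystem hS hF hQ := by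
  have hSN : IsPGroup p (normalizerIn S Q) := hS.to_le (normalizerIn_le S Q)
  have := finite_of_le (normalizerIn_le S Q)
  have hN := normalizerSystem_isSaturated hS hF hQ (normalizerSystem_spec F Q hQ.1)
  have hQn := IsNormalizerSystem.isNormal (normalizerSystem_spec F Q hQ.1) hQ.1
  -- the action on `Q` of an automorphism of a subgroup containing it
  have hres : ∀ {P : Subgroup Ω}, Q ≤ P → ∀ σ : MulAut P,
      σ ∈ (normalizerSystem F Q hQ.1).autGroup P → P ≤ normalizerIn S Q →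
      ∃ τ ∈ F.autGroup Q, ∀ (q : Q) (hq : (q : Ω) ∈ P),
        ((σ ⟨q, hq⟩ : P) : Ω) = ((τ q : Q) : Ω) := by
    intro P hQP σ hσ hP
    obtain ⟨hσF, -, -, ψ, hψ, hext, himg⟩ := autHom_mem _ hP hσ
    have hf : restr hQP (autHom σ) ∈ F.Hom Q := restr_mem F hσF hQP
    have hr : (restr hQP (autHom σ)).range = Q := by
      rw [range_restr]
      refine Eq.trans ?_ himg
      ext y
      constructor
      · rintro ⟨x, hx, rfl⟩
        exact ⟨Subgroup.inclusion le_sup_left x, hx, hext x⟩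
      · rintro ⟨x, hx, rfl⟩
        exact ⟨⟨x, hQP hx⟩, hx, (hext ⟨x, hQP hx⟩).symm⟩
    exact ⟨isoOf _ (F.injective_of_mem hf) hr, mem_autGroup_of_hom F hf, fun q hq => rfl⟩
  have hlab : ∀ {P : Subgroup Ω} (hQP : Q ≤ P) (σ : MulAut P),
      σ ∈ (normalizerSystem F Q hQ.1).autGroup P → P ≤ normalizerIn S Q →
      ∀ α, Lab F p α (autHom σ) → (∀ τ ∈ F.autGroup Q, (∀ (q : Q) (hq : (q : Ω) ∈ P),
        ((σ ⟨q, hq⟩ : P) : Ω) = ((τ q : Q) : Ω)) → Ext F p Q α τ) →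
      autHom σ ∈ (matchSystem hS hF hQ).Hom P := by
    intro P hQP σ hσ hP α hα hE
    obtain ⟨τ, hτ, he⟩ := hres hQP σ hσ hP
    exact ⟨autHom_mem _ hP hσ, restr (sup_le le_rfl hQP) (autHom σ),
      restr_mem F hα.mem _, fun x => rfl, τ, hτ, fun q => he q (hQP q.2), α, hα.restr _,
      hE τ hτ he⟩
  refine alperin_ind hSN hN _ (fun σ hσ => mem_autGroup_of_hom _ ?_) fun P hP ih => ?_
  · obtain ⟨α, hα⟩ := exists_lab hS hF (autHom_mem _ le_rfl hσ).1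
    refine hlab (le_normalizerIn hQ.1) σ hσ le_rfl α hα fun τ hτ he => ?_
    have hle := ctr_le_normalizerIn (S := S) hQ.1
    have hg : restr hle (autHom σ) ∈ F.Hom (ctr S Q) := restr_mem F hα.mem hle
    have hr : (restr hle (autHom σ)).range = ctr S Q := by
      have := finite_of_le (ctr_le (S := S) hQ.1)
      refine Subgroup.eq_of_le_of_card_ge ?_ (card_range_eq (F.injective_of_mem hg)).ge
      rw [range_restr, ctr, img_sup (autHom σ) (le_normalizerIn hQ.1)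
        (centralizerIn_le_normalizerIn S Q)]
      refine sup_le (le_trans ?_ le_sup_left) (le_trans ?_ le_sup_right)
      · rintro _ ⟨x, hx, rfl⟩
        rw [autHom_apply, he ⟨x, hx⟩ x.2]
        exact SetLike.coe_mem _
      · rintro _ ⟨x, hx, rfl⟩
        exact apply_mem_centralizerIn (φ := autHom τ) (range_autHom τ) hα.mem
          (fun y hy hyN => he ⟨y, hy⟩ hyN) (le_normalizerIn hQ.1) x.2 hx
    exact ⟨isoOf _ (F.injective_of_mem hg) hr, mem_autGroup_of_hom F hg, hα.restr hle,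
      fun q => he q (le_normalizerIn hQ.1 q.2)⟩
  · have hPlt := IsEssential.lt hN hSN hP
    have hQP : Q ≤ P :=
      IsNormal.le_centricRadical hSN hQn hP.1 (IsEssential.radical hSN hN hP)
    refine autGroup_le_of_pelts hSN hN hP.2.1 hPlt _ (fun σ hσ hp => ?_)
      fun ψ hψ α hext => mem_autGroup_of_hom _ ?_
    · have hσF : σ ∈ F.autGroup P := mem_autGroup_of_hom F (autHom_mem _ hPlt.le hσ).1
      refine mem_autGroup_of_hom _ (hlab hQP σ hσ hPlt.le 1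
        (Lab.of_gen (mem_gen_of_isPEl hS hF (hPlt.le.trans (normalizerIn_le S Q)) hσF hp))
        fun τ hτ he => Ext.of_isPEl hS hF hQ hτ ?_)
      obtain ⟨k, hk⟩ := hp
      have hpow : ∀ (n : ℕ) (q : Q),
          (((σ ^ n) ⟨q, hQP q.2⟩ : P) : Ω) = (((τ ^ n) q : Q) : Ω) := by
        intro n
        induction n with
        | zero => intro q; rfl
        | succ n ihn =>
          intro q
          rw [pow_succ', pow_succ', MulAut.mul_apply, MulAut.mul_apply,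
            ← he ((τ ^ n) q) (hQP ((τ ^ n) q).2)]
          exact congrArg (fun z => ((σ z : P) : Ω)) (Subtype.ext (ihn q))
      refine ⟨k, MulEquiv.ext fun q => Subtype.ext ?_⟩
      rw [← hpow, hk]
      rfl
    · have hlt := lt_normalizerIn hSN hPlt
      have : Finite (normalizerIn (normalizerIn S Q) P) := finite_of_le (normalizerIn_le _ _)
      have hcard : Nat.card P < Nat.card (normalizerIn (normalizerIn S Q) P) := by
        by_contra hge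
        exact hlt.ne (Subgroup.eq_of_le_of_card_ge hlt.le (not_lt.1 hge))
      have e : autHom α = restr hlt.le ψ :=
        MonoidHom.ext fun x => (hext x x.2 (hlt.le x.2)).symm
      rw [e]
      exact restr_mem _ (ih _ hcard ψ hψ) _

/-- A map normalizing `Q` has a label matching its action. -/
theorem exists_matching (hS : IsPGroup p S) (hF : F.IsSaturated p) (hQ : F.IsFullyNormalized Q)
    {D : Subgroup Ω} (hQD : Q ≤ D) (hD : D ≤ normalizerIn S Q) {μ : D →* Ω} (hμ : μ ∈ F.Hom D)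
    (hval : ∀ x, μ x ∈ normalizerIn S Q) {τ : MulAut Q}
    (hτ : ∀ (q : Q) (hq : (q : Ω) ∈ D), μ ⟨q, hq⟩ = ((τ q : Q) : Ω)) :
    ∃ α, Lab F p α μ ∧ Ext F p Q α τ := by
  have hμN : μ ∈ F.normalizerHom Q D := by
    have hle : D ⊔ Q ≤ D := sup_le le_rfl hQD
    refine ⟨hμ, hD, hval, restr hle μ, restr_mem F hμ hle, fun x => rfl, ?_⟩
    ext y
    constructor
    · rintro ⟨x, hx, rfl⟩
      rw [restr_apply]
      refine Eq.mp (congrArg (· ∈ Q) (hτ ⟨x, hx⟩ (hQD hx)).symm) (SetLike.coe_mem _)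
    · intro hy
      refine ⟨⟨((τ⁻¹ ⟨y, hy⟩ : Q) : Ω), Subgroup.mem_sup_right (τ⁻¹ ⟨y, hy⟩).2⟩,
        (τ⁻¹ ⟨y, hy⟩).2, ?_⟩
      exact (hτ (τ⁻¹ ⟨y, hy⟩) _).trans (congrArg Subtype.val (τ.apply_symm_apply ⟨y, hy⟩))
  obtain ⟨-, ψ, -, hext, τ₀, -, hψτ, α, hα, hE⟩ := normalizerSystem_le_match hS hF hQ D hμN
  have e : μ = restr (le_sup_left : D ≤ D ⊔ Q) ψ := MonoidHom.ext fun x => (hext x).symm
  have hττ : τ₀ = τ := MulEquiv.ext fun q => Subtype.ext (by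
    rw [← hψτ q, ← hτ q (hQD q.2)]
    exact (hext ⟨q, hQD q.2⟩))
  subst hττ
  exact ⟨α, e ▸ hα.restr _, hE⟩

/-- An image of the normalizer normalizes the image. -/
theorem apply_mem_normalizerIn {R R' : Subgroup Ω} {ψ : normalizerIn S R →* Ω}
    (hψ : ψ ∈ F.Hom (normalizerIn S R)) (hR : R ≤ S) (h : img ψ R = R') (x : normalizerIn S R) :
    ψ x ∈ normalizerIn S R' := by
  refine ⟨apply_mem hψ x, ?_⟩
  have := finite_of_le hR
  have : Finite R' := finite_of_le (h ▸ (img_le_range ψ R).trans (range_le hψ))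
  exact apply_mem_normalizer (P := R) (Q := R') (ψ := ψ) (φ := restr (le_normalizerIn hR) ψ)
    ((range_restr _ ψ).trans h) (fun _ _ _ => rfl) (le_normalizerIn hR) x.2 x.2.2

/-- The statement proved by induction. -/
def IdLabels (F : FusionSystem S) (p : ℕ) (Q : Subgroup Ω) : Prop :=
  ∀ α, Lab F p α Q.subtype → Ext F p Q α 1

/-- All labels of a normalizing map match its action, given the statement for larger subgroups. -/
theorem matching_of_ind (hS : IsPGroup p S) (hF : F.IsSaturated p) (hQ : F.IsFullyNormalized Q)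
    (hind : ∀ Q' : Subgroup Ω, F.IsFullyNormalized Q' → Nat.card Q < Nat.card Q' → IdLabels F p Q')
    {D : Subgroup Ω} (hQD : Q ≤ D) (hcard : Nat.card Q < Nat.card D) (hD : D ≤ normalizerIn S Q)
    {μ : D →* Ω} (hμ : μ ∈ F.Hom D) (hval : ∀ x, μ x ∈ normalizerIn S Q) {τ : MulAut Q}
    (hτ : ∀ (q : Q) (hq : (q : Ω) ∈ D), μ ⟨q, hq⟩ = ((τ q : Q) : Ω)) {α : MulAut S}
    (hα : Lab F p α μ) : Ext F p Q α τ := by
  have hDS : D ≤ S := hD.trans (normalizerIn_le S Q)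
  suffices hid : ∀ lam, Lab F p lam D.subtype → Ext F p Q lam 1 by
    obtain ⟨α₀, hα₀, hE⟩ := exists_matching hS hF hQ hQD hD hμ hval hτ
    obtain ⟨c, hc, hcr, hcl, -⟩ := exists_inv F hμ rfl
    have h1 : Lab F p (α₀⁻¹ * α) D.subtype :=
      hα.comp hS (hα₀.inv hS rfl hcl) (fun x => ⟨x, rfl⟩) fun x => (hcl x _).symm
    have h2 := hE.mul hS (hid _ h1)
    rwa [mul_inv_cancel_left, mul_one] at h2
  obtain ⟨D₁, hDD₁, hD₁⟩ := exists_fullyNormalized F hDS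
  obtain ⟨ρ, hρ, hρr⟩ := hDD₁
  have hρD : ∀ x, ρ x ∈ D₁ := fun x => hρr ▸ ⟨x, rfl⟩
  set Q₁ := img ρ Q with hQ₁
  have hQ₁D : Q₁ ≤ D₁ := hρr ▸ img_le_range ρ Q
  have hQQ₁ : F.IsConj Q Q₁ := isConj_img F hρ hQD
  have hQ₁S : Q₁ ≤ S := isConj_le_right hQQ₁
  obtain ⟨ψ, hψ, hψval, hψimg⟩ :=
    IsSaturated.exists_normalizer_map hS hF hQ (isConj_symm hQQ₁)
  have hD₁N : D₁ ≤ normalizerIn S Q₁ := by
    intro y hy
    obtain ⟨x, rfl⟩ := hρr.ge hy
    refine ⟨apply_mem hρ x, ?_⟩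
    have := finite_of_le hQ₁S
    refine mem_normalizer_of_finite ?_
    rintro _ ⟨q, hq, rfl⟩
    rw [← map_inv, ← map_mul, ← map_mul]
    exact apply_mem_img ρ _ (conj_mem_of_mem_normalizer (hD x.2).2 hq)
  have hXN : ctr S D₁ ≤ normalizerIn S Q₁ := by
    refine sup_le hD₁N fun c hc => centralizerIn_le_normalizerIn S Q₁ ?_
    exact mem_centralizerIn.2 ⟨(mem_centralizerIn.1 hc).1, fun y hy =>
      (mem_centralizerIn.1 hc).2 y (hQ₁D hy)⟩
  set ψ₁ := restr hXN ψ with hψ₁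
  have hψ₁F : ψ₁ ∈ F.Hom (ctr S D₁) := restr_mem F hψ hXN
  obtain ⟨j, hj⟩ := exists_lab hS hF hψ₁F
  obtain ⟨r, hr⟩ := exists_lab hS hF hρ
  obtain ⟨d, hd, hdr, hdl, hdl'⟩ := exists_inv F hψ₁F rfl
  have hdX : ∀ y, d y ∈ ctr S D₁ := fun y => hdr.le ⟨y, rfl⟩
  obtain ⟨cρ, hcρ, hcρr, hcρl, hcρl'⟩ := exists_inv F hρ hρr
  have hcρD : ∀ y, cρ y ∈ D := fun y => hcρr.le ⟨y, rfl⟩
  -- conjugates of the labels of the identity of `D`
  have hconj : ∀ lam, Lab F p lam D.subtype → Ext F p Q (j * r * lam * (j * r)⁻¹) 1 := by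
    intro lam hlam
    have h1 : Lab F p (r * (lam * r⁻¹)) D₁.subtype :=
      ((hr.inv hS hρr hcρl).comp hS hlam hcρD
          (ρ := compose cρ D.subtype hcρD) fun _ => rfl).comp hS hr
        (fun y => hcρD y) fun y => (hcρl' y _).symm
    have hlt' : Nat.card Q < Nat.card D₁ := by
      rw [← hρr, card_range_eq (F.injective_of_mem hρ)]
      exact hcard
    obtain ⟨χ, hχ, hχl, hχe⟩ := hind D₁ hD₁ hlt' _ h1
    let X' := ψ₁.range
    have hm2 : ∀ y : X', compose d (autHom χ) hdX y ∈ ctr S D₁ := fun y => (χ _).2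
    let c' := compose (compose d (autHom χ) hdX) ψ₁ hm2
    have hc'l : Lab F p (j * (r * (lam * r⁻¹) * j⁻¹)) c' :=
      ((hj.inv hS rfl hdl).comp hS hχl hdX fun _ => rfl).comp hS hj hm2 fun _ => rfl
    have hQX : Q ≤ X' := by
      intro q hq
      obtain ⟨y, hy, rfl⟩ := hψimg.ge hq
      exact ⟨⟨y, le_ctr S D₁ (hQ₁D hy)⟩, rfl⟩
    have hX'N : X' ≤ normalizerIn S Q := by
      rintro _ ⟨x, rfl⟩
      exact hψval _
    obtain ⟨α₀, hα₀, hE⟩ := exists_matching hS hF hQ hQX hX'N hc'l.mem (fun y => hψval _)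
      (τ := 1) fun q hq => by
        obtain ⟨y, hy, hyq⟩ := hψimg.ge q.2
        let y₁ : ctr S D₁ := ⟨y, le_ctr S D₁ (hQ₁D hy)⟩
        have e1 : (⟨(q : Ω), hq⟩ : X') = ⟨ψ₁ y₁, ⟨y₁, rfl⟩⟩ := Subtype.ext hyq.symm
        have e2 : (⟨d ⟨ψ₁ y₁, ⟨y₁, rfl⟩⟩, hdX _⟩ : ctr S D₁) = y₁ := Subtype.ext (hdl y₁ _)
        rw [e1]
        show ψ₁ ⟨autHom χ ⟨d ⟨ψ₁ y₁, _⟩, _⟩, _⟩ = _
        simp only [e2]
        refine Eq.trans (congrArg ψ₁ (Subtype.ext (a2 := y₁) ?_)) hyq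
        exact hχe ⟨y, hQ₁D hy⟩
    have hX'c : F.IsCentric X' :=
      isCentric_of_isConj (ctr_centric (IsSaturated.fullyCentralized hS hF hD₁))
        ⟨ψ₁, hψ₁F, rfl⟩
    refine hE.of_congr hS ?_
    have h3 := Lab.unique hS hX'c hc'l hα₀
    rwa [show j * r * lam * (j * r)⁻¹ = j * (r * (lam * r⁻¹) * j⁻¹) by group]
  -- the composite with the transport
  have hρN : ∀ x, ρ x ∈ ctr S D₁ := fun x => le_ctr S D₁ (hρD x)
  let μ' := compose ρ ψ₁ hρN
  have hμ' : μ' ∈ F.Hom D := compose_mem F hρ hψ₁F hρN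
  have hQimg : img μ' Q = Q := by
    show img (compose ρ ψ₁ hρN) Q = Q
    rw [img_img, hψ₁, img_restr hXN ψ (hQ₁D.trans (le_ctr S D₁)), hψimg]
  have hf : restr hQD μ' ∈ F.Hom Q := restr_mem F hμ' hQD
  obtain ⟨m, hm, hmE⟩ := exists_matching hS hF hQ hQD hD hμ' (fun x => hψval _)
    (τ := isoOf _ (F.injective_of_mem hf) ((range_restr _ _).trans hQimg)) fun q hq => rfl
  have hjr : Lab F p (j * r) μ' := hr.comp hS hj hρN fun _ => rfl
  obtain ⟨cμ, hcμ, -, hcμl, -⟩ := exists_inv F hμ' rfl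
  have hν : Lab F p (m⁻¹ * (j * r)) D.subtype :=
    hjr.comp hS (hm.inv hS rfl hcμl) (fun x => ⟨x, rfl⟩) fun x => (hcμl x _).symm
  set τ' := isoOf _ (F.injective_of_mem hf) ((range_restr _ _).trans hQimg)
  have hνE : Ext F p Q (m⁻¹ * (j * r)) 1 := by
    have h1 := ((hmE.inv hS).mul hS (hconj _ hν)).mul hS hmE
    rwa [show m⁻¹ * (j * r * (m⁻¹ * (j * r)) * (j * r)⁻¹) * m = m⁻¹ * (j * r) by group,
      mul_one, inv_mul_cancel] at h1
  have hjrE : Ext F p Q (j * r) τ' := by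
    have h1 := hmE.mul hS hνE
    rwa [mul_inv_cancel_left, mul_one] at h1
  intro lam hlam
  have h1 := ((hjrE.inv hS).mul hS (hconj _ hlam)).mul hS hjrE
  rwa [show (j * r)⁻¹ * (j * r * lam * (j * r)⁻¹) * (j * r) = lam by group, mul_one,
    inv_mul_cancel] at h1

/-- The maps whose transports to `Q` match the label `1`. -/
def Good (F : FusionSystem S) (p : ℕ) (Q : Subgroup Ω) {P : Subgroup Ω} (φ : P →* Ω) : Prop :=
  ∀ R : Subgroup Ω, R ≤ P → ∀ R' : Subgroup Ω, img φ R = R' →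
    ∀ ψ ∈ F.Hom (normalizerIn S R), img ψ R = Q →
    ∀ ψ' ∈ F.Hom (normalizerIn S R'), img ψ' R' = Q →
    ∀ l l', Lab F p l ψ → Lab F p l' ψ' → ∀ τ : MulAut Q,
      (∀ (x : Ω) (hx : x ∈ P), x ∈ R → ∀ (hN : x ∈ normalizerIn S R)
        (hN' : φ ⟨x, hx⟩ ∈ normalizerIn S R') (hq : ψ ⟨x, hN⟩ ∈ Q),
        ((τ ⟨ψ ⟨x, hN⟩, hq⟩ : Q) : Ω) = ψ' ⟨φ ⟨x, hx⟩, hN'⟩) →
      Ext F p Q (l' * l⁻¹) τ

/-- Restrictions of maps on centric subgroups with label `1` are good. -/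
theorem good_of_centric (hS : IsPGroup p S) (hF : F.IsSaturated p) (hQ : F.IsFullyNormalized Q)
    (hind : ∀ Q' : Subgroup Ω, F.IsFullyNormalized Q' → Nat.card Q < Nat.card Q' → IdLabels F p Q')
    (hnc : ¬ F.IsCentric Q) {P W : Subgroup Ω} (hPW : P ≤ W) (hW : F.IsCentric W) {χ : W →* Ω}
    (hχ : Lab F p 1 χ) : Good F p Q (restr hPW χ) := by
  intro R hRP R' hR' ψ hψ hψR ψ' hψ' hψR' l l' hl hl' τ hτ
  have hRW : R ≤ W := hRP.trans hPW
  have hRS : R ≤ S := hRW.trans hW.1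
  have hne : R ≠ W := by
    rintro rfl
    exact hnc (isCentric_of_isConj hW (hψR ▸ isConj_img F hψ (le_normalizerIn hW.1)))
  have := finite_of_le hW.1
  have hlt := lt_normalizerIn (hS.to_le hW.1) (lt_of_le_of_ne hRW hne) (S := W)
  set D := normalizerIn W R with hD
  have hDN : D ≤ normalizerIn S R := fun g hg => ⟨hW.1 hg.1, hg.2⟩
  have hDW : D ≤ W := normalizerIn_le W R
  set ψ₀ := restr hDN ψ with hψ₀
  have hψ₀F : ψ₀ ∈ F.Hom D := restr_mem F hψ hDN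
  obtain ⟨c, hc, hcr, hcl, hcl'⟩ := exists_inv F hψ₀F rfl
  have hcD : ∀ y, c y ∈ W := fun y => hDW (hcr.le ⟨y, rfl⟩)
  have hR'S : R' ≤ S := hR' ▸ (img_le_range _ R).trans (range_le (restr_mem F hχ.mem hPW))
  have hval : ∀ y, compose c χ hcD y ∈ normalizerIn S R' := by
    intro y
    obtain ⟨g, hg⟩ : ∃ g : D, (g : Ω) = c y := ⟨⟨c y, hcr.le ⟨y, rfl⟩⟩, rfl⟩
    refine ⟨apply_mem hχ.mem _, ?_⟩
    have := finite_of_le hR'S
    refine mem_normalizer_of_finite fun z hz => ?_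
    rw [← hR'] at hz ⊢
    obtain ⟨x, hx, rfl⟩ := hz
    show χ ⟨c y, _⟩ * χ ⟨x, hPW x.2⟩ * (χ ⟨c y, _⟩)⁻¹ ∈ _
    rw [← map_inv, ← map_mul, ← map_mul]
    have hmem : c y * (x : Ω) * (c y)⁻¹ ∈ R := by
      rw [← hg]
      exact conj_mem_of_mem_normalizer g.2.2 hx
    exact ⟨⟨_, hRP hmem⟩, hmem, rfl⟩
  let μ := compose (compose c χ hcD) ψ' hval
  have hμ : Lab F p (l' * (1 * l⁻¹)) μ :=
    (((hl.restr hDN).inv hS rfl hcl).comp hS hχ hcD fun _ => rfl).comp hS hl' hval fun _ => rfl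
  rw [one_mul] at hμ
  have hRD : R ≤ D := le_normalizerIn hRW
  have hQD : Q ≤ ψ₀.range := by
    intro q hq
    obtain ⟨x, hx, rfl⟩ := hψR.ge hq
    exact ⟨⟨x, hRD hx⟩, rfl⟩
  have hψN : ∀ x, ψ x ∈ normalizerIn S Q := fun x => apply_mem_normalizerIn hψ hRS hψR x
  refine matching_of_ind hS hF hQ hind hQD ?_ ?_ hμ.mem
    (fun y => apply_mem_normalizerIn hψ' hR'S hψR' _) ?_ hμ
  · have := finite_of_le (hDW.trans hW.1)
    rw [card_range_eq (F.injective_of_mem hψ₀F), ← hψR, card_img (F.injective_of_mem hψ)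
      (le_normalizerIn hRS)]
    by_contra hge
    exact hlt.ne (Subgroup.eq_of_le_of_card_ge hlt.le (not_lt.1 hge))
  · rintro _ ⟨x, rfl⟩
    exact hψN _
  · intro q hq
    obtain ⟨x, hx, hxq⟩ := hψR.ge q.2
    let x₀ : D := ⟨x, hRD hx⟩
    have e1 : (⟨(q : Ω), hq⟩ : ψ₀.range) = ⟨ψ₀ x₀, ⟨x₀, rfl⟩⟩ := Subtype.ext hxq.symm
    rw [e1]
    show ψ' ⟨χ ⟨c ⟨ψ₀ x₀, _⟩, _⟩, _⟩ = _
    have hN' : restr hPW χ ⟨x, hRP hx⟩ ∈ normalizerIn S R' :=
      le_normalizerIn hR'S (hR' ▸ apply_mem_img _ _ hx)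
    refine Eq.trans (congrArg ψ' (Subtype.ext (a2 := ⟨restr hPW χ ⟨x, hRP hx⟩, hN'⟩)
      (congrArg χ (Subtype.ext (hcl x₀ _))))) ?_
    have h1 := hτ x (hRP hx) hx x.2 hN' (hxq ▸ q.2)
    rw [show (⟨ψ ⟨x, x.2⟩, hxq ▸ q.2⟩ : Q) = q from Subtype.ext hxq] at h1
    exact h1.symm

/-- The good maps. -/
def goodSystem (hS : IsPGroup p S) (hF : F.IsSaturated p) (hQ : F.IsFullyNormalized Q)
    (hind : ∀ Q' : Subgroup Ω, F.IsFullyNormalized Q' → Nat.card Q < Nat.card Q' → IdLabels F p Q')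
    (hnc : ¬ F.IsCentric Q) : FusionSystem S where
  Hom P := {φ | φ ∈ F.Hom P ∧ Good F p Q φ}
  le_of_mem h := F.le_of_mem h.1
  injective_of_mem h := F.injective_of_mem h.1
  conj_mem {P g} hP hg := ⟨F.conj_mem hP hg, good_of_centric hS hF hQ hind hnc (χ := conjHom S g)
    hP ⟨le_rfl, fun R hR => by
      obtain ⟨φ, hφ, rfl⟩ := hR
      have : φ.range = S := Subgroup.eq_of_le_of_card_ge (range_le hφ)
        (card_range_eq (F.injective_of_mem hφ)).ge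
      rw [this]
      exact centralizerIn_le S S⟩ (Lab.of_gen ((gen F p).conj_mem le_rfl hg))⟩
  comp_mem {P P' φ χ} hφ hχ h := by
    obtain ⟨hφF, hgφ⟩ := hφ
    obtain ⟨hχF, hgχ⟩ := hχ
    refine ⟨F.comp_mem hφF hχF h, fun R hRP R'' hR'' ψ hψ hψR ψ'' hψ'' hψR'' l l'' hl hl'' τ hτ => ?_⟩
    set φR := restr hRP φ with hφR
    set R' := φR.range with hR'
    have hR'P : R' ≤ P' := by
      rintro _ ⟨x, rfl⟩
      exact h _
    have hconj : F.IsConj R' Q := by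
      refine isConj_trans (isConj_symm ⟨φR, restr_mem F hφF hRP, rfl⟩) (hψR ▸ ?_)
      exact isConj_img F hψ (le_normalizerIn ((hRP.trans (source_le hφF))))
    obtain ⟨ψm, hψm, -, hψmR⟩ := IsSaturated.exists_normalizer_map hS hF hQ hconj
    obtain ⟨lm, hlm⟩ := exists_lab hS hF hψm
    set χR := restr hR'P χ
    have hRR : χR.range = R'' := by
      rw [range_restr, hR', hφR, range_restr, ← img_img φ χ h]
      exact hR''
    subst hRR
    obtain ⟨τ₁, -, H₁⟩ := exists_transport (restr_mem F hφF hRP) hψ hψR hψm hψmR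
    obtain ⟨τ₂, -, H₂⟩ := exists_transport (restr_mem F hχF hR'P) hψm hψmR hψ'' hψR''
    have g₁ := hgφ R hRP R' (range_restr hRP φ).symm ψ hψ hψR ψm hψm hψmR l lm hl hlm τ₁
      fun x hx hxR hN hN' hq => H₁ ⟨x, hxR⟩ hN hN' hq
    have g₂ := hgχ R' hR'P χR.range (range_restr hR'P χ).symm ψm hψm hψmR ψ'' hψ'' hψR'' lm l''
      hlm hl'' τ₂ fun x hx hxR hN hN' hq => H₂ ⟨x, hxR⟩ hN hN' hq
    have e : τ = τ₂ * τ₁ := by
      refine MulEquiv.ext fun y => Subtype.ext ?_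
      obtain ⟨x, hxR, hxy⟩ := hψR.ge y.2
      have hy : y = ⟨ψ x, hxy ▸ y.2⟩ := Subtype.ext hxy.symm
      have hm : φR ⟨x, hxR⟩ ∈ normalizerIn S R' :=
        le_normalizerIn (range_le (restr_mem F hφF hRP)) ⟨_, rfl⟩
      have hmQ : ψm ⟨φR ⟨x, hxR⟩, hm⟩ ∈ Q :=
        hψmR ▸ apply_mem_img ψm _ (R := R') ⟨⟨x, hxR⟩, rfl⟩
      have hn : χR ⟨φR ⟨x, hxR⟩, ⟨_, rfl⟩⟩ ∈ normalizerIn S χR.range :=
        le_normalizerIn (range_le (restr_mem F hχF hR'P)) ⟨_, rfl⟩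
      rw [hy, hτ x (hRP hxR) hxR x.2 hn _, MulAut.mul_apply,
        show τ₁ ⟨ψ x, hxy ▸ y.2⟩ = ⟨ψm ⟨φR ⟨x, hxR⟩, hm⟩, hmQ⟩ from
          Subtype.ext (H₁ ⟨x, hxR⟩ x.2 hm _)]
      exact (H₂ ⟨φR ⟨x, hxR⟩, ⟨_, rfl⟩⟩ hm hn hmQ).symm
    rw [e, show l'' * l⁻¹ = l'' * lm⁻¹ * (lm * l⁻¹) by group]
    exact g₂.mul hS g₁
  inv_mem {P φ} hφ := by
    obtain ⟨hφF, hgφ⟩ := hφ
    obtain ⟨c, hc, hcr, hl, hl'⟩ := exists_inv F hφF rfl
    refine ⟨c, ⟨hc, fun R hR R' hR' ψ hψ hψR ψ' hψ' hψR' l l' hl₁ hl₂ τ hτ => ?_⟩, fun x => hl x _⟩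
    have hR'P : R' ≤ P := hR' ▸ (img_le_range c R).trans hcr.le
    have himg : img φ R' = R := by
      ext z
      constructor
      · rintro ⟨y, hy, rfl⟩
        have hy' : (y : Ω) ∈ img c R := hR' ▸ hy
        obtain ⟨w, hw, hwy⟩ := hy'
        have : φ y = w := by
          have e : y = ⟨c w, hwy ▸ y.2⟩ := Subtype.ext hwy.symm
          rw [e]
          exact hl' w _
        rw [this]
        exact hw
      · intro hz
        obtain ⟨y, hy⟩ := hR hz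
        have hcy : c ⟨z, hR hz⟩ = (y : Ω) := by
          simp only [← hy]
          exact hl y _
        exact ⟨y, hR' ▸ ⟨⟨z, hR hz⟩, hz, hcy⟩, hy⟩
    have g := hgφ R' hR'P R himg ψ' hψ' hψR' ψ hψ hψR l' l hl₂ hl₁ τ⁻¹
      fun x hx hxR hN hN' hq => by
        have hq' : ψ ⟨φ ⟨x, hx⟩, hN'⟩ ∈ Q :=
          hψR ▸ apply_mem_img ψ _ (himg ▸ apply_mem_img φ ⟨x, hx⟩ hxR)
        have hxc : c ⟨φ ⟨x, hx⟩, ⟨_, rfl⟩⟩ = x := hl ⟨x, hx⟩ _
        have hN'' : c ⟨φ ⟨x, hx⟩, ⟨_, rfl⟩⟩ ∈ normalizerIn S R' := by rw [hxc]; exact hN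
        have h1 := hτ (φ ⟨x, hx⟩) ⟨_, rfl⟩ (himg ▸ apply_mem_img φ ⟨x, hx⟩ hxR) hN' hN'' hq'
        simp only [hxc] at h1
        have h2 : τ ⟨ψ ⟨φ ⟨x, hx⟩, hN'⟩, hq'⟩ = ⟨ψ' ⟨x, hN⟩, hq⟩ := Subtype.ext h1
        rw [← h2, MulAut.inv_apply, MulEquiv.symm_apply_apply]
    have := g.inv hS
    rwa [inv_inv, show (l * l'⁻¹)⁻¹ = l' * l⁻¹ by group] at this

/-- The labels of the identity of a fully normalized subgroup. -/
theorem idLabels (hS : IsPGroup p S) (hF : F.IsSaturated p) (hQ : F.IsFullyNormalized Q) :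
    IdLabels F p Q := by
  suffices key : ∀ n, ∀ Q : Subgroup Ω, F.IsFullyNormalized Q → Nat.card S ≤ Nat.card Q + n →
      IdLabels F p Q from key (Nat.card S) Q hQ (Nat.le_add_left _ _)
  intro n
  induction n using Nat.strong_induction_on with
  | _ n ih =>
  intro Q hQ hn α hα
  by_cases hc : F.IsCentric Q
  · have hX : ctr S Q = Q := sup_eq_left.2 (hc.2 Q (isConj_refl F hQ.1))
    have key : ∀ X : Subgroup Ω, X = Q → Lab F p α X.subtype := by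
      rintro X rfl
      exact hα
    exact ⟨1, one_mem _, key _ hX, fun _ => rfl⟩
  have hind : ∀ Q' : Subgroup Ω, F.IsFullyNormalized Q' → Nat.card Q < Nat.card Q' →
      IdLabels F p Q' := fun Q' hQ' hlt => by
    have := Subgroup.card_le_of_le hQ'.1
    exact ih (Nat.card S - Nat.card Q') (by omega) Q' hQ' (by omega)
  obtain ⟨hαA, b, hb, -, e, he, hex⟩ := hα
  have hgen : GenProp F p (goodSystem hS hF hQ hind hc) := fun R hR τ hτ hp =>
    ⟨autHom_mem F hR.1 hτ, good_of_centric hS hF hQ hind hc le_rfl hR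
      (Lab.of_gen (genProp_gen F p R hR τ hτ hp))⟩
  obtain ⟨-, hgood⟩ := gen_le_of hgen Q he
  set R' := img e Q with hR'
  have hR'S : R' ≤ S := (img_le_range e Q).trans (range_le he)
  have hαb : α * b ∈ F.autGroup S := mul_mem hαA (baseAut_le hb)
  have himg : img (restr (normalizerIn_le S R') (autHom (α * b))) R' = Q := by
    rw [img_restr _ _ (le_normalizerIn hR'S)]
    ext y
    constructor
    · rintro ⟨z, ⟨q, -, hqz⟩, rfl⟩
      have h1 := hex q (hqz ▸ z.2)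
      have h2 : (⟨e q, hqz ▸ z.2⟩ : S) = z := Subtype.ext hqz
      rw [h2] at h1
      exact h1 ▸ q.2
    · intro hy
      exact ⟨⟨e ⟨y, hy⟩, apply_mem he _⟩, apply_mem_img e ⟨y, hy⟩ hy, (hex ⟨y, hy⟩ _).symm⟩
  have := hgood Q le_rfl R' rfl (normalizerIn S Q).subtype
    (subtype_mem F (normalizerIn_le S Q))
    (Subgroup.map_subgroupOf_eq_of_le (le_normalizerIn hQ.1))
    (restr (normalizerIn_le S R') (autHom (α * b)))
    (restr_mem F (autHom_mem F le_rfl hαb) _) himg 1 (α * b)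
    (Lab.of_gen (subtype_mem _ (normalizerIn_le S Q))) ((Lab.autHom_self hαb).restr _) 1
    fun x hx _ hN hN' hq => hex ⟨x, hx⟩ _
  rw [inv_one, mul_one] at this
  exact this.of_congr hS (by rw [show (α * b)⁻¹ * α = b⁻¹ by group]; exact inv_mem hb)

end Cfsg.Agent.Lib.Fusion.PrimeIndex
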