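import Cfsg.Agent.Lib.Fusion.PrimeIndex.StrongTwist

/-!
A normal subsystem centralizes the focal subgroup of the centralizer system of its base.
-/

set_option autoImplicit false
set_option linter.unusedSectionVars false

namespace Cfsg.Agent.Lib.Fusion.PrimeIndex

open Cfsg Cfsg.FusionSystem

variable {Ω : Type*} [Group Ω] {S T : Subgroup Ω} {p : ℕ} [Fact p.Prime] [Finite S]
  {F : FusionSystem S} {E : FusionSystem T}

theorem inCtr_conj {P : Subgroup Ω} {z u : Ω} (hz : z ∈ P) (hu : u ∈ centralizerIn S P) :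
    u * z = z * u := by
  have := (mem_centralizerIn_iff_conj.1 hu).2 z hz
  calc u * z = u * z * u⁻¹ * u := by group
    _ = z * u := by rw [this]

/-- The maps moving each element only within `K`, when `K` contains the commutators. -/
def moveSystem {U : Subgroup Ω} (C : FusionSystem U) (K : Subgroup Ω)
    (hcomm : ∀ g ∈ U, ∀ x ∈ U, x⁻¹ * (g * x * g⁻¹) ∈ K) : FusionSystem U where
  Hom P := {φ | φ ∈ C.Hom P ∧ ∀ x : P, (x : Ω)⁻¹ * φ x ∈ K}
  le_of_mem h := C.le_of_mem h.1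
  injective_of_mem h := C.injective_of_mem h.1
  conj_mem hP hg := ⟨C.conj_mem hP hg, fun x => hcomm _ hg _ (hP x.2)⟩
  comp_mem {P Q φ χ} hφ hχ h := ⟨C.comp_mem hφ.1 hχ.1 h, fun x => by
    have h1 := K.mul_mem (hφ.2 x) (hχ.2 ⟨φ x, h x⟩)
    rwa [show (x : Ω)⁻¹ * φ x * ((φ x)⁻¹ * χ ⟨φ x, h x⟩) = (x : Ω)⁻¹ * χ ⟨φ x, h x⟩ by group] at h1⟩
  inv_mem {P φ} hφ := by
    obtain ⟨c, hc, -, hl, -⟩ := exists_inv C hφ.1 rfl
    refine ⟨c, ⟨hc, ?_⟩, fun x => hl x _⟩
    rintro ⟨_, x, rfl⟩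
    have h1 := K.inv_mem (hφ.2 x)
    rw [mul_inv_rev, inv_inv] at h1
    exact (congrArg (fun w => (φ x)⁻¹ * w ∈ K) (hl x ⟨x, rfl⟩)).mpr h1

/-- A `p`-power of an automorphism of `P C_S(P)` trivial modulo `P` fixes the focal subgroup of
`C_F(P)`. -/
theorem fix_focal (hS : IsPGroup p S) (hF : F.IsSaturated p) {P : Subgroup Ω}
    (hP : F.IsFullyCentralized P) {a : MulAut (ctr S P)} (ha : a ∈ F.autGroup (ctr S P))
    (haP : ∀ y : ctr S P, (y : Ω)⁻¹ * ((a y : _) : Ω) ∈ P) :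
    ∀ y ∈ (centralizerSystem F P hP.1).focalSubgroup, ∀ h : y ∈ ctr S P,
      (a ^ Nat.card S) ⟨y, h⟩ = ⟨y, h⟩ := by
  set U := centralizerIn S P with hU
  set C := centralizerSystem F P hP.1
  set k := Nat.card S
  have := finite_of_le (centralizerIn_le S P)
  have := finite_of_le (ctr_le (S := S) hP.1)
  have := finite_of_le hP.1
  have hUp := hS.to_le (centralizerIn_le S P)
  have hCs : C.IsSaturated p :=
    centralizerSystem_isSaturated hS hF hP (centralizerSystem_spec F P hP.1)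
  have hUc : U ≤ ctr S P := le_sup_right
  have hmap : ∀ y : ctr S P, (y : Ω) ∈ U → ((a y : _) : Ω) ∈ U := by
    intro y hy
    refine mem_centralizerIn_iff_conj.2 ⟨ctr_le hP.1 (a y).2, fun x hx => ?_⟩
    obtain ⟨w, hw⟩ := a.surjective ⟨x, le_ctr S P hx⟩
    have hwP : (w : Ω) ∈ P := by
      have h1 := haP w
      rw [hw] at h1
      have h2 := P.mul_mem hx (P.inv_mem h1)
      rwa [show x * ((w : Ω)⁻¹ * x)⁻¹ = w by group] at h2
    have e : y * w * y⁻¹ = w := Subtype.ext ((mem_centralizerIn_iff_conj.1 hy).2 w hwP)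
    have h1 := congrArg (fun z => ((a z : _) : Ω)) e
    simp only [map_mul, map_inv, hw, Subgroup.coe_mul, Subgroup.coe_inv] at h1
    exact h1
  have hd : ∀ y : ctr S P, (y : Ω) ∈ U → (y : Ω)⁻¹ * ((a y : _) : Ω) ∈ U := fun y hy =>
    U.mul_mem (U.inv_mem hy) (hmap y hy)
  -- a single step
  let J : Subgroup Ω := (MonoidHom.eqLocus a.toMonoidHom (MonoidHom.id _)).map (ctr S P).subtype
  let K : Subgroup Ω :=
    (MonoidHom.eqLocus (a ^ k).toMonoidHom (MonoidHom.id _)).map (ctr S P).subtype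
  have hJ : ∀ g ∈ U, ∀ x ∈ U, x⁻¹ * (g * x * g⁻¹) ∈ J := by
    intro g hg x hx
    refine ⟨⟨_, hUc (U.mul_mem (U.inv_mem hx) (U.mul_mem (U.mul_mem hg hx) (U.inv_mem hg)))⟩, ?_, rfl⟩
    let g' : ctr S P := ⟨g, hUc hg⟩
    let x' : ctr S P := ⟨x, hUc hx⟩
    show a (x'⁻¹ * (g' * x' * g'⁻¹)) = x'⁻¹ * (g' * x' * g'⁻¹)
    refine Subtype.ext ?_
    rw [map_mul, map_mul, map_mul, map_inv, map_inv]
    simp only [Subgroup.coe_mul, Subgroup.coe_inv]
    have eg := inCtr_conj (haP g') hg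
    have ex := inCtr_conj (haP x') hx
    have egx := inCtr_conj (haP g') hx
    have exg := inCtr_conj (haP x') hg
    have hdd := inCtr_conj (haP g') (hd x' hx)
    have e1 : ((a g' : _) : Ω) = g * (g⁻¹ * ((a g' : _) : Ω)) := (mul_inv_cancel_left _ _).symm
    have e2 : ((a x' : _) : Ω) = x * (x⁻¹ * ((a x' : _) : Ω)) := (mul_inv_cancel_left _ _).symm
    have exm := inCtr_conj (haP x')
      (U.mul_mem (U.mul_mem (U.mul_mem (U.inv_mem hx) hg) hx) (U.inv_mem hg))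
    rw [e1, e2]
    generalize g⁻¹ * ((a g' : _) : Ω) = z₁ at eg egx hdd ⊢
    generalize hz₂ : x⁻¹ * ((a x' : _) : Ω) = z₂ at ex exg exm hdd ⊢
    calc (x * z₂)⁻¹ * (g * z₁ * (x * z₂) * (g * z₁)⁻¹)
        = z₂⁻¹ * x⁻¹ * g * ((z₁ * x) * z₂ * z₁⁻¹) * g⁻¹ := by group
      _ = z₂⁻¹ * x⁻¹ * g * (x * (z₁ * z₂) * z₁⁻¹) * g⁻¹ := by rw [← egx]; group
      _ = z₂⁻¹ * x⁻¹ * g * (x * (z₂ * z₁) * z₁⁻¹) * g⁻¹ := by rw [hdd]
      _ = z₂⁻¹ * x⁻¹ * g * x * (g⁻¹ * (g * z₂)) * g⁻¹ := by group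
      _ = z₂⁻¹ * x⁻¹ * g * x * (g⁻¹ * (z₂ * g)) * g⁻¹ := by rw [exg]
      _ = z₂⁻¹ * (x⁻¹ * g * x * g⁻¹ * z₂) := by group
      _ = x⁻¹ * (g * x * g⁻¹) := by rw [exm]; group
  have hJK : J ≤ K := by
    rintro _ ⟨y, hy, rfl⟩
    refine ⟨y, ?_, rfl⟩
    show (a ^ k) y = y
    have : ∀ j : ℕ, (a ^ j) y = y := by
      intro j
      induction j with
      | zero => simp
      | succ j ih => rw [pow_succ', MulAut.mul_apply, ih]; exact hy
    exact this k
  have hCE : C ≤ moveSystem C K fun g hg x hx => hJK (hJ g hg x hx) := by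
    refine alperin hUp hCs _ fun Q hQ φ hφ => ?_
    have hQn : C.IsFullyNormalized Q := by
      rcases hQ with rfl | hess
      · exact isFullyNormalized_top C
      · exact hess.2.1
    have hQU : Q ≤ U := hQn.1
    have hZQ : U ⊓ P ≤ Q := by
      rcases hQ with rfl | hess
      · exact inf_le_left
      · exact fun z hz => hess.1.2 Q (isConj_refl C hQU) (mem_centralizerIn.2 ⟨hz.1,
          fun x hx => inCtr_conj hz.2 (hQU hx)⟩)
    refine mem_autGroup_of_hom _ ⟨autHom_mem C hQU hφ, fun x => ?_⟩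
    show (x : Ω)⁻¹ * ((φ x : Q) : Ω) ∈ K
    set R := Q ⊔ P with hR
    obtain ⟨hφF, -, -, φ', hφ', hext, hfix⟩ := autHom_mem C hQU hφ
    have hRc : R ≤ ctr S P := sup_le (hQU.trans hUc) (le_ctr S P)
    have := finite_of_le (hRc.trans (ctr_le hP.1))
    have hφQ : ∀ y : R, (y : Ω) ∈ Q → φ' y ∈ Q := fun y hy => by
      rw [show φ' y = ((φ ⟨y, hy⟩ : Q) : Ω) from hext ⟨y, hy⟩]
      exact SetLike.coe_mem _
    have hφr : φ'.range = R := by
      refine Subgroup.eq_of_le_of_card_ge ?_ (card_range_eq (F.injective_of_mem hφ')).ge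
      rw [← img_self, img_sup φ' le_sup_left le_sup_right]
      refine sup_le_sup ?_ ?_
      · rintro _ ⟨y, hy, rfl⟩
        exact hφQ y hy
      · rintro _ ⟨y, hy, rfl⟩
        rw [show φ' y = (y : Ω) from hfix ⟨y, hy⟩]
        exact hy
    set φR : MulAut R := isoOf φ' (F.injective_of_mem hφ') hφr with hφR
    have haR : ∀ y : R, ((a ⟨y, hRc y.2⟩ : _) : Ω) ∈ R := fun y => by
      rw [← mul_inv_cancel_left (y : Ω) ((a ⟨y, hRc y.2⟩ : _) : Ω)]
      exact R.mul_mem y.2 (Subgroup.mem_sup_right (haP ⟨y, hRc y.2⟩))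
    have hah := restr_mem F (autHom_mem F (ctr_le hP.1) ha) hRc
    have har : (restr hRc (autHom a)).range = R := by
      refine Subgroup.eq_of_le_of_card_ge ?_ (card_range_eq (F.injective_of_mem hah)).ge
      rintro _ ⟨y, rfl⟩
      exact haR y
    set aR : MulAut R := isoOf _ (F.injective_of_mem hah) har with haRd
    have haQ : ∀ y : R, (y : Ω) ∈ Q → ((aR y : R) : Ω) ∈ Q := fun y hy => by
      show ((a ⟨y, hRc y.2⟩ : _) : Ω) ∈ Q
      rw [← mul_inv_cancel_left (y : Ω) ((a ⟨y, hRc y.2⟩ : _) : Ω)]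
      exact Q.mul_mem hy (hZQ ⟨hd ⟨y, hRc y.2⟩ (hQU hy), haP ⟨y, hRc y.2⟩⟩)
    have haPR : ∀ y : R, (y : Ω) ∈ P → ((aR y : R) : Ω) ∈ P := fun y hy => by
      show ((a ⟨y, hRc y.2⟩ : _) : Ω) ∈ P
      rw [← mul_inv_cancel_left (y : Ω) ((a ⟨y, hRc y.2⟩ : _) : Ω)]
      exact P.mul_mem hy (haP ⟨y, hRc y.2⟩)
    -- `κ = φ⁻¹ a φ a⁻¹`
    set κ : MulAut R := φR⁻¹ * (aR * φR * aR⁻¹) with hκ
    have hκF : κ ∈ F.autGroup R := mul_mem (inv_mem (mem_autGroup_of_hom F hφ'))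
      (mul_mem (mul_mem (mem_autGroup_of_hom F hah) (mem_autGroup_of_hom F hφ'))
        (inv_mem (mem_autGroup_of_hom F hah)))
    have hφfix : ∀ y : R, (y : Ω) ∈ P → φR y = y := fun y hy => Subtype.ext (hfix ⟨y, hy⟩)
    have hκa : ∀ y : R, φR (κ (aR y)) = aR (φR y) := by
      intro y
      rw [hκ, MulAut.mul_apply, MulAut.inv_apply, MulEquiv.apply_symm_apply, MulAut.mul_apply,
        MulAut.mul_apply, MulAut.inv_apply, MulEquiv.symm_apply_apply]
    have hκP : ∀ y : R, (y : Ω) ∈ P → κ y = y := by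
      intro y hy
      obtain ⟨w, rfl⟩ := aR.surjective y
      have hw : (w : Ω) ∈ P := by
        have h1 := haP ⟨w, hRc w.2⟩
        have h2 := P.mul_mem hy (P.inv_mem h1)
        rwa [show ((aR w : R) : Ω) * ((w : Ω)⁻¹ * ((a ⟨w, hRc w.2⟩ : _) : Ω))⁻¹ = (w : Ω) by
          rw [haRd, isoOf_coe]; show ((a ⟨w, hRc w.2⟩ : _) : Ω) * _ = _; group] at h2
      refine φR.injective ?_
      rw [hκa, hφfix w hw, hφfix _ hy]
    have hinvQ : ∀ (g : MulAut R), (∀ y : R, (y : Ω) ∈ Q → ((g y : R) : Ω) ∈ Q) →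
        ∀ y : R, (y : Ω) ∈ Q → ((g⁻¹ y : R) : Ω) ∈ Q := by
      intro g hg y hy
      have hsurj : Function.Surjective (fun q : Q =>
          (⟨((g ⟨q, Subgroup.mem_sup_left q.2⟩ : R) : Ω), hg _ q.2⟩ : Q)) := by
        have := finite_of_le hQn.1
        refine Finite.surjective_of_injective fun u v huv => ?_
        exact Subtype.ext (congrArg (fun z : R => (z : Ω))
          (g.injective (Subtype.ext (congrArg (fun z : Q => (z : Ω)) huv))))
      obtain ⟨q, hq⟩ := hsurj ⟨y, hy⟩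
      have : g⁻¹ y = ⟨q, Subgroup.mem_sup_left q.2⟩ := by
        rw [MulAut.inv_apply, MulEquiv.symm_apply_eq]
        exact Subtype.ext (congrArg (fun z : Q => (z : Ω)) hq).symm
      rw [this]
      exact q.2
    have hκQ : ∀ y : R, (y : Ω) ∈ Q → ((κ y : R) : Ω) ∈ Q := fun y hy =>
      hinvQ φR (fun y hy => hφQ y hy) _ (haQ _ (hφQ _ (hinvQ aR haQ y hy)))
    have hκh := autHom_mem F (hRc.trans (ctr_le hP.1)) hκF
    have hQR : Q ≤ R := le_sup_left
    have hκr : (restr hQR (autHom κ)).range = Q := by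
      have := finite_of_le hQn.1
      refine Subgroup.eq_of_le_of_card_ge ?_
        (card_range_eq (F.injective_of_mem (restr_mem F hκh hQR))).ge
      rintro _ ⟨y, rfl⟩
      exact hκQ _ y.2
    have hκC : restr hQR (autHom κ) ∈ C.Hom Q :=
      ⟨restr_mem F hκh hQR, hQU, fun y => hQU (hκQ _ y.2), autHom κ, hκh, fun y => rfl,
        fun y => congrArg Subtype.val (hκP ⟨y, Subgroup.mem_sup_right y.2⟩ y.2)⟩
    have hκmod : ∀ y : R, (y : Ω)⁻¹ * ((κ y : R) : Ω) ∈ P := by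
      intro y
      obtain ⟨w, rfl⟩ := aR.surjective y
      -- modulo `P`: `φ κ a w = a φ w`
      let d : R := ⟨_, Subgroup.mem_sup_right (haP ⟨w, hRc w.2⟩)⟩
      let d' : R := ⟨_, Subgroup.mem_sup_right (haP ⟨φR w, hRc (φR w).2⟩)⟩
      have e1 : aR w = w * d := Subtype.ext (mul_inv_cancel_left _ _).symm
      have e2 : aR (φR w) = φR w * d' := Subtype.ext (mul_inv_cancel_left _ _).symm
      have e3 : κ (aR w) = w * d' := φR.injective (by
        rw [hκa, e2, map_mul, hφfix d' (haP ⟨φR w, hRc (φR w).2⟩)])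
      rw [e3, e1, Subgroup.coe_mul, Subgroup.coe_mul, mul_inv_rev, mul_assoc, inv_mul_cancel_left]
      exact P.mul_mem (P.inv_mem (haP _)) (haP _)
    obtain ⟨u, hu, hue⟩ := stab_eq_conj hS hF hP hQn (mem_autGroup_of_hom C
      (α := isoOf _ (C.injective_of_mem hκC) hκr) hκC) fun y => hκmod ⟨y, hQR y.2⟩
    -- the moved elements
    set w : Ω := (x : Ω)⁻¹ * ((φ x : Q) : Ω) with hw
    have hwU : w ∈ U := U.mul_mem (U.inv_mem (hQU x.2)) (hQU (φ x).2)
    let x' : ctr S P := ⟨x, hUc (hQU x.2)⟩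
    let y' : ctr S P := ⟨((φ x : Q) : Ω), hUc (hQU (φ x).2)⟩
    set g₀ : Ω := (x : Ω)⁻¹ * (u * (x : Ω) * u⁻¹) with hg₀
    have hg₀P : g₀ ∈ P := by
      rw [hg₀, ← hue x]
      exact hκmod ⟨x, hQR x.2⟩
    have key : ((a y' : _) : Ω) = ((φ x : Q) : Ω) * g₀ * ((x : Ω)⁻¹ * ((a x' : _) : Ω)) := by
      let xR : R := ⟨x, hQR x.2⟩
      let dR : R := ⟨_, Subgroup.mem_sup_right (haP x')⟩
      let gR : R := ⟨g₀, Subgroup.mem_sup_right hg₀P⟩
      have e1 : aR xR = xR * dR := Subtype.ext (mul_inv_cancel_left _ _).symm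
      have e2 : κ xR = xR * gR := Subtype.ext ((hue x).trans (mul_inv_cancel_left _ _).symm)
      have h1 := hκa xR
      rw [e1, map_mul, hκP dR (haP x'), e2, map_mul, map_mul, hφfix gR hg₀P,
        hφfix dR (haP x')] at h1
      have h2 := congrArg (fun z : R => (z : Ω)) h1
      simp only [Subgroup.coe_mul] at h2
      have e3 : ((φR xR : R) : Ω) = ((φ x : Q) : Ω) := hext x
      rw [e3] at h2
      refine Eq.trans ?_ h2.symm
      show ((a y' : _) : Ω) = ((a ⟨φR xR, hRc (φR xR).2⟩ : _) : Ω)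
      exact congrArg (fun z => ((a z : _) : Ω)) (Subtype.ext e3.symm)
    have hgJ : g₀ ∈ J := hJ u hu x (hQU x.2)
    have hw' : w ∈ ctr S P := hUc hwU
    have hg₀c : g₀ ∈ ctr S P := le_ctr S P hg₀P
    have hgfix : a ⟨g₀, hg₀c⟩ = ⟨g₀, hg₀c⟩ := by
      obtain ⟨z, hz, hzg⟩ := hgJ
      rwa [show (⟨g₀, hg₀c⟩ : ctr S P) = z from Subtype.ext hzg.symm]
    have step : a ⟨w, hw'⟩ = ⟨w, hw'⟩ * ⟨g₀, hg₀c⟩ := by
      have e : (⟨w, hw'⟩ : ctr S P) = x'⁻¹ * y' := rfl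
      rw [e, map_mul, map_inv]
      refine Subtype.ext ?_
      simp only [Subgroup.coe_mul, Subgroup.coe_inv]
      rw [key]
      have ex : ((a x' : _) : Ω) = (x : Ω) * ((x : Ω)⁻¹ * ((a x' : _) : Ω)) :=
        (mul_inv_cancel_left _ _).symm
      nth_rw 1 [ex]
      have hm : (x : Ω)⁻¹ * ((φ x : Q) : Ω) * g₀ ∈ U :=
        U.mul_mem hwU (hg₀ ▸ U.mul_mem (U.inv_mem (hQU x.2))
          (U.mul_mem (U.mul_mem hu (hQU x.2)) (U.inv_mem hu)))
      have hc := inCtr_conj (haP x') hm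
      show _ = (x : Ω)⁻¹ * ((φ x : Q) : Ω) * g₀
      generalize (x : Ω)⁻¹ * ((a x' : _) : Ω) = d at hc ⊢
      calc ((x : Ω) * d)⁻¹ * (((φ x : Q) : Ω) * g₀ * d)
          = d⁻¹ * ((x : Ω)⁻¹ * ((φ x : Q) : Ω) * g₀ * d) := by group
        _ = (x : Ω)⁻¹ * ((φ x : Q) : Ω) * g₀ := by rw [hc]; group
    have hj : ∀ j : ℕ, (a ^ j) ⟨w, hw'⟩ = ⟨w, hw'⟩ * ⟨g₀, hg₀c⟩ ^ j := by
      intro j
      induction j with
      | zero => simp
      | succ j ih =>
        rw [pow_succ', MulAut.mul_apply, ih, map_mul, map_pow, hgfix, step, mul_assoc, ← pow_succ']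
    refine ⟨⟨w, hw'⟩, ?_, rfl⟩
    show (a ^ k) ⟨w, hw'⟩ = ⟨w, hw'⟩
    rw [hj, show (⟨g₀, hg₀c⟩ : ctr S P) ^ k = 1 from Subtype.ext (by
      have h9 : g₀ ^ k = 1 :=
        congrArg Subtype.val (pow_card_eq_one' (x := (⟨g₀, hP.1 hg₀P⟩ : S)))
      rw [SubmonoidClass.coe_pow]
      exact h9), mul_one]
  have hfoc : C.focalSubgroup ≤ K := by
    refine (Subgroup.closure_le _).2 ?_
    rintro _ ⟨Q, φ, x, hφ, rfl⟩
    exact (hCE Q hφ).2 x
  intro y hy h
  obtain ⟨z, hz, hzy⟩ := hfoc hy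
  rw [show (⟨y, h⟩ : ctr S P) = z from Subtype.ext hzy.symm]
  exact hz

/-- An element of a group with Sylow subgroup in `W` is in `W` when the `k`-th powers are, `k` a
power of `p`. -/
theorem eq_top_of_pow_mem {A : Type*} [Group A] [Finite A] (W : Subgroup A) (R : Sylow p A)
    (hR : (R : Subgroup A) ≤ W) {m : ℕ} (h : ∀ a : A, a ^ p ^ m ∈ W) : W = ⊤ := by
  set M := Subgroup.closure (Set.range fun a : A => a ^ p ^ m) with hM
  haveI : M.Normal := ⟨fun x hx g => by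
    induction hx using Subgroup.closure_induction with
    | mem x hx =>
      obtain ⟨a, rfl⟩ := hx
      exact Subgroup.subset_closure ⟨g * a * g⁻¹, conj_pow⟩
    | one => simp
    | mul x y _ _ hx hy =>
      rw [show g * (x * y) * g⁻¹ = g * x * g⁻¹ * (g * y * g⁻¹) by group]
      exact mul_mem hx hy
    | inv x _ hx =>
      rw [show g * x⁻¹ * g⁻¹ = (g * x * g⁻¹)⁻¹ by group]
      exact inv_mem hx⟩
  have hMW : M ≤ W := (Subgroup.closure_le _).2 (by rintro _ ⟨a, rfl⟩; exact h a)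
  have hq : IsPGroup p (A ⧸ M) := by
    intro q
    induction q using QuotientGroup.induction_on with
    | _ a =>
      exact ⟨m, by
        rw [← QuotientGroup.mk_pow, QuotientGroup.eq_one_iff]
        exact Subgroup.subset_closure ⟨a, rfl⟩⟩
  obtain ⟨n, hn⟩ := IsPGroup.iff_card.1 hq
  have h1 : W.index ∣ p ^ n := hn ▸ Subgroup.index_dvd_of_le hMW
  obtain ⟨j, -, hj⟩ := (Nat.dvd_prime_pow (Fact.out : p.Prime)).1 h1
  rcases Nat.eq_zero_or_pos j with rfl | hpos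
  · exact Subgroup.index_eq_one.1 (hj.trans (pow_zero p))
  · exact absurd ((dvd_pow_self p hpos.ne').trans (hj ▸ Subgroup.index_dvd_of_le hR))
      R.not_dvd_index

/-- The maps of `E` that are maps of `C_F(X)`. -/
def centralizingSystem (E : FusionSystem T) (F : FusionSystem S) (X : Subgroup Ω) (hX : X ≤ S)
    (hT : T ≤ centralizerIn S X) : FusionSystem T where
  Hom P := {φ | φ ∈ E.Hom P ∧ φ ∈ F.centralizerHom X P}
  le_of_mem h := E.le_of_mem h.1
  injective_of_mem h := E.injective_of_mem h.1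
  conj_mem hP hg := ⟨E.conj_mem hP hg, (centralizerSystem F X hX).conj_mem (hP.trans hT) (hT hg)⟩
  comp_mem hφ hψ h :=
    ⟨E.comp_mem hφ.1 hψ.1 h, (centralizerSystem F X hX).comp_mem hφ.2 hψ.2 h⟩
  inv_mem {P φ} hφ := by
    obtain ⟨c, hc, -, hl, -⟩ := exists_inv E hφ.1 rfl
    obtain ⟨c', hc', -, hl', -⟩ := exists_inv (centralizerSystem F X hX) hφ.2 rfl
    refine ⟨c, ⟨hc, ?_⟩, fun x => hl x _⟩
    have e : c = c' := by
      ext ⟨_, x, rfl⟩
      exact (hl x _).trans (hl' x _).symm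
    exact e ▸ hc'

/-- A normal subsystem centralizes the focal subgroup of `C_F(T)`. -/
theorem le_centralizerHom_focal (hS : IsPGroup p S) (hE : E.IsNormalIn F p)
    {D : FusionSystem (centralizerIn S T)} (hD : F.IsCentralizerSystem T D) (P : Subgroup Ω) :
    D.focalSubgroup ≤ centralizerIn S T ∧ E.Hom P ⊆ F.centralizerHom D.focalSubgroup P := by
  have W : WNData p F E := ⟨hS, hE.1.2.1, hE.1.1, hE.1.2.2⟩
  have := W.finite
  have hTS := W.le
  set X := D.focalSubgroup with hX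
  have hXT : X ≤ centralizerIn S T := by
    refine (Subgroup.closure_le _).2 ?_
    rintro _ ⟨Q, φ, x, hφ, rfl⟩
    exact Subgroup.mul_mem _ (Subgroup.inv_mem _ (source_le hφ x.2)) (apply_mem hφ x)
  have hXS : X ≤ S := hXT.trans (centralizerIn_le S T)
  have hTX : T ≤ centralizerIn S X := fun t ht => mem_centralizerIn_iff_conj.2 ⟨hTS ht, fun x hx => by
    have h1 := (mem_centralizerIn_iff_conj.1 (hXT hx)).2 t ht
    calc t * x * t⁻¹ = (x * t * x⁻¹) * x * t⁻¹ := by rw [h1]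
      _ = x := by group⟩
  refine ⟨hXT, fun φ hφ => ?_⟩
  refine (alperin W.pgroupT W.satE (centralizingSystem E F X hXS hTX) (fun Q hQ => ?_) P hφ).2
  have hQn : E.IsFullyNormalized Q := by
    rcases hQ with rfl | hess
    · exact isFullyNormalized_top E
    · exact hess.2.1
  have hQc : E.IsCentric Q := by
    rcases hQ with rfl | hess
    · exact isCentric_self E
    · exact hess.1
  have hQS := hQc.1.trans hTS
  obtain ⟨Q', hQQ', hQ'⟩ := exists_fullyNormalized F hQS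
  obtain ⟨β, hβ, hβN, himg⟩ := IsSaturated.exists_normalizer_map hS W.saturated hQ' hQQ'
  have hQ'c := isCentric_img W hQc hQQ'
  have hQ'fc := IsSaturated.fullyCentralized hS W.saturated hQ'
  have := finite_mulAut (P := Q) hQc.1
  set A := E.autGroup Q with hA
  obtain ⟨⟨-, R, hR⟩, -⟩ := IsSaturated.automized_receptive W.pgroupT W.satE hQn
  set Wsub := ((centralizingSystem E F X hXS hTX).autGroup Q).subgroupOf A with hWsub
  have hRW : (R : Subgroup A) ≤ Wsub := by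
    rw [hR]
    exact fun g hg => autInducedBy_le_autGroup (centralizingSystem E F X hXS hTX) hQc.1 hg
  obtain ⟨m, hm⟩ : ∃ m, Nat.card S = p ^ m := IsPGroup.iff_card.1 hS
  have htop : Wsub = ⊤ := eq_top_of_pow_mem Wsub R hRW (m := m) fun g => by
    -- the transported automorphism and its extension
    have hcF := restr_mem F hβ (le_normalizerIn hQS)
    have hr : (restr (le_normalizerIn hQS) β).range = Q' := (range_restr _ _).trans himg
    set i := isoOf _ (F.injective_of_mem hcF) hr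
    have hg' := congr_mem_of_invariant W.inv hQc.1 hcF hr g.2
    obtain ⟨a, ha, ha₁, ha₂⟩ := autGroup_le_twistSub hS hE hQ'c hg'
    have hfix := fix_focal hS W.saturated hQ'fc ha ha₂
    set k := Nat.card S
    set τ : MulAut Q := (g : MulAut Q) ^ k with hτ
    have hτE : τ ∈ A := pow_mem g.2 k
    have hak : ∀ (j : ℕ) (x : Q), (((a ^ j) ⟨i x, le_ctr S Q' (i x).2⟩ : _) : Ω) =
        ((i (((g : MulAut Q) ^ j) x) : Q') : Ω) := by
      intro j
      induction j with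
      | zero => intro x; rfl
      | succ j ih =>
        intro x
        rw [pow_succ', pow_succ', MulAut.mul_apply, MulAut.mul_apply,
          show (a ^ j) ⟨i x, le_ctr S Q' (i x).2⟩ = ⟨i (((g : MulAut Q) ^ j) x), le_ctr S Q' (i _).2⟩
            from Subtype.ext (ih x), ha₁]
        show ((i ((g : MulAut Q) (i.symm (i _))) : Q') : Ω) = _
        rw [MulEquiv.symm_apply_apply]
    have hYN : Q ⊔ X ≤ normalizerIn S Q := sup_le (le_normalizerIn hQS) fun x hx =>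
      centralizerIn_le_normalizerIn S Q (mem_centralizerIn.2 ⟨hXS hx, fun y hy =>
        (mem_centralizerIn.1 (hXT hx)).2 y (hQc.1 hy)⟩)
    -- `β` maps the focal subgroup into that of `C_F(Q')`
    have hβX : ∀ y : normalizerIn S Q, (y : Ω) ∈ X →
        β y ∈ (centralizerSystem F Q' hQ'.1).focalSubgroup := by
      intro y hy
      let Fo := (centralizerSystem F Q' hQ'.1).focalSubgroup.comap β
      suffices h : X ≤ Fo.map (normalizerIn S Q).subtype by
        obtain ⟨z, hz, hzy⟩ := h hy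
        rwa [← Subtype.ext (a1 := z) (a2 := y) hzy]
      refine (Subgroup.closure_le _).2 ?_
      rintro _ ⟨Q₁, φ, x, hφ, rfl⟩
      rw [hD] at hφ
      obtain ⟨hφF, hQ₁, hφN, φ', hφ', hext, hfx⟩ := hφ
      have hCN : centralizerIn S T ≤ normalizerIn S Q := fun c hc =>
        centralizerIn_le_normalizerIn S Q (mem_centralizerIn.2 ⟨hc.1, fun y hy =>
          (mem_centralizerIn.1 hc).2 y (hQc.1 hy)⟩)
      refine ⟨⟨_, mul_mem (inv_mem (hCN (hQ₁ x.2))) (hCN (hφN x))⟩, ?_, rfl⟩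
      show β (⟨x, hCN (hQ₁ x.2)⟩⁻¹ * ⟨φ x, hCN (hφN x)⟩) ∈ (centralizerSystem F Q' hQ'.1).focalSubgroup
      rw [map_mul, map_inv]
      -- the transported map
      set Y := Q₁ ⊔ Q with hY
      have hYN₁ : Y ≤ normalizerIn S Q := sup_le (hQ₁.trans hCN) (le_normalizerIn hQS)
      have hYT : Y ≤ Q₁ ⊔ T := sup_le_sup_left hQc.1 _
      set β₁ := restr hYN₁ β with hβ₁
      have hβ₁F : β₁ ∈ F.Hom Y := restr_mem F hβ hYN₁
      obtain ⟨d, hd, hdr, hdl, hdl'⟩ := exists_inv F hβ₁F rfl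
      let e₀ := restr hYT φ'
      have he₀ : e₀ ∈ F.Hom Y := restr_mem F hφ' hYT
      have he₀N : ∀ y, e₀ y ∈ normalizerIn S Q := by
        intro y
        have h1 : e₀.range ≤ normalizerIn S Q := by
          rw [← img_self, img_sup e₀ le_sup_left le_sup_right]
          refine sup_le ?_ ?_
          · rintro _ ⟨z, hz, rfl⟩
            exact (congrArg (· ∈ normalizerIn S Q) (hext ⟨z, hz⟩)).mpr (hCN (hφN _))
          · rintro _ ⟨z, hz, rfl⟩
            exact (congrArg (· ∈ normalizerIn S Q) (hfx ⟨z, hQc.1 hz⟩)).mpr (le_normalizerIn hQS hz)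
        exact h1 ⟨y, rfl⟩
      let e₁ := compose e₀ β he₀N
      have he₁ : e₁ ∈ F.Hom Y := compose_mem F he₀ hβ he₀N
      have hdY : ∀ y, d y ∈ Y := fun y => hdr.le ⟨y, rfl⟩
      let χ := compose d e₁ hdY
      have hχ : χ ∈ F.Hom β₁.range := compose_mem F hd he₁ hdY
      set Q₂ := img β Q₁ with hQ₂
      have hβC : ∀ c : normalizerIn S Q, (c : Ω) ∈ centralizerIn S T →
          β c ∈ centralizerIn S Q' := by
        intro c hc
        refine mem_centralizerIn_iff_conj.2 ⟨apply_mem hβ c, fun z hz => ?_⟩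
        rw [← himg] at hz
        obtain ⟨z, hzN, hzQ, rfl⟩ := mem_img.1 hz
        rw [← map_inv, ← map_mul, ← map_mul]
        exact congrArg β (Subtype.ext ((mem_centralizerIn_iff_conj.1 hc).2 z (hQc.1 hzQ)))
      have hQ₂C : Q₂ ≤ centralizerIn S Q' := by
        rintro _ ⟨c, hc, rfl⟩
        exact hβC c (hQ₁ hc)
      have hle : Q₂ ⊔ Q' ≤ β₁.range := by
        rw [range_restr, ← himg]
        exact sup_le (img_mono β le_sup_left) (img_mono β le_sup_right)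
      have hχv : ∀ (z : Ω) (hz : z ∈ Y) (w : β₁.range), (w : Ω) = β₁ ⟨z, hz⟩ →
          χ w = β ⟨e₀ ⟨z, hz⟩, he₀N _⟩ := by
        intro z hz w hw
        rw [show w = ⟨β₁ ⟨z, hz⟩, ⟨_, rfl⟩⟩ from Subtype.ext hw]
        show e₁ ⟨d ⟨β₁ ⟨z, hz⟩, _⟩, _⟩ = _
        simp only [hdl ⟨z, hz⟩ ⟨_, rfl⟩]
        rfl
      let φ₂ : Q₂ →* Ω := restr (le_sup_left.trans hle) χ
      have hφ₂C : φ₂ ∈ (centralizerSystem F Q' hQ'.1).Hom Q₂ := by
        refine ⟨restr_mem F hχ _, hQ₂C, ?_, restr hle χ, restr_mem F hχ hle, fun _ => rfl, ?_⟩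
        · rintro ⟨_, z, hz, rfl⟩
          refine (congrArg (· ∈ centralizerIn S Q') (hχv z (Subgroup.mem_sup_left hz) _ rfl)).mpr
            (hβC _ ?_)
          exact (congrArg (· ∈ centralizerIn S T) (hext ⟨z, hz⟩)).mpr (hφN _)
        · rintro ⟨z, hz⟩
          rw [← himg] at hz
          obtain ⟨z, hzN, hzQ, rfl⟩ := mem_img.1 hz
          exact (hχv z (Subgroup.mem_sup_right hzQ) _ rfl).trans
            (congrArg β (Subtype.ext (hfx ⟨z, hQc.1 hzQ⟩)))
      refine Subgroup.subset_closure ⟨Q₂, φ₂, ⟨β ⟨x, hCN (hQ₁ x.2)⟩, apply_mem_img β _ x.2⟩,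
        hφ₂C, ?_⟩
      refine congrArg₂ (· * ·) rfl ?_
      exact ((hχv x (Subgroup.mem_sup_left x.2) _ rfl).trans
        (congrArg β (Subtype.ext (a2 := ⟨φ x, hCN (hφN x)⟩) (hext x)))).symm
    set β' := restr hYN β with hβ'
    have hβ'F : β' ∈ F.Hom (Q ⊔ X) := restr_mem F hβ hYN
    have hFoC : (centralizerSystem F Q' hQ'.1).focalSubgroup ≤ ctr S Q' := by
      refine ((Subgroup.closure_le _).2 ?_).trans le_sup_right
      rintro _ ⟨Q₁, φ, x, hφ, rfl⟩
      exact Subgroup.mul_mem _ (Subgroup.inv_mem _ (hφ.2.1 x.2)) (hφ.2.2.1 x)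
    have hm1 : ∀ y, β' y ∈ ctr S Q' := by
      intro y
      have h1 : β'.range ≤ ctr S Q' := by
        rw [range_restr, img_sup β (le_normalizerIn hQS) (le_sup_right.trans hYN), himg]
        refine sup_le (le_ctr S Q') ?_
        rintro _ ⟨z, hz, rfl⟩
        exact hFoC (hβX z hz)
      exact h1 ⟨y, rfl⟩
    let e := compose β' (autHom (a ^ k)) hm1
    have he : e ∈ F.Hom (Q ⊔ X) :=
      compose_mem F hβ'F (autHom_mem F (ctr_le hQ'.1) (pow_mem ha k)) hm1
    have heQ : ∀ (z : Ω) (hz : z ∈ Q) (h : z ∈ Q ⊔ X),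
        e ⟨z, h⟩ = β' ⟨τ ⟨z, hz⟩, Subgroup.mem_sup_left (τ _).2⟩ := fun z hz h => by
      show (((a ^ k) ⟨β' ⟨z, h⟩, _⟩ : _) : Ω) = _
      rw [show (⟨β' ⟨z, h⟩, hm1 _⟩ : ctr S Q') = ⟨i ⟨z, hz⟩, le_ctr S Q' (i _).2⟩ from
        Subtype.ext rfl, hak]
      rfl
    have heX : ∀ (z : Ω) (hz : z ∈ X) (h : z ∈ Q ⊔ X), e ⟨z, h⟩ = β' ⟨z, h⟩ := fun z hz h =>
      congrArg Subtype.val (hfix _ (hβX ⟨z, hYN h⟩ hz) _)
    have hm2 : ∀ y, e y ∈ β'.range := by
      intro y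
      have h1 : e.range ≤ β'.range := by
        rw [← img_self, img_sup e le_sup_left le_sup_right]
        refine sup_le ?_ ?_
        · rintro _ ⟨⟨z, h⟩, hz, rfl⟩
          exact ⟨_, (heQ z hz h).symm⟩
        · rintro _ ⟨⟨z, h⟩, hz, rfl⟩
          exact ⟨_, (heX z hz h).symm⟩
      exact h1 ⟨y, rfl⟩
    obtain ⟨d, hd, -, hdl, -⟩ := exists_inv F hβ'F rfl
    refine Subgroup.mem_subgroupOf.2 ?_
    show ((g ^ p ^ m : A) : MulAut Q) ∈ _
    rw [SubmonoidClass.coe_pow, ← hm]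
    refine mem_autGroup_of_hom _ ⟨autHom_mem E hQc.1 hτE, autHom_mem F hQS
      (autGroup_le_of_isSubsystemOf W.inv.1 hQc.1 hτE), hQc.1.trans hTX,
      fun z => hTX (hQc.1 (τ z).2), compose e d hm2, compose_mem F he hd hm2, fun z => ?_, fun z => ?_⟩
    · show d ⟨e ⟨z, _⟩, _⟩ = _
      simp only [heQ z z.2]
      exact hdl _ _
    · show d ⟨e ⟨z, _⟩, _⟩ = _
      simp only [heX z z.2]
      exact hdl _ _
  exact fun g hg => Subgroup.mem_subgroupOf.1 (htop ▸ Subgroup.mem_top (⟨g, hg⟩ : A) : (⟨g, hg⟩ : A) ∈ Wsub)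

end Cfsg.Agent.Lib.Fusion.PrimeIndex
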