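import Cfsg.Agent.Lib.Fusion.PrimeIndex.CentralizerSubsystem

/-!
A saturated subsystem containing a normal subsystem `E` over `T` is generated by its maps on the
subgroups over `T` and those moving elements only within `T`, inducing maps of `E`.
-/

set_option autoImplicit false
set_option linter.unusedSectionVars false

namespace Cfsg.Agent.Lib.Fusion.PrimeIndex

open Cfsg Cfsg.FusionSystem

variable {Ω : Type*} [Group Ω] {S T U : Subgroup Ω} {p : ℕ} [Fact p.Prime] [Finite S]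
  {F : FusionSystem S} {E : FusionSystem T} {G : FusionSystem U}

/-- The generation. -/
theorem le_of_generated (W : WNData p F E) (hUS : U ≤ S) (hTU : T ≤ U) (hGs : G.IsSaturated p)
    (hGF : G.IsSubsystemOf F) (hEG : E.IsSubsystemOf G) (K : FusionSystem U)
    (htop : ∀ R : Subgroup Ω, T ≤ R → R ≤ U → ∀ γ ∈ G.autGroup R, autHom γ ∈ K.Hom R)
    (hL : ∀ R : Subgroup Ω, R ≤ U → ∀ γ ∈ G.autGroup R,
      (∀ r : R, (r : Ω)⁻¹ * ((γ r : R) : Ω) ∈ R ⊓ T) → ∀ ρ ∈ E.autGroup (R ⊓ T),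
        (∀ x : ↥(R ⊓ T), ((ρ x : ↥(R ⊓ T)) : Ω) = ((γ ⟨x, x.2.1⟩ : R) : Ω)) →
          autHom γ ∈ K.Hom R) : G ≤ K := by
  have := W.finite
  have := finite_of_le hUS
  have hUp := W.pgroup.to_le hUS
  have hcl : G.StronglyClosed T :=
    ⟨hTU, fun Q hQ φ hφ x => W.inv.2.1.2 Q hQ φ (hGF Q hφ) x⟩
  refine alperin_ind hUp hGs K (fun γ hγ => mem_autGroup_of_hom K (htop U hTU le_rfl γ hγ))
    fun R hess ih => ?_
  have hRS := hess.1.1
  intro γ hγ
  by_cases hTR : T ≤ R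
  · exact mem_autGroup_of_hom K (htop R hTR hRS γ hγ)
  set P := R ⊓ T with hP
  have hPc : E.IsCentric P := isCentric_inf_sub W hUS hTU hGs hGF hEG hess.1 (IsEssential.radical hUp hGs hess)
  have hPS := hPc.1.trans hTU
  have := finite_of_le hRS
  have := finite_of_le hPS
  have := finite_mulAut (P := R) hRS
  set A := G.autGroup R with hA
  have hstab : ∀ a : A, ∀ r : R, (r : Ω) ∈ P → (((a : MulAut R) r : R) : Ω) ∈ P :=
    fun a r hr => ⟨SetLike.coe_mem _, StronglyClosed.map_mem hcl (autHom_mem G hRS a.2) r hr.2⟩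
  have hPR : P ≤ R := inf_le_left
  have hrestr : ∀ a : A, ∃ ρ ∈ G.autGroup P, ∀ r : P,
      ((ρ r : P) : Ω) = (((a : MulAut R) ⟨r, hPR r.2⟩ : R) : Ω) := by
    intro a
    have hah := restr_mem G (autHom_mem G hRS a.2) hPR
    have hr : (restr hPR (autHom (a : MulAut R))).range = P := by
      refine Subgroup.eq_of_le_of_card_ge ?_ (card_range_eq (G.injective_of_mem hah)).ge
      rintro _ ⟨r, rfl⟩
      exact hstab a _ r.2
    exact ⟨isoOf _ (G.injective_of_mem hah) hr, mem_autGroup_of_hom G hah, fun r => rfl⟩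
  choose ρ hρF hρ using hrestr
  have hρmul : ∀ a b : A, ρ (a * b) = ρ a * ρ b := fun a b => MulEquiv.ext fun r => Subtype.ext (by
    rw [hρ, MulAut.mul_apply, hρ, Subgroup.coe_mul, MulAut.mul_apply]
    exact congrArg (fun z => (((a : MulAut R) z : R) : Ω)) (Subtype.ext (hρ b r).symm))
  let ρh : A →* MulAut P := MonoidHom.mk' ρ hρmul
  let L : Subgroup A :=
    { carrier := {a | ρh a ∈ E.autGroup P ∧
        ∀ r : R, (r : Ω)⁻¹ * (((a : MulAut R) r : R) : Ω) ∈ P}
      one_mem' := ⟨by rw [map_one]; exact one_mem _, fun r => by simp⟩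
      mul_mem' := fun {a b} ha hb => ⟨by rw [map_mul]; exact mul_mem ha.1 hb.1, fun r => by
        have h := P.mul_mem (hb.2 r) (ha.2 ((b : MulAut R) r))
        rw [Subgroup.coe_mul, MulAut.mul_apply]
        rwa [show (r : Ω)⁻¹ * (((b : MulAut R) r : R) : Ω) *
          ((((b : MulAut R) r : R) : Ω)⁻¹ * (((a : MulAut R) ((b : MulAut R) r) : R) : Ω)) =
          (r : Ω)⁻¹ * (((a : MulAut R) ((b : MulAut R) r) : R) : Ω) by group] at h⟩
      inv_mem' := fun {a} ha => ⟨by rw [map_inv]; exact inv_mem ha.1, fun r => by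
        have h := P.inv_mem (ha.2 ((a : MulAut R)⁻¹ r))
        rw [MulAut.inv_apply, MulEquiv.apply_symm_apply] at h
        rw [Subgroup.coe_inv, MulAut.inv_apply]
        rwa [mul_inv_rev, inv_inv] at h⟩ }
  haveI : L.Normal := ⟨fun b hb g => ⟨by
      rw [map_mul, map_mul, map_inv]
      exact conj_mem_autGroup_of_invariant W.inv W.le hPc.1 (Fusion.autGroup_le_of_isSubsystemOf hGF P (hρF g)) hb.1,
    fun r => by
      obtain ⟨w, rfl⟩ := (g : MulAut R).surjective r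
      rw [Subgroup.coe_mul, Subgroup.coe_mul, Subgroup.coe_inv, MulAut.mul_apply,
        MulAut.mul_apply, MulAut.inv_apply, MulEquiv.symm_apply_apply]
      have h1 : (((g : MulAut R) w : R) : Ω)⁻¹ * (((g : MulAut R) ((b : MulAut R) w) : R) : Ω) =
          (((g : MulAut R) (w⁻¹ * (b : MulAut R) w) : R) : Ω) := by
        rw [map_mul, map_inv]
        rfl
      rw [h1]
      exact hstab g _ (hb.2 w)⟩⟩
  let H : Subgroup A := (K.autGroup R).subgroupOf A
  suffices hH : H = ⊤ from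
    (hH ▸ Subgroup.mem_top (⟨γ, hγ⟩ : A) : (⟨γ, hγ⟩ : A) ∈ H)
  obtain ⟨⟨-, RA, hRA⟩, -⟩ := IsSaturated.automized_receptive hUp hGs hess.2.1
  obtain ⟨P₀, hP₀⟩ := sylow_inf_normal (N := L) RA
  have hN : Subgroup.normalizer ((P₀ : Subgroup L).map L.subtype : Set A) ≤ H := by
    intro a ha
    -- `a` extends beyond `R`
    have hah := autHom_mem G hRS a.2
    set X := extender U R (autHom (a : MulAut R)) with hX
    obtain ⟨ψ, hψ, hψe, -⟩ := IsReceptive.extend
      (IsSaturated.automized_receptive hUp hGs hess.2.1).2 hah (range_autHom _)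
    have hlt : R < X := by
      have hRX : R ≤ X := le_extender hRS (apply_mem hah)
      refine lt_of_le_of_ne hRX fun e => hTR ?_
      by_contra
      have hXS : R ⊔ T ≤ U := sup_le hRS hTU
      have hne : R < R ⊔ T := lt_of_le_of_ne le_sup_left fun h => hTR (h ▸ le_sup_right)
      have := finite_of_le hXS
      obtain ⟨x, hx, hxR⟩ := SetLike.exists_of_lt (lt_normalizerIn (hUp.to_le hXS) hne)
      have hTn : R ⊔ T ≤ Subgroup.normalizer (T : Set Ω) :=
        sup_le (fun r hr => mem_normalizer_of_finite fun t ht => W.conj_mem (hUS (hRS hr)) ht)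
          Subgroup.le_normalizer
      haveI : (T.subgroupOf (R ⊔ T)).Normal := (Subgroup.normal_subgroupOf_iff le_sup_right).2
        fun t y ht hy => conj_mem_of_mem_normalizer (hTn hy) ht
      have hX' : (⟨x, hx.1⟩ : ↥(R ⊔ T)) ∈ R.subgroupOf (R ⊔ T) ⊔ T.subgroupOf (R ⊔ T) := by
        rw [← Subgroup.subgroupOf_sup le_sup_left le_sup_right, Subgroup.subgroupOf_self]
        exact Subgroup.mem_top _
      obtain ⟨r₀, hr₀, t, ht, hrt⟩ := Subgroup.mem_sup_of_normal_right.1 hX'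
      have e1 : x = (r₀ : Ω) * (t : Ω) := (congrArg Subtype.val hrt).symm
      have htn : (t : Ω) ∈ Subgroup.normalizer (R : Set Ω) := by
        have h1 : (r₀ : Ω)⁻¹ * x ∈ Subgroup.normalizer (R : Set Ω) :=
          mul_mem (inv_mem (Subgroup.le_normalizer hr₀)) hx.2
        rwa [e1, inv_mul_cancel_left] at h1
      have htX : (t : Ω) ∈ X := by
        have htA : conjAut htn ∈ A := conjAut_mem_autGroup G hRS (hTU ht) htn
        have htR : (⟨_, htA⟩ : A) ∈ (RA : Subgroup A) := by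
          rw [hRA]
          exact conjAut_mem_autInducedBy (K := U) (hTU ht) htn
        have htL : (⟨_, htA⟩ : A) ∈ L := by
          refine ⟨?_, fun y => ⟨R.mul_mem (R.inv_mem y.2) (SetLike.coe_mem _), ?_⟩⟩
          · refine mem_autGroup_of_hom E ?_
            have e2 : autHom (ρh ⟨_, htA⟩) = conjHom P t :=
              MonoidHom.ext fun y => hρ _ y
            rw [e2]
            exact E.conj_mem hPc.1 ht
          · show (y : Ω)⁻¹ * ((t : Ω) * (y : Ω) * (t : Ω)⁻¹) ∈ T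
            rw [show (y : Ω)⁻¹ * ((t : Ω) * (y : Ω) * (t : Ω)⁻¹) =
              (y : Ω)⁻¹ * (t : Ω) * (y : Ω)⁻¹⁻¹ * (t : Ω)⁻¹ by group]
            exact T.mul_mem (W.conj_mem (hUS (U.inv_mem (hRS y.2))) ht) (T.inv_mem ht)
        have h2 : (⟨_, htA⟩ : A) ∈ (P₀ : Subgroup L).map L.subtype :=
          ⟨⟨_, htL⟩, by rw [hP₀]; exact htR, rfl⟩
        obtain ⟨⟨b, hbL⟩, hb, hbe⟩ := (Subgroup.mem_normalizer_iff.1 ha _).1 h2
        rw [hP₀] at hb
        have hb' : b ∈ (RA : Subgroup A) := hb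
        rw [hRA] at hb'
        obtain ⟨s, hs, hse⟩ := mem_autInducedBy.1 (Subgroup.mem_subgroupOf.1 hb')
        refine mem_extender.2 ⟨hTU ht, htn, s, hs, fun y hy => ?_⟩
        have h3 := hse ((a : MulAut R) y)
        have h4 : (b : MulAut R) = (a : MulAut R) * conjAut htn * (a : MulAut R)⁻¹ := by
          rw [show b = a * ⟨_, htA⟩ * a⁻¹ from hbe]
          rfl
        rw [h4, MulAut.mul_apply, MulAut.mul_apply, MulAut.inv_apply,
          MulEquiv.symm_apply_apply] at h3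
        exact h3
      exact hxR (e1 ▸ R.mul_mem hr₀ (e.ge htX))
    have hXS := extender_le U R (autHom (a : MulAut R))
    have hcard : Nat.card R < Nat.card X := by
      have := finite_of_le hXS
      by_contra hge
      exact hlt.ne (Subgroup.eq_of_le_of_card_ge hlt.le (not_lt.1 hge))
    have h1 := restr_mem K (ih X hcard ψ hψ) hlt.le
    have h2 : restr hlt.le ψ = autHom (a : MulAut R) :=
      MonoidHom.ext fun r => hψe r r.2 (hlt.le r.2)
    exact mem_autGroup_of_hom K (h2 ▸ h1)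
  refine top_le_iff.1 ((Sylow.normalizer_sup_eq_top P₀).ge.trans (sup_le hN fun a ha => ?_))
  obtain ⟨ha₁, ha₂⟩ := ha
  exact mem_autGroup_of_hom K (hL R hRS _ a.2 ha₂ (ρh a) ha₁ fun x => hρ a x)

theorem centralizerIn_eq (hUS : U ≤ S) (hC : centralizerIn S T ≤ U) :
    centralizerIn U T = centralizerIn S T :=
  le_antisymm (fun _ hc => ⟨hUS hc.1, hc.2⟩) fun _ hc => ⟨hC hc, hc.2⟩

/-- `E` stays normal in a subsystem containing it and the required extensions. -/
theorem isNormalIn_sub (hS : IsPGroup p S) (hE : E.IsNormalIn F p) (hUS : U ≤ S)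
    (hU : T ⊔ centralizerIn S T ≤ U) (hGs : G.IsSaturated p) (hGF : G.IsSubsystemOf F)
    (hEG : E.IsSubsystemOf G)
    (hext : ∀ α ∈ E.autGroup T, ∃ β ∈ G.autGroup (T ⊔ centralizerIn S T),
      (∀ x : T, ((β (Subgroup.inclusion le_sup_left x) : ↥(T ⊔ centralizerIn S T)) : Ω) =
        ((α x : T) : Ω)) ∧
      ∀ c : ↥(T ⊔ centralizerIn S T), (c : Ω) ∈ centralizerIn S T →
        (c : Ω)⁻¹ * ((β c : ↥(T ⊔ centralizerIn S T)) : Ω) ∈
          T ⊓ Subgroup.centralizer (T : Set Ω)) : E.IsNormalIn G p := by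
  have W : WNData p F E := ⟨hS, hE.1.2.1, hE.1.1, hE.1.2.2⟩
  have hTU : T ≤ U := le_sup_left.trans hU
  have := W.finite
  have := finite_of_le hUS
  have hTc : G.StronglyClosed T :=
    ⟨hTU, fun Q hQ φ hφ x => W.inv.2.1.2 Q hQ φ (hGF Q hφ) x⟩
  have hA : ∀ g (hg : g ∈ U), ∃ hn : g ∈ Subgroup.normalizer (T : Set Ω),
      conjAut hn ∈ G.autGroup T := fun g hg =>
    ⟨le_normalizer_of_stronglyClosed hTc hg, conjAut_mem_autGroup G hTU hg _⟩
  have hinv : ∀ α ∈ G.autGroup T, ∀ (P : Subgroup Ω), P ≤ T → ∀ (φ : P →* Ω), φ ∈ E.Hom P →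
      Cfsg.Agent.S5120.Transported E α P φ := by
    intro α hα P hP φ hφ
    obtain ⟨χ, hχ, hχe⟩ :=
      W.inv.2.2.1 P hP φ hφ α (Fusion.autGroup_le_of_isSubsystemOf hGF T hα)
    exact ⟨χ, hχ, fun x hx hφx h => hχe x hφx h⟩
  have hG : G ≤ Cfsg.Agent.S5120.splitSystem G E hA hinv := by
    refine le_of_generated W hUS hTU hGs hGF hEG _ (fun R hTR hR γ hγ => ?_)
      fun R hR γ hγ _ ρ hρ hργ => ?_
    · have hγh := autHom_mem G hR hγ
      refine ⟨hγh, fun x => (StronglyClosed.map_mem_iff hTc hγh x).symm, ?_⟩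
      have hrT := restr_mem G hγh hTR
      have hr : (restr hTR (autHom γ)).range = T :=
        (range_restr _ _).trans (img_eq_of_stronglyClosed hTc hγh hTR)
      refine ⟨isoOf _ (G.injective_of_mem hrT) hr, mem_autGroup_of_hom G hrT, fun Q hQR hQT =>
        ⟨Q.subtype, subtype_mem E hQT, fun x hx => rfl⟩⟩
    · have hγh := autHom_mem G hR hγ
      refine ⟨hγh, fun x => (StronglyClosed.map_mem_iff hTc hγh x).symm, 1, one_mem _,
        fun Q hQR hQT => ⟨restr (le_inf hQR hQT) (autHom ρ),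
          restr_mem E (autHom_mem E inf_le_right hρ) _, fun x hx => ?_⟩⟩
      exact (hργ ⟨x, hQR x.2, hQT x.2⟩).symm
  refine ⟨⟨W.satE, hGs, hEG, hTc, fun P hP φ hφ α hα => ?_, fun P hP φ hφ => ?_⟩, ?_⟩
  · obtain ⟨χ, hχ, he⟩ := hinv α hα P hP φ hφ
    exact ⟨χ, hχ, fun x hφx hαx => he x (hP x.2) hφx hαx⟩
  · obtain ⟨-, α, hα, h⟩ := (hG P hφ).2
    obtain ⟨φ₀, hφ₀, he⟩ := h P le_rfl hP
    exact ⟨α, hα, φ₀, hφ₀, fun x hx => he x hx⟩
  · have key : ∀ C, C = centralizerIn S T → ∀ α ∈ E.autGroup T, ∃ β ∈ G.autGroup (T ⊔ C),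
        (∀ x : T, ((β (Subgroup.inclusion le_sup_left x) : ↥(T ⊔ C)) : Ω) = ((α x : T) : Ω)) ∧
        ∀ c : ↥(T ⊔ C), (c : Ω) ∈ C →
          (c : Ω)⁻¹ * ((β c : ↥(T ⊔ C)) : Ω) ∈ T ⊓ Subgroup.centralizer (T : Set Ω) := by
      rintro C rfl
      exact hext
    exact key _ (centralizerIn_eq hUS (le_sup_right.trans hU))

/-- The automorphism of `T` induced by an element of `S`. -/
def cl (W : WNData p F E) {s : Ω} (hs : s ∈ S) : MulAut T :=
  conjAut (le_normalizer_of_stronglyClosed W.inv.2.1 hs)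

theorem cl_apply (W : WNData p F E) {s : Ω} (hs : s ∈ S) (t : T) :
    ((cl W hs t : T) : Ω) = s * (t : Ω) * s⁻¹ := rfl

theorem cl_mul (W : WNData p F E) {s s' : Ω} (hs : s ∈ S) (hs' : s' ∈ S) :
    cl W (S.mul_mem hs hs') = cl W hs * cl W hs' :=
  MulEquiv.ext fun t => Subtype.ext (by
    rw [MulAut.mul_apply, cl_apply, cl_apply, cl_apply]
    group)

theorem cl_mem (W : WNData p F E) (hTU : T ≤ U) {s : Ω} (hs : s ∈ S) (hsU : s ∈ U) :
    cl W hs ∈ G.autGroup T := conjAut_mem_autGroup G hTU hsU _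

/-- The maps inducing on the classes modulo `N` a conjugation in `Aut_G(T)`. -/
def classSystem (W : WNData p F E) (G : FusionSystem U) (hUS : U ≤ S) (hTU : T ≤ U)
    (N : Subgroup (MulAut T)) (hN : ∀ g ∈ G.autGroup T, ∀ n ∈ N, g * n * g⁻¹ ∈ N) :
    FusionSystem U where
  Hom P := {φ | φ ∈ G.Hom P ∧ ∃ g ∈ G.autGroup T, ∀ (x : P) (hx : (x : Ω) ∈ S) (h' : φ x ∈ S),
    cl W h' * (g * cl W hx * g⁻¹)⁻¹ ∈ N}
  le_of_mem h := G.le_of_mem h.1
  injective_of_mem h := G.injective_of_mem h.1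
  conj_mem {P u} hP hu := ⟨G.conj_mem hP hu, cl W (hUS hu), cl_mem W hTU _ hu, fun x hx h' => by
    have e : cl W h' = cl W (hUS hu) * cl W hx * (cl W (hUS hu))⁻¹ := by
      rw [eq_mul_inv_iff_mul_eq, ← cl_mul, ← cl_mul]
      refine MulEquiv.ext fun t => Subtype.ext ?_
      rw [cl_apply, cl_apply]
      show u * x * u⁻¹ * u * t * (u * x * u⁻¹ * u)⁻¹ = u * x * t * (u * x)⁻¹
      group
    rw [e, mul_inv_cancel]
    exact one_mem _⟩
  comp_mem {P Q φ ψ} hφ hψ h := by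
    obtain ⟨hφG, g, hg, hgv⟩ := hφ
    obtain ⟨hψG, g', hg', hgv'⟩ := hψ
    refine ⟨G.comp_mem hφG hψG h, g' * g, mul_mem hg' hg, fun x hx h' => ?_⟩
    have hy : φ x ∈ S := hUS (apply_mem hφG x)
    have h1 := N.mul_mem (hgv' ⟨φ x, h x⟩ hy h') (hN g' hg' _ (hgv x hx hy))
    generalize cl W hy = b at h1
    generalize cl W hx = a at h1 ⊢
    convert h1 using 1
    group
    rfl
  inv_mem {P φ} hφ := by
    obtain ⟨hφG, g, hg, hgv⟩ := hφ
    obtain ⟨c, hc, -, hl, -⟩ := exists_inv G hφG rfl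
    refine ⟨c, ⟨hc, g⁻¹, inv_mem hg, ?_⟩, fun x => hl x _⟩
    rintro ⟨_, x, rfl⟩ hy h'
    have hx : (x : Ω) ∈ S := hUS (source_le hφG x.2)
    have e : cl W h' = cl W hx := by
      congr 1
      exact hl x _
    rw [e]
    have h1 := hN _ (inv_mem hg) _ (N.inv_mem (hgv x hx hy))
    generalize cl W hy = b at h1 ⊢
    generalize cl W hx = a at h1 ⊢
    rwa [show g⁻¹ * (b * (g * a * g⁻¹)⁻¹)⁻¹ * g⁻¹⁻¹ = a * (g⁻¹ * b * g⁻¹⁻¹)⁻¹ by group] at h1

/-- Every map induces a conjugation on the classes. -/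
theorem le_classSystem (W : WNData p F E) (hUS : U ≤ S) (hTU : T ≤ U) (hGs : G.IsSaturated p)
    (hGF : G.IsSubsystemOf F) (hEG : E.IsSubsystemOf G)
    (N : Subgroup (MulAut T)) (hN : ∀ g ∈ G.autGroup T, ∀ n ∈ N, g * n * g⁻¹ ∈ N)
    (hEN : E.autGroup T ≤ N) : G ≤ classSystem W G hUS hTU N hN := by
  have := W.finite
  have := finite_of_le hUS
  have hTc : G.StronglyClosed T :=
    ⟨hTU, fun Q hQ φ hφ x => W.inv.2.1.2 Q hQ φ (hGF Q hφ) x⟩
  refine le_of_generated W hUS hTU hGs hGF hEG _ (fun R hTR hR γ hγ => ?_)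
    fun R hR γ hγ hmod ρ hρ hργ => ?_
  · have hγh := autHom_mem G hR hγ
    have hrT := restr_mem G hγh hTR
    have hr : (restr hTR (autHom γ)).range = T :=
      (range_restr _ _).trans (img_eq_of_stronglyClosed hTc hγh hTR)
    set g : MulAut T := isoOf _ (G.injective_of_mem hrT) hr with hg
    refine ⟨hγh, g, mem_autGroup_of_hom G hrT, fun x hx h' => ?_⟩
    have e : cl W h' * g = g * cl W hx := by
      refine MulEquiv.ext fun t => Subtype.ext ?_
      rw [MulAut.mul_apply, MulAut.mul_apply, cl_apply, hg, isoOf_coe, isoOf_coe]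
      show autHom γ x * autHom γ ⟨t, hTR t.2⟩ * (autHom γ x)⁻¹ =
        autHom γ ⟨(cl W hx t : T), hTR (SetLike.coe_mem _)⟩
      rw [← map_inv, ← map_mul, ← map_mul]
      exact congrArg (autHom γ) (Subtype.ext rfl)
    rw [show cl W h' = g * cl W hx * g⁻¹ from eq_mul_inv_of_mul_eq e, mul_inv_cancel]
    exact one_mem _
  · refine ⟨autHom_mem G hR hγ, 1, one_mem _, fun x hx h' => ?_⟩
    rw [one_mul, inv_one, mul_one]
    have hd := hmod x
    have hdS : (x : Ω)⁻¹ * ((γ x : R) : Ω) ∈ S := W.le hd.2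
    have e : cl W h' = cl W hx * cl W hdS := by
      rw [← cl_mul]
      congr 1
      exact (mul_inv_cancel_left (x : Ω) _).symm
    rw [e]
    exact hN _ (cl_mem W hTU _ (hR x.2)) _
      (hEN (autInducedBy_le_autGroup E le_rfl (conjAut_mem_autInducedBy (K := T) hd.2 _)))

/-- An invariant subsystem of a subsystem invariant in `F` is invariant in `F` as soon as it is
stable under the automorphisms. -/
theorem invariant_trans {V : Subgroup Ω} {D : FusionSystem V} (hG : G.IsInvariantIn F)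
    (hD : D.IsInvariantIn G) (hV : F.StronglyClosed V)
    (htr : ∀ α ∈ F.autGroup V, D.IsSubsystemOf (Cfsg.Agent.S5120.transportSystem D α)) :
    D.IsInvariantIn F := by
  have hVU : V ≤ U := hD.2.1.1
  refine ⟨fun P φ h => hG.1 P (hD.1 P h), hV, fun P hP φ hφ α hα => ?_, fun P hP φ hφ => ?_⟩
  · obtain ⟨-, -, -, χ, hχ, he⟩ := htr α hα P hφ
    exact ⟨χ, hχ, fun x hφx hαx => he x (hP x.2) hφx hαx⟩
  · have := finite_of_le hV.1
    obtain ⟨α, hα, φ₀, hφ₀, h0⟩ := hG.2.2.2 P (hP.trans hVU) φ hφ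
    obtain ⟨a, ha, φ₁, hφ₁, h1⟩ := hD.2.2.2 P hP φ₀ hφ₀
    have hαh := autHom_mem F hG.2.1.1 hα
    have hres := restr_mem F hαh hVU
    have hr : (restr hVU (autHom α)).range = V :=
      (range_restr _ _).trans (img_eq_of_stronglyClosed hV hαh hVU)
    refine ⟨isoOf _ (F.injective_of_mem hres) hr * a,
      mul_mem (mem_autGroup_of_hom F hres) (Fusion.autGroup_le_of_isSubsystemOf hG.1 V ha),
      φ₁, hφ₁, fun x hx => ?_⟩
    rw [h0 x (apply_mem hφ₀ x), MulAut.mul_apply, isoOf_coe]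
    exact congrArg (fun z => ((α z : U) : Ω)) (Subtype.ext (h1 x hx))

end Cfsg.Agent.Lib.Fusion.PrimeIndex
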