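import Cfsg.Agent.Lib.Fusion.PrimeIndex.Label
import Cfsg.Agent.Lib.Fusion.Subsystem

/-!
Comparison of invariant saturated subsystems over the same strongly closed subgroup.
-/

set_option autoImplicit false
set_option linter.unusedSectionVars false

namespace Cfsg.Agent.Lib.Fusion.PrimeIndex

open Cfsg Cfsg.FusionSystem

variable {Ω : Type*} [Group Ω] {S T : Subgroup Ω} {p : ℕ} [Fact p.Prime] [Finite S]
  {F : FusionSystem S} {E : FusionSystem T}

/-- In an invariant subsystem centricity is invariant under the maps of the big system. -/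
theorem isCentric_of_invariant_conj (hE : E.IsInvariantIn F) {Q Q' : Subgroup Ω}
    (hQ : E.IsCentric Q) (h : F.IsConj Q Q') :
    Q' ≤ T ∧ centralizerIn T Q' ≤ Q' := by
  have : Finite T := finite_of_le hE.2.1.1
  obtain ⟨φ, hφ, rfl⟩ := h
  have hφT : ∀ x, φ x ∈ T := hE.2.1.2 Q hQ.1 φ hφ
  refine ⟨by rintro _ ⟨x, rfl⟩; exact hφT x, fun g hg => ?_⟩
  obtain ⟨a, -, e, he, hex⟩ := hE.2.2.2 Q hQ.1 φ hφ
  have hgT := (mem_centralizerIn.1 hg).1
  have hmem : (a⁻¹ ⟨g, hgT⟩ : T) ∈ e.range.subgroupOf T := by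
    refine hQ.2 e.range ⟨e, he, rfl⟩ (mem_centralizerIn.2 ⟨SetLike.coe_mem _, ?_⟩)
    rintro _ ⟨x, rfl⟩
    have h2 : (a ⟨e x, apply_mem he x⟩ : T) = ⟨φ x, hφT x⟩ := Subtype.ext (hex x _).symm
    have h3 : (⟨φ x, hφT x⟩ : T) * ⟨g, hgT⟩ = ⟨g, hgT⟩ * ⟨φ x, hφT x⟩ :=
      Subtype.ext ((mem_centralizerIn.1 hg).2 (φ x) ⟨x, rfl⟩)
    have h4 := congrArg (a⁻¹ : MulAut T) h3
    rw [← h2, map_mul, map_mul, MulAut.inv_apply, MulEquiv.symm_apply_apply] at h4
    exact congrArg Subtype.val h4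
  obtain ⟨x, hx⟩ := hmem
  refine ⟨x, (hex x (apply_mem he x)).trans ?_⟩
  have e5 : (⟨e x, apply_mem he x⟩ : T) = a⁻¹ ⟨g, hgT⟩ := Subtype.ext hx
  rw [e5]
  exact congrArg Subtype.val (a.apply_symm_apply ⟨g, hgT⟩)

theorem autGroup_le_of_isSubsystemOf (hE : E.IsSubsystemOf F) {P : Subgroup Ω} (hP : P ≤ T) :
    E.autGroup P ≤ F.autGroup P := fun _ ha =>
  mem_autGroup_of_hom F (hE P (autHom_mem E hP ha))

/-- An invariant subsystem is closed under transport of automorphisms along maps of the big one. -/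
theorem congr_mem_of_invariant (hE : E.IsInvariantIn F) {P₀ P : Subgroup Ω} (hP₀ : P₀ ≤ T)
    {c : P₀ →* Ω} (hc : c ∈ F.Hom P₀) (hr : c.range = P) {τ : MulAut P₀}
    (hτ : τ ∈ E.autGroup P₀) :
    MulAut.congr (isoOf c (F.injective_of_mem hc) hr) τ ∈ E.autGroup P := by
  obtain ⟨a, ha, e, he, hex⟩ := hE.2.2.2 P₀ hP₀ c hc
  set j := isoOf e (E.injective_of_mem he) rfl with hj
  set σ := MulAut.congr j τ with hσ
  have hσE : σ ∈ E.autGroup e.range := exists_mulAut_congr E he rfl hτ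
  obtain ⟨χ', hχ', hχe⟩ := hE.2.2.1 e.range (range_le he) _ (autHom_mem E (range_le he) hσE) a ha
  have himg : (e.range.subgroupOf T).map (T.subtype.comp a.toMonoidHom) = P := by
    rw [← hr]
    ext y
    constructor
    · rintro ⟨⟨_, hw⟩, ⟨z, rfl⟩, rfl⟩
      exact ⟨z, hex z hw⟩
    · rintro ⟨z, rfl⟩
      exact ⟨⟨e z, apply_mem he z⟩, ⟨z, rfl⟩, (hex z _).symm⟩
  revert χ'
  rw [himg]
  intro χ' hχ' hχe
  set i := isoOf c (F.injective_of_mem hc) hr with hi
  refine mem_autGroup_of_hom E ?_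
  have e0 : autHom (MulAut.congr i τ) = χ' := by
    refine MonoidHom.ext fun y => ?_
    obtain ⟨z, rfl⟩ := i.surjective y
    have e1 : MulAut.congr i τ (i z) = i (τ z) := by
      show i (τ (i.symm (i z))) = i (τ z)
      rw [MulEquiv.symm_apply_apply]
    have e2 : σ (j z) = j (τ z) := by
      show j (τ (j.symm (j z))) = j (τ z)
      rw [MulEquiv.symm_apply_apply]
    rw [autHom_apply, e1]
    have hjz : e z ∈ e.range := ⟨z, rfl⟩
    have e3 : autHom σ ⟨e z, hjz⟩ = e (τ z) := congrArg Subtype.val e2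
    have e4 : (a ⟨e z, apply_mem he z⟩ : Ω) = c z := (hex z _).symm
    have h1 := hχe ⟨e z, hjz⟩ (e3.symm ▸ apply_mem he (τ z))
      (e4.symm ▸ hr.le ⟨z, rfl⟩)
    simp only [e3, e4] at h1
    refine Eq.trans ?_ h1.symm
    exact hex (τ z) _
  rw [e0]
  exact hχ'

/-- The generated subsystem of one invariant subsystem lies in every other one. -/
theorem gen_le_invariant (hS : IsPGroup p S) (hF : F.IsSaturated p) (hE : E.IsInvariantIn F)
    (hEs : E.IsSaturated p) {E' : FusionSystem T} (hE' : E'.IsInvariantIn F) : gen E p ≤ E' := by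
  have hTS := hE.2.1.1
  have : Finite T := finite_of_le hTS
  have hTp := hS.to_le hTS
  refine gen_le_of fun P hP τ hτ hp => ?_
  obtain ⟨P₀, hPP₀, hP₀⟩ := exists_fullyNormalized F (hP.1.trans hTS)
  obtain ⟨φ, hφ, hr⟩ := hPP₀
  have hP₀T : P₀ ≤ T := by
    rw [← hr]
    rintro _ ⟨x, rfl⟩
    exact hE.2.1.2 P hP.1 φ hφ x
  set i := isoOf φ (F.injective_of_mem hφ) hr with hi
  have hτ₀ : MulAut.congr i τ ∈ E.autGroup P₀ := congr_mem_of_invariant hE hP.1 hφ hr hτ
  have := finite_mulAut (P := P₀) hP₀.1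
  set A := E.autGroup P₀ with hA
  obtain ⟨⟨-, R, hR⟩, -⟩ := IsSaturated.automized_receptive hTp hEs
    (isFullyNormalized_subsystem hS hF hE.2.1 E hE.1 hP₀T hP₀)
  let M : Subgroup A := (E'.autGroup P₀).subgroupOf A
  haveI : M.Normal := ⟨fun b hb g => conj_mem_autGroup_of_invariant hE' hTS hP₀T
    (autGroup_le_of_isSubsystemOf hE.1 hP₀T g.2) hb⟩
  have hRM : (R : Subgroup A) ≤ M := by
    rw [hR]
    exact fun x hx => autInducedBy_le_autGroup E' hP₀T hx
  obtain ⟨k, hk⟩ : ∃ k : ℕ, orderOf (⟨MulAut.congr i τ, hτ₀⟩ : A) = p ^ k := by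
    obtain ⟨k, hk⟩ := (hp.map (MulAut.congr i).toMonoidHom).orderOf_pow
    exact ⟨k, (Subgroup.orderOf_mk _ hτ₀).trans hk⟩
  have hτ' : MulAut.congr i τ ∈ E'.autGroup P₀ := mem_of_normal_of_sylow_le R hRM hk
  obtain ⟨c, hc, hcr, he⟩ := isoOf_symm_eq F hφ hr
  refine autHom_mem E' hP.1 ?_
  have h1 := congr_mem_of_invariant hE' hP₀T hc hcr hτ'
  rw [he, congr_symm_eq] at h1
  rwa [show (MulAut.congr i).symm (MulAut.congr i τ) = τ from (MulAut.congr i).symm_apply_apply τ]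
    at h1

/-- The forced automorphisms of one invariant saturated subsystem lie in every other one. -/
theorem baseAut_le_invariant (hS : IsPGroup p S) (hF : F.IsSaturated p) (hE : E.IsInvariantIn F)
    (hEs : E.IsSaturated p) {E' : FusionSystem T} (hE' : E'.IsInvariantIn F)
    (hE's : E'.IsSaturated p) : baseAut E p ≤ E'.autGroup T := by
  have hTS := hE.2.1.1
  have : Finite T := finite_of_le hTS
  have := finite_mulAut (S := T) (P := T) le_rfl
  have hTp := hS.to_le hTS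
  set M := E.autGroup T ⊔ E'.autGroup T with hM
  set N := (E'.autGroup T).subgroupOf M with hN
  have hMF : M ≤ F.autGroup T := sup_le (autGroup_le_of_isSubsystemOf hE.1 le_rfl)
    (autGroup_le_of_isSubsystemOf hE'.1 le_rfl)
  haveI : N.Normal :=
    ⟨fun b hb g => conj_mem_autGroup_of_invariant hE' hTS le_rfl (hMF g.2) hb⟩
  have hco : (Nat.card (M ⧸ N)).Coprime p := by
    let f : E.autGroup T →* M ⧸ N :=
      (QuotientGroup.mk' N).comp (Subgroup.inclusion le_sup_left)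
    have hf : Function.Surjective f := by
      intro y
      obtain ⟨⟨x, hx⟩, rfl⟩ := QuotientGroup.mk'_surjective N y
      have hle : M ≤ (f.range.comap (QuotientGroup.mk' N)).map M.subtype := by
        refine sup_le (fun a ha => ⟨⟨a, Subgroup.mem_sup_left ha⟩, ⟨⟨a, ha⟩, rfl⟩, rfl⟩)
          (fun a ha => ⟨⟨a, Subgroup.mem_sup_right ha⟩, ?_, rfl⟩)
        refine ⟨1, ?_⟩
        rw [map_one]
        exact ((QuotientGroup.eq_one_iff (N := N) (⟨a, Subgroup.mem_sup_right ha⟩ : M)).2 ha).symm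
      obtain ⟨⟨z, hz⟩, ⟨w, hw⟩, hzx⟩ := hle hx
      exact ⟨w, hw.trans (congrArg _ (Subtype.ext hzx))⟩
    have hTn : E.IsFullyNormalized T := by
      refine ⟨le_rfl, fun Q hQ => ?_⟩
      rw [normalizerIn_self]
      exact Subgroup.card_le_of_le (normalizerIn_le T Q)
    obtain ⟨⟨-, R, hR⟩, -⟩ := IsSaturated.automized_receptive hTp hEs hTn
    have hRker : (R : Subgroup (E.autGroup T)) ≤ f.ker := by
      rw [hR]
      intro x hx
      exact (QuotientGroup.eq_one_iff _).2 (autInducedBy_le_autGroup E' le_rfl hx)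
    have h1 : Nat.card (M ⧸ N) = f.ker.index := by
      rw [Subgroup.index_ker, MonoidHom.range_eq_top.2 hf, Subgroup.card_top]
    rw [h1]
    exact (((Fact.out : p.Prime).coprime_iff_not_dvd).2 fun h =>
      R.not_dvd_index (h.trans (Subgroup.index_dvd_of_le hRker))).symm
  have D : LabData p F E' (QuotientGroup.mk' N) :=
    ⟨hS, hTS, hE's, hE'.1, hMF, fun P hP φ hφ α hα => hE'.2.2.1 P hP φ hφ α (hMF hα), hco,
      fun a ha => (QuotientGroup.eq_one_iff a).2 ha⟩
  refine (Subgroup.closure_le _).2 ?_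
  rintro α ⟨hα, P, hP, hPc, hαP⟩
  have hP' : E'.IsCentric P := ⟨hP, fun Q ⟨f, hf, hfr⟩ =>
    (isCentric_of_invariant_conj hE hPc ⟨f, hE'.1 P hf, hfr⟩).2⟩
  exact (QuotientGroup.eq_one_iff (N := N) (⟨α, Subgroup.mem_sup_left hα⟩ : M)).1 (uc_of_centric D hP' ⟨α, Subgroup.mem_sup_left hα⟩ hP
    (gen_le_invariant hS hF hE hEs hE' P hαP))

end Cfsg.Agent.Lib.Fusion.PrimeIndex
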