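import Cfsg.Agent.Lib.Fusion.PrimeIndex.Reduce

/-!
Labels in a group of order prime to `p` of the maps of a saturated system over `T` composed with
automorphisms of `T` normalizing it.
-/

set_option autoImplicit false
set_option linter.unusedSectionVars false

namespace Cfsg.Agent.Lib.Fusion.PrimeIndex

open Cfsg Cfsg.FusionSystem

/-- The data: a saturated system `E` over `T` inside `F`, invariant under `A ≤ Aut_F(T)`, and a
homomorphism on `A` to a group of order prime to `p` killing `Aut_E(T)`. -/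
structure LabData {Ω : Type*} [Group Ω] {S : Subgroup Ω} (p : ℕ) (F : FusionSystem S)
    {T : Subgroup Ω} (E : FusionSystem T) {Δ : Type*} [Group Δ] {A : Subgroup (MulAut T)}
    (χ : A →* Δ) : Prop where
  pgroup : IsPGroup p S
  le : T ≤ S
  satE : E.IsSaturated p
  sub : E.IsSubsystemOf F
  sub_aut : A ≤ F.autGroup T
  trans : ∀ (P : Subgroup Ω) (hPT : P ≤ T) (φ : P →* Ω), φ ∈ E.Hom P → ∀ α ∈ A,
    ∃ χ' ∈ E.Hom ((P.subgroupOf T).map (T.subtype.comp α.toMonoidHom)),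
      ∀ (x : P) (hφx : φ x ∈ T)
        (hαx : ((α ⟨x, hPT x.2⟩ : T) : Ω) ∈ (P.subgroupOf T).map (T.subtype.comp α.toMonoidHom)),
        χ' ⟨(α ⟨x, hPT x.2⟩ : T), hαx⟩ = ((α ⟨φ x, hφx⟩ : T) : Ω)
  coprime : (Nat.card Δ).Coprime p
  ker : ∀ a : A, (a : MulAut T) ∈ E.autGroup T → χ a = 1

variable {Ω : Type*} [Group Ω] {S : Subgroup Ω} {p : ℕ} [Fact p.Prime] [Finite S]
  {F : FusionSystem S} {T : Subgroup Ω} {E : FusionSystem T} {Δ : Type*} [Group Δ] [Finite Δ]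
  {A : Subgroup (MulAut T)} {χ : A →* Δ}

theorem LabData.finite (D : LabData p F E χ) : Finite T := finite_of_le D.le

theorem LabData.pgroupT (D : LabData p F E χ) : IsPGroup p T := D.pgroup.to_le D.le

theorem eq_one_of_pow_eq_one (hco : (Nat.card Δ).Coprime p) {d : Δ} {k : ℕ}
    (h : d ^ p ^ k = 1) : d = 1 := by
  refine orderOf_eq_one_iff.1 (Nat.eq_one_of_dvd_coprimes (Nat.Coprime.pow_right k hco)
    (orderOf_dvd_natCard d) (orderOf_dvd_of_pow_eq_one h))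

/-- A map of the form `a ∘ e` with `χ a = d` and `e` in `E`. -/
def XL (E : FusionSystem T) (χ : A →* Δ) (d : Δ) {P : Subgroup Ω} (φ : P →* Ω) : Prop :=
  ∃ a : A, χ a = d ∧
    ∃ e ∈ E.Hom P, ∀ (x : P) (hx : e x ∈ T), φ x = autHom (a : MulAut T) ⟨e x, hx⟩

theorem XL.of_mem {P : Subgroup Ω} {φ : P →* Ω} (h : φ ∈ E.Hom P) : XL E χ 1 φ :=
  ⟨1, map_one χ, φ, h, fun _ _ => rfl⟩

theorem XL.autHom_self (a : A) : XL E χ (χ a) (autHom (a : MulAut T)) :=
  ⟨a, rfl, T.subtype, subtype_mem _ le_rfl, fun _ _ => rfl⟩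

theorem XL.restr {d : Δ} {P R : Subgroup Ω} {φ : P →* Ω} (h : XL E χ d φ) (hR : R ≤ P) :
    XL E χ d (Fusion.restr hR φ) := by
  obtain ⟨a, hd, e, he, hex⟩ := h
  exact ⟨a, hd, Fusion.restr hR e, restr_mem _ he hR, fun x hx => hex _ hx⟩

theorem XL.comp (D : LabData p F E χ) {d d' : Δ} {P Q : Subgroup Ω} {φ : P →* Ω} {ψ : Q →* Ω}
    (hφ : XL E χ d φ) (hψ : XL E χ d' ψ) (h : ∀ x, φ x ∈ Q) {ρ : P →* Ω}
    (hρ : ∀ x, ρ x = ψ ⟨φ x, h x⟩) : XL E χ (d' * d) ρ := by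
  obtain ⟨a, hd, e, he, hex⟩ := hφ
  obtain ⟨b, hd', e', he', hex'⟩ := hψ
  have := D.finite
  have hQT : Q ≤ T := source_le he'
  obtain ⟨χ', hχ', hχe⟩ := D.trans Q hQT e' he' (a : MulAut T)⁻¹ (inv_mem a.2)
  have e1 : ∀ x, autHom (a : MulAut T)⁻¹ ⟨φ x, hQT (h x)⟩ = e x := fun x => by
    simp only [hex x (apply_mem he x)]
    exact autHom_apply_inv (S := T) ⟨e x, apply_mem he x⟩ _
  have hm : ∀ x, e x ∈ (Q.subgroupOf T).map (T.subtype.comp ((a : MulAut T)⁻¹).toMonoidHom) :=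
    fun x => ⟨⟨φ x, hQT (h x)⟩, h x, e1 x⟩
  refine ⟨b * a, by rw [map_mul, hd, hd'], compose e χ' hm, compose_mem _ he hχ' hm,
    fun x hx => ?_⟩
  have e2 := hχe ⟨φ x, h x⟩ (apply_mem he' _) ⟨⟨φ x, hQT (h x)⟩, h x, rfl⟩
  have e0 : ((((a : MulAut T)⁻¹) ⟨φ x, hQT (h x)⟩ : T) : Ω) = e x := e1 x
  simp only [e0] at e2
  simp only [compose_apply, e2, hρ x, hex' _ (apply_mem he' _)]
  show (((b : MulAut T) _ : T) : Ω) =
    (((b : MulAut T) ((a : MulAut T) ((a : MulAut T)⁻¹ _)) : T) : Ω)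
  rw [MulAut.inv_apply, MulEquiv.apply_symm_apply]

theorem XL.inv (D : LabData p F E χ) {d : Δ} {P Q : Subgroup Ω} {φ : P →* Ω} (hφ : XL E χ d φ)
    {c : Q →* Ω} (hQ : φ.range = Q) (hc : ∀ (x : P) (hx : φ x ∈ Q), c ⟨φ x, hx⟩ = x) :
    XL E χ d⁻¹ c := by
  subst hQ
  have := D.finite
  obtain ⟨a, hd, e, he, hex⟩ := hφ
  obtain ⟨e', he', -, hl, -⟩ := exists_inv E he rfl
  obtain ⟨χ', hχ', hχe⟩ := D.trans e.range (range_le he) e' he' (a : MulAut T) a.2
  have himg : (e.range.subgroupOf T).map (T.subtype.comp (a : MulAut T).toMonoidHom) =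
      φ.range := by
    ext y
    constructor
    · rintro ⟨⟨_, hw⟩, ⟨z, rfl⟩, rfl⟩
      exact ⟨z, hex z hw⟩
    · rintro ⟨z, rfl⟩
      exact ⟨⟨e z, apply_mem he z⟩, ⟨z, rfl⟩, (hex z _).symm⟩
  revert χ'
  rw [himg]
  intro χ' hχ' hχe
  refine ⟨a⁻¹, by rw [map_inv, hd], χ', hχ', ?_⟩
  rintro ⟨_, x, rfl⟩ hxT
  have hxe : e x ∈ T := apply_mem he x
  have e1 : φ x = autHom (a : MulAut T) ⟨e x, hxe⟩ := hex x hxe
  have he'x : e' ⟨e x, ⟨x, rfl⟩⟩ = (x : Ω) := hl x _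
  have e2 := hχe ⟨e x, ⟨x, rfl⟩⟩ (he'x.symm ▸ source_le he x.2) ⟨x, e1⟩
  have e3 : χ' ⟨φ x, ⟨x, rfl⟩⟩ = autHom (a : MulAut T) ⟨x, source_le he x.2⟩ := by
    simp only [e1]
    refine Eq.trans e2 (congrArg (autHom (a : MulAut T)) (Subtype.ext he'x))
  refine (hc x _).trans ?_
  have e4 : (⟨χ' ⟨φ x, ⟨x, rfl⟩⟩, hxT⟩ : T) =
      ⟨autHom (a : MulAut T) ⟨x, source_le he x.2⟩, ((a : MulAut T) _).2⟩ := Subtype.ext e3
  exact ((congrArg (autHom (a : MulAut T)⁻¹) e4).trans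
    (autHom_apply_inv (S := T) ⟨(x : Ω), source_le he x.2⟩ _)).symm

/-- The character is trivial on the elements acting in `E` on `U`. -/
def UC (E : FusionSystem T) (χ : A →* Δ) (U : Subgroup Ω) : Prop :=
  ∀ (a : A) (hU : U ≤ T),
    Fusion.restr hU (autHom (a : MulAut T)) ∈ E.Hom U → χ a = 1

theorem XL.unique_of (D : LabData p F E χ) {d d' : Δ} {P : Subgroup Ω} {φ : P →* Ω}
    (hP : E.IsCentric P)
    (hbig : ∀ R : Subgroup Ω, E.IsCentric R → Nat.card R = Nat.card P → UC E χ R)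
    (h : XL E χ d φ) (h' : XL E χ d' φ) : d = d' := by
  have := D.finite
  obtain ⟨a, hd, e, he, hex⟩ := h
  obtain ⟨b, hd', e', he', hex'⟩ := h'
  have h1 : χ (b⁻¹ * a) = 1 := by
    refine hbig e.range (isCentric_of_isConj hP ⟨e, he, rfl⟩)
      (card_range_eq (E.injective_of_mem he)) _ (range_le he) ?_
    obtain ⟨c, hc, hcr, hl, -⟩ := exists_inv E he rfl
    refine mem_of_comp E hc he' (fun y => hcr.le ⟨y, rfl⟩) ?_
    rintro ⟨_, x, rfl⟩
    refine Eq.trans ?_ (congrArg e' (Subtype.ext (hl x _))).symm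
    show autHom ((b : MulAut T)⁻¹ * (a : MulAut T)) ⟨e x, _⟩ = e' x
    have h3 : ((b : MulAut T)⁻¹ * (a : MulAut T)) ⟨e x, apply_mem he x⟩ =
        ⟨e' x, apply_mem he' x⟩ := by
      rw [MulAut.mul_apply, MulAut.inv_apply, MulEquiv.symm_apply_eq]
      refine Subtype.ext ?_
      rw [← autHom_apply, ← autHom_apply]
      exact (hex x _).symm.trans (hex' x _)
    exact congrArg Subtype.val h3
  rw [map_mul, map_inv, inv_mul_eq_one] at h1
  rw [← hd, ← hd', h1]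

theorem xl_pel_of (D : LabData p F E χ) {U W : Subgroup Ω} (hUW : U ≤ W) {σ : MulAut W}
    (hp : IsPEl p σ) (hU : E.IsCentric U) (hσU : ∀ x : W, (x : Ω) ∈ U → ((σ x : W) : Ω) ∈ U)
    (hbig : ∀ R : Subgroup Ω, E.IsCentric R → Nat.card R = Nat.card U → UC E χ R) {d : Δ}
    (hd : XL E χ d (Fusion.restr hUW (autHom σ))) : d = 1 := by
  have key : ∀ k : ℕ, XL E χ (d ^ k) (Fusion.restr hUW (autHom (σ ^ k))) := by
    intro k
    induction k with
    | zero =>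
      rw [pow_zero, pow_zero]
      exact XL.of_mem (subtype_mem E hU.1)
    | succ k ih =>
      rw [pow_succ, pow_succ]
      exact hd.comp D ih (fun x => hσU ⟨x, hUW x.2⟩ x.2) fun x => rfl
  obtain ⟨k, hk⟩ := hp
  have h1 := key (p ^ k)
  rw [hk] at h1
  exact eq_one_of_pow_eq_one D.coprime
    (XL.unique_of D hU hbig h1 (XL.of_mem (subtype_mem E hU.1)))

theorem uc_of_centric (D : LabData p F E χ) {U : Subgroup Ω} (hU : E.IsCentric U) :
    UC E χ U := by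
  have := D.finite
  have hTp := D.pgroupT
  suffices key : ∀ n, ∀ U : Subgroup Ω, E.IsCentric U → Nat.card T ≤ Nat.card U + n → UC E χ U from
    key (Nat.card T) U hU (Nat.le_add_left _ _)
  intro n
  induction n using Nat.strong_induction_on with
  | _ n ih =>
  intro U hU hn a hUT ha
  rcases hUT.eq_or_lt with e | hlt
  · subst e
    exact D.ker a (mem_autGroup_of_hom E ha)
  set N := normalizerIn T U with hN
  have hUN : U ≤ N := le_normalizerIn hUT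
  have hNT : N ≤ T := normalizerIn_le T U
  have := finite_of_le hNT
  have hcard : Nat.card U < Nat.card N := by
    by_contra hge
    exact (lt_normalizerIn hTp hlt).ne (Subgroup.eq_of_le_of_card_ge hUN (not_lt.1 hge))
  set f := Fusion.restr hUT (autHom (a : MulAut T)) with hf
  obtain ⟨ε, hε, hext, -⟩ := IsReceptive.extend (IsSaturated.receptive hTp D.satE
    (isFullyCentralized_of_isCentric (isCentric_of_isConj hU ⟨f, ha, rfl⟩))) ha rfl
  have hle : N ≤ extender T U f := by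
    intro g hg
    refine mem_extender.2 ⟨hg.1, hg.2, autHom (a : MulAut T) ⟨g, hg.1⟩, SetLike.coe_mem _,
      fun x hx => ?_⟩
    show autHom (a : MulAut T) ⟨g * x * g⁻¹, hUT hx⟩ = _
    have e : (⟨g * x * g⁻¹, hUT hx⟩ : T) = ⟨g, hg.1⟩ * ⟨x, hUT x.2⟩ * ⟨g, hg.1⟩⁻¹ := rfl
    rw [e, map_mul, map_mul, map_inv]
    rfl
  set b := Fusion.restr hle ε with hb
  set ρ := Fusion.restr hNT (autHom (a : MulAut T)) with hρ
  have hbE : b ∈ E.Hom N := restr_mem E hε hle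
  have hρF : ρ ∈ F.Hom N := restr_mem F (autHom_mem F D.le (D.sub_aut a.2)) hNT
  have hrange : ∀ x, b x ∈ ρ.range := by
    intro x
    have hc : (ρ x)⁻¹ * b x ∈ f.range := by
      refine hU.2 _ ⟨f, ha, rfl⟩ (mem_centralizerIn_iff_conj.2
        ⟨T.mul_mem (T.inv_mem ((a : MulAut T) _).2) (apply_mem hbE x), ?_⟩)
      rintro _ ⟨q, rfl⟩
      have hxq : (x : Ω) * (q : Ω) * (x : Ω)⁻¹ ∈ U := conj_mem_of_mem_normalizer x.2.2 q.2
      have h1 : b x * f q * (b x)⁻¹ = ρ x * f q * (ρ x)⁻¹ := by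
        have h2 := hext _ hxq (hle (x * ⟨q, hUN q.2⟩ * x⁻¹).2)
        have h3 := hext _ q.2 (hle (hUN q.2))
        have e : b (x * ⟨q, hUN q.2⟩ * x⁻¹) = ρ (x * ⟨q, hUN q.2⟩ * x⁻¹) := h2
        rw [map_mul, map_mul, map_inv, map_mul, map_mul, map_inv] at e
        have e' : b ⟨q, hUN q.2⟩ = f q := h3
        rw [e'] at e
        exact e
      calc (ρ x)⁻¹ * b x * f q * ((ρ x)⁻¹ * b x)⁻¹
          = (ρ x)⁻¹ * (b x * f q * (b x)⁻¹) * ρ x := by group
        _ = (ρ x)⁻¹ * (ρ x * f q * (ρ x)⁻¹) * ρ x := by rw [h1]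
        _ = f q := by group
    obtain ⟨q, hq⟩ := hc
    refine ⟨x * ⟨q, hUN q.2⟩, ?_⟩
    rw [map_mul, show ρ ⟨q, hUN q.2⟩ = f q from rfl, hq, mul_inv_cancel_left]
  obtain ⟨c, hc, hcr, hl, hl'⟩ := exists_inv F hρF rfl
  set t := compose b c hrange with ht
  have hbF : b ∈ F.Hom N := D.sub N hbE
  have htF : t ∈ F.Hom N := compose_mem F hbF hc hrange
  have htN : ∀ x, t x ∈ N := fun x => hcr.le ⟨⟨b x, hrange x⟩, rfl⟩
  have hρt : ∀ x, ρ ⟨t x, htN x⟩ = b x := fun x => hl' _ (htN x)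
  have htr : t.range = N := by
    refine Subgroup.eq_of_le_of_card_ge ?_ (card_range_eq (F.injective_of_mem htF)).ge
    rintro _ ⟨x, rfl⟩
    exact htN x
  set θ : MulAut N := isoOf t (F.injective_of_mem htF) htr with hθ
  have hθU : ∀ x : N, (x : Ω) ∈ U → θ x = x := by
    intro x hx
    refine Subtype.ext ?_
    show t x = (x : Ω)
    have h1 : ρ ⟨t x, htN x⟩ = ρ x := (hρt x).trans (hext x hx (hle x.2))
    exact congrArg Subtype.val (F.injective_of_mem hρF h1)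
  have hw : ∀ x : N, (x : Ω)⁻¹ * (θ x : Ω) ∈ U := by
    intro x
    refine hU.2 U (isConj_refl E hUT) (mem_centralizerIn_iff_conj.2
      ⟨T.mul_mem (T.inv_mem (hNT x.2)) (hNT (θ x).2), fun q hq => ?_⟩)
    have hxq : (x : Ω) * q * (x : Ω)⁻¹ ∈ U := conj_mem_of_mem_normalizer x.2.2 hq
    have h1 := hθU (x * ⟨q, hUN hq⟩ * x⁻¹) hxq
    rw [map_mul, map_mul, map_inv, hθU ⟨q, hUN hq⟩ hq] at h1
    have h2 := congrArg (fun y : N => (y : Ω)) h1
    simp only [Subgroup.coe_mul, Subgroup.coe_inv] at h2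
    calc (x : Ω)⁻¹ * (θ x : Ω) * q * ((x : Ω)⁻¹ * (θ x : Ω))⁻¹
        = (x : Ω)⁻¹ * ((θ x : Ω) * q * (θ x : Ω)⁻¹) * (x : Ω) := by group
      _ = (x : Ω)⁻¹ * ((x : Ω) * q * (x : Ω)⁻¹) * (x : Ω) := by rw [h2]
      _ = q := by group
  obtain ⟨m, hm⟩ : ∃ m, Nat.card N = p ^ m := IsPGroup.iff_card.1 (hTp.to_le hNT)
  have hθp : IsPEl p θ := by
    refine ⟨m, MulEquiv.ext fun x => ?_⟩
    let w : N := x⁻¹ * θ x
    have hk : ∀ k : ℕ, (θ ^ k) x = x * w ^ k := by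
      intro k
      induction k with
      | zero => simp
      | succ k ihk =>
        rw [pow_succ', MulAut.mul_apply, ihk, map_mul, map_pow, hθU w (hw x),
          show θ x = x * w from (mul_inv_cancel_left x (θ x)).symm, mul_assoc, ← pow_succ']
    rw [hk, ← hm, pow_card_eq_one', mul_one, MulAut.one_apply]
  have hcw : XL E χ (χ a)⁻¹ c := ((XL.autHom_self a).restr hNT).inv D rfl hl
  have hbig : ∀ R : Subgroup Ω, E.IsCentric R → Nat.card R = Nat.card N → UC E χ R :=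
    fun R hR hRN => by
      have := Subgroup.card_le_of_le hR.1
      exact ih (Nat.card T - Nat.card R) (by omega) R hR (by omega)
  have hdw : XL E χ ((χ a)⁻¹ * 1) (Fusion.restr le_rfl (autHom θ)) :=
    (XL.of_mem hbE).comp D hcw hrange fun x => rfl
  have := xl_pel_of D le_rfl hθp (isCentric_of_le hU hUN hNT) (fun x _ => (θ x).2) hbig hdw
  simpa using this

theorem XL.unique (D : LabData p F E χ) {d d' : Δ} {P : Subgroup Ω} {φ : P →* Ω}
    (hP : E.IsCentric P) (h : XL E χ d φ) (h' : XL E χ d' φ) : d = d' :=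
  XL.unique_of D hP (fun _ hR _ => uc_of_centric D hR) h h'

end Cfsg.Agent.Lib.Fusion.PrimeIndex
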