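import Cfsg.Agent.Lib.Fusion.PrimeIndex.Saturated
import Cfsg.Agent.Lib.Fusion.ModelBasic

/-!
A homomorphism on `Aut_F(S)` is trivial on the forced subgroup as soon as it is trivial on the
elements forced at the centric radical subgroups.
-/

set_option autoImplicit false
set_option linter.unusedSectionVars false

namespace Cfsg.Agent.Lib.Fusion.PrimeIndex

open Cfsg Cfsg.FusionSystem

variable {Ω : Type*} [Group Ω] {S : Subgroup Ω} {p : ℕ} [Fact p.Prime] [Finite S]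
  {F : FusionSystem S} {Δ : Type*} [Group Δ] {π : F.autGroup S →* Δ}

/-- The weight of a map. -/
def Wt (p : ℕ) (π : F.autGroup S →* Δ) (d : Δ) {P : Subgroup Ω} (φ : P →* Ω) : Prop :=
  ∃ α : F.autGroup S, Dec F p (α : MulAut S) φ ∧ π α = d

/-- The elements forced at `P` are killed. -/
def CritTriv (p : ℕ) (π : F.autGroup S →* Δ) (P : Subgroup Ω) : Prop :=
  ∀ (α : F.autGroup S) (hP : P ≤ S),
    Fusion.restr hP (autHom (α : MulAut S)) ∈ (gen F p).Hom P → π α = 1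

theorem exists_wt (hS : IsPGroup p S) (hF : F.IsSaturated p) (π : F.autGroup S →* Δ)
    {P : Subgroup Ω} {φ : P →* Ω} (hφ : φ ∈ F.Hom P) : ∃ d, Wt p π d φ := by
  obtain ⟨α, hα⟩ := exists_dec hS hF hφ
  exact ⟨_, ⟨α, hα.1⟩, hα, rfl⟩

theorem Wt.mem {d : Δ} {P : Subgroup Ω} {φ : P →* Ω} (h : Wt p π d φ) : φ ∈ F.Hom P := by
  obtain ⟨α, hα, -⟩ := h
  exact hα.mem

theorem Wt.of_gen {P : Subgroup Ω} {φ : P →* Ω} (h : φ ∈ (gen F p).Hom P) : Wt p π 1 φ :=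
  ⟨1, Dec.of_gen h, map_one π⟩

theorem Wt.restr {d : Δ} {P R : Subgroup Ω} {φ : P →* Ω} (h : Wt p π d φ) (hR : R ≤ P) :
    Wt p π d (Fusion.restr hR φ) := by
  obtain ⟨α, hα, hd⟩ := h
  exact ⟨α, hα.restr hR, hd⟩

theorem Wt.comp (hS : IsPGroup p S) {d e : Δ} {P Q : Subgroup Ω} {φ : P →* Ω} {ψ : Q →* Ω}
    (hφ : Wt p π d φ) (hψ : Wt p π e ψ) (h : ∀ x, φ x ∈ Q) {ρ : P →* Ω}
    (hρ : ∀ x, ρ x = ψ ⟨φ x, h x⟩) : Wt p π (e * d) ρ := by
  obtain ⟨α, hα, hd⟩ := hφ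
  obtain ⟨β, hβ, he⟩ := hψ
  exact ⟨β * α, hα.comp hS hβ h hρ, by rw [map_mul, hd, he]⟩

theorem Wt.inv (hS : IsPGroup p S) {d : Δ} {P Q : Subgroup Ω} {φ : P →* Ω} (hφ : Wt p π d φ)
    {c : Q →* Ω} (hQ : φ.range = Q) (hc : ∀ (x : P) (hx : φ x ∈ Q), c ⟨φ x, hx⟩ = x) :
    Wt p π d⁻¹ c := by
  obtain ⟨α, hα, hd⟩ := hφ
  exact ⟨α⁻¹, hα.inv hS hQ hc, by rw [map_inv, hd]⟩

/-- The weight is unique on centric subgroups whose conjugates force nothing. -/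
theorem Wt.unique (hS : IsPGroup p S) {d d' : Δ} {P : Subgroup Ω} {φ : P →* Ω}
    (hP : F.IsCentric P)
    (hbig : ∀ R : Subgroup Ω, F.IsCentric R → Nat.card R = Nat.card P → CritTriv p π R)
    (h : Wt p π d φ) (h' : Wt p π d' φ) : d = d' := by
  obtain ⟨α, ⟨hα, e, he, hex⟩, hd⟩ := h
  obtain ⟨β, ⟨hβ, e', he', hex'⟩, hd'⟩ := h'
  have h1 : π (β⁻¹ * α) = 1 := by
    refine hbig e.range (isCentric_of_isConj hP ⟨e, gen_le F p P he, rfl⟩)
      (card_range_eq ((gen F p).injective_of_mem he)) _ (range_le he) ?_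
    obtain ⟨c, hc, hcr, hl, -⟩ := exists_inv (gen F p) he rfl
    refine mem_of_comp (gen F p) hc he' (fun y => hcr.le ⟨y, rfl⟩) ?_
    rintro ⟨_, x, rfl⟩
    refine Eq.trans ?_ (congrArg e' (Subtype.ext (hl x _))).symm
    show autHom ((β : MulAut S)⁻¹ * (α : MulAut S)) ⟨e x, _⟩ = e' x
    have h3 : ((β : MulAut S)⁻¹ * (α : MulAut S)) ⟨e x, apply_mem he x⟩ =
        ⟨e' x, apply_mem he' x⟩ := by
      rw [MulAut.mul_apply, MulAut.inv_apply, MulEquiv.symm_apply_eq]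
      refine Subtype.ext ?_
      rw [← autHom_apply, ← autHom_apply]
      exact (hex x _).symm.trans (hex' x _)
    exact congrArg Subtype.val h3
  rw [map_mul, map_inv, inv_mul_eq_one] at h1
  rw [← hd, ← hd', h1]

/-- The largest normal `p`-subgroup of `Aut_F(R)`, inside `MulAut R`. -/
def coreAut (F : FusionSystem S) (p : ℕ) (R : Subgroup Ω) : Subgroup (MulAut R) :=
  (pCore p (F.autGroup R)).map (F.autGroup R).subtype

/-- The elements of `N_S(R)` inducing elements of `coreAut`. -/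
def plus (F : FusionSystem S) (p : ℕ) (R : Subgroup Ω) : Subgroup Ω :=
  ((coreAut F p R).comap (conjMap S R)).map (normalizerIn S R).subtype

theorem conj_mem_coreAut {R : Subgroup Ω} {τ a : MulAut R} (hτ : τ ∈ F.autGroup R)
    (ha : a ∈ coreAut F p R) : τ * a * τ⁻¹ ∈ coreAut F p R := by
  obtain ⟨b, hb, rfl⟩ := ha
  exact ⟨⟨τ, hτ⟩ * b * ⟨τ, hτ⟩⁻¹, (pCore_normal p _).conj_mem b hb _, rfl⟩

theorem coreAut_le (hS : IsPGroup p S) (hF : F.IsSaturated p) {R : Subgroup Ω}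
    (hR : F.IsFullyNormalized R) : coreAut F p R ≤ autInducedBy S R := by
  obtain ⟨⟨-, T, hT⟩, -⟩ := IsSaturated.automized_receptive hS hF hR
  rintro _ ⟨b, hb, rfl⟩
  have := finite_mulAut hR.1
  have h1 := pCore_le_sylow T hb
  rw [hT] at h1
  exact h1

theorem mem_plus {R : Subgroup Ω} {g : Ω} :
    g ∈ plus F p R ↔ ∃ hg : g ∈ normalizerIn S R, conjAut hg.2 ∈ coreAut F p R := by
  constructor
  · rintro ⟨⟨g, hg⟩, h, rfl⟩
    have e : conjMap S R ⟨g, hg⟩ = conjAut hg.2 := MulEquiv.ext fun x => Subtype.ext rfl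
    exact ⟨hg, e ▸ (show conjMap S R ⟨g, hg⟩ ∈ coreAut F p R from h)⟩
  · rintro ⟨hg, h⟩
    have e : conjMap S R ⟨g, hg⟩ = conjAut hg.2 := MulEquiv.ext fun x => Subtype.ext rfl
    exact ⟨⟨g, hg⟩, (show conjMap S R ⟨g, hg⟩ ∈ coreAut F p R from e.symm ▸ h), rfl⟩

theorem plus_le (F : FusionSystem S) (p : ℕ) (R : Subgroup Ω) :
    plus F p R ≤ normalizerIn S R := Subgroup.map_subtype_le _

theorem inn_le_coreAut (hS : IsPGroup p S) {R : Subgroup Ω} (hR : R ≤ S) :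
    Inn R ≤ coreAut F p R := by
  have hI : IsPGroup p (Inn R) := by
    rw [inn_eq_autInducedBy]
    exact isPGroup_autInducedBy (hS.to_le hR) R
  have hn : ((Inn R).subgroupOf (F.autGroup R)).Normal := by
    refine ⟨fun a ha g => ?_⟩
    obtain ⟨x, hx⟩ := ha
    refine ⟨(g : MulAut R) x, ?_⟩
    show MulAut.conj ((g : MulAut R) x) = (g : MulAut R) * (a : MulAut R) * (g : MulAut R)⁻¹
    ext y
    change MulAut.conj x = (a : MulAut R) at hx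
    rw [← hx]
    simp [MulAut.mul_apply, MulAut.inv_apply]
  intro α hα
  exact ⟨⟨α, inn_le_autGroup F hR hα⟩, le_pCore_of_normal
    (hI.of_equiv (Subgroup.subgroupOfEquivOfLe (inn_le_autGroup F hR)).symm) hα, rfl⟩

theorem le_plus (hS : IsPGroup p S) {R : Subgroup Ω} (hR : R ≤ S) : R ≤ plus F p R := by
  intro g hg
  refine mem_plus.2 ⟨le_normalizerIn hR hg, inn_le_coreAut hS hR ⟨⟨g, hg⟩, ?_⟩⟩
  exact MulEquiv.ext fun x => Subtype.ext rfl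

theorem card_lt_plus (hS : IsPGroup p S) (hF : F.IsSaturated p) {R : Subgroup Ω}
    (hc : F.IsCentric R) (hR : F.IsFullyNormalized R) (hnr : ¬ F.IsRadical p R) :
    Nat.card R < Nat.card (plus F p R) := by
  have := finite_of_le ((plus_le F p R).trans (normalizerIn_le S R))
  by_contra hge
  have e := Subgroup.eq_of_le_of_card_ge (le_plus (F := F) (p := p) hS hc.1) (not_lt.1 hge)
  refine hnr ⟨hc.1, le_antisymm ?_ (inn_le_coreAut hS hc.1)⟩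
  intro a ha
  obtain ⟨g, hg⟩ : ∃ g : normalizerIn S R, conjMap S R g = a := by
    have h1 := coreAut_le hS hF hR ha
    rw [← range_conjMap] at h1
    exact h1
  have hgR : (g : Ω) ∈ R := e.ge ⟨g, (show conjMap S R g ∈ coreAut F p R from hg ▸ ha), rfl⟩
  refine ⟨⟨(g : Ω), hgR⟩, ?_⟩
  rw [← hg]
  exact MulEquiv.ext fun x => Subtype.ext rfl

/-- An automorphism extends to `plus`, which it normalizes, and to every subgroup of `N_S(R)` to
which some map extends it. -/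
theorem exists_big_extension (hS : IsPGroup p S) (hF : F.IsSaturated p) {R : Subgroup Ω}
    (hR : F.IsFullyNormalized R) {τ : MulAut R} (hτ : τ ∈ F.autGroup R) :
    ∃ ξ ∈ F.Hom (extender S R (autHom τ)), plus F p R ≤ extender S R (autHom τ) ∧
      (∀ (x : Ω) (hx : x ∈ R) (hN : x ∈ extender S R (autHom τ)),
        ξ ⟨x, hN⟩ = ((τ ⟨x, hx⟩ : R) : Ω)) ∧
      ∀ x : extender S R (autHom τ), (x : Ω) ∈ plus F p R → ξ x ∈ plus F p R := by
  obtain ⟨ξ, hξ, hext, hval⟩ := IsReceptive.extend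
    (IsSaturated.automized_receptive hS hF hR).2 (autHom_mem F hR.1 hτ) (range_autHom τ)
  have hle : plus F p R ≤ extender S R (autHom τ) := by
    intro g hg
    obtain ⟨hgN, hgc⟩ := mem_plus.1 hg
    obtain ⟨h, hh, he⟩ := mem_autInducedBy.1
      (coreAut_le hS hF hR (conj_mem_coreAut hτ hgc))
    refine mem_extender.2 ⟨hgN.1, hgN.2, h, hh, fun x hx => ?_⟩
    have h1 := he (τ x)
    rw [MulAut.mul_apply, MulAut.mul_apply, MulAut.inv_apply, MulEquiv.symm_apply_apply] at h1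
    exact h1
  refine ⟨ξ, hξ, hle, fun x hx hN => hext x hx hN, fun y hy => ?_⟩
  obtain ⟨hgN, hgc⟩ := mem_plus.1 hy
  refine mem_plus.2 ⟨hval y, ?_⟩
  have e : conjAut (hval y).2 = τ * conjAut hgN.2 * τ⁻¹ := by
    refine MulEquiv.ext fun x => Subtype.ext ?_
    show ξ y * (x : Ω) * (ξ y)⁻¹ = ((τ (conjAut hgN.2 (τ⁻¹ x)) : R) : Ω)
    have hRe : R ≤ extender S R (autHom τ) := (le_plus hS hR.1).trans hle
    have h1 := hext ((τ⁻¹ x : R) : Ω) (τ⁻¹ x).2 (hRe (τ⁻¹ x).2)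
    have h2 := hext ((conjAut hgN.2 (τ⁻¹ x) : R) : Ω) (conjAut hgN.2 (τ⁻¹ x)).2
      (hRe (conjAut hgN.2 (τ⁻¹ x)).2)
    have h3 : autHom τ (τ⁻¹ x) = (x : Ω) := congrArg Subtype.val (τ.apply_symm_apply x)
    refine Eq.trans ?_ h2
    rw [← h3, ← h1, ← map_inv, ← map_mul, ← map_mul]
    exact congrArg ξ (Subtype.ext rfl)
  rw [e]
  exact conj_mem_coreAut hτ hgc

/-- The weight of an automorphism of `R`, carried by an extension to `plus`. -/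
def Wt0 (p : ℕ) (π : F.autGroup S →* Δ) (R : Subgroup Ω) (τ : MulAut R) (d : Δ) : Prop :=
  ∃ ξ ∈ F.Hom (plus F p R), (∀ (x : Ω) (hx : x ∈ R) (hN : x ∈ plus F p R),
    ξ ⟨x, hN⟩ = ((τ ⟨x, hx⟩ : R) : Ω)) ∧ (∀ x, ξ x ∈ plus F p R) ∧ Wt p π d ξ

section Fixed

variable {R₀ : Subgroup Ω} (hS : IsPGroup p S) (hF : F.IsSaturated p)
  (hc : F.IsCentric R₀) (hR : F.IsFullyNormalized R₀) (hnr : ¬ F.IsRadical p R₀)
  (hbig : ∀ P : Subgroup Ω, F.IsCentric P → Nat.card R₀ < Nat.card P → CritTriv p π P)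

include hS hF hc hbig in
theorem wt_unique_of_agree {D : Subgroup Ω} (hRD : R₀ ≤ D) (hlt : Nat.card R₀ < Nat.card D)
    {μ μ' : D →* Ω} (hag : ∀ x : D, (x : Ω) ∈ R₀ → μ x = μ' x) {d d' : Δ}
    (h : Wt p π d μ) (h' : Wt p π d' μ') : d = d' := by
  have hDS := source_le h.mem
  obtain ⟨z, hz, -, hy⟩ := exists_conj_of_agree hS hF hRD hc h.mem h'.mem hag
  have hm : ∀ y, conjHom D (z : Ω) y ∈ D := fun y => conjHom_mem_self z.2 y
  have h1 : Wt p π (d * 1) μ' :=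
    (Wt.of_gen ((gen F p).conj_mem hDS hz.1)).comp hS h hm fun y => hy y
  rw [mul_one] at h1
  exact Wt.unique hS (isCentric_of_le hc hRD hDS)
    (fun P hP hcard => hbig P hP (hcard ▸ hlt)) h1 h'

include hS hF hc hR hnr hbig

theorem Wt0.unique {τ : MulAut R₀} {d d' : Δ} (h : Wt0 p π R₀ τ d) (h' : Wt0 p π R₀ τ d') :
    d = d' := by
  obtain ⟨ξ, -, he, -, hd⟩ := h
  obtain ⟨ξ', -, he', -, hd'⟩ := h'
  exact wt_unique_of_agree hS hF hc hbig (le_plus hS hR.1) (card_lt_plus hS hF hc hR hnr)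
    (fun x hx => (he x hx x.2).trans (he' x hx x.2).symm) hd hd'

omit hc hnr hbig in
theorem Wt0.mem {τ : MulAut R₀} {d : Δ} (h : Wt0 p π R₀ τ d) : τ ∈ F.autGroup R₀ := by
  obtain ⟨ξ, hξ, he, -, -⟩ := h
  refine mem_autGroup_of_hom F ?_
  have e : autHom τ = Fusion.restr (le_plus hS hR.1) ξ :=
    MonoidHom.ext fun x => (he x x.2 _).symm
  rw [e]
  exact restr_mem F hξ _

omit hc hnr hbig in
theorem Wt0.mul {τ σ : MulAut R₀} {d d' : Δ} (h : Wt0 p π R₀ τ d) (h' : Wt0 p π R₀ σ d') :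
    Wt0 p π R₀ (τ * σ) (d * d') := by
  obtain ⟨ξ, hξ, he, hv, hd⟩ := h
  obtain ⟨ζ, hζ, hf, hw, hd'⟩ := h'
  refine ⟨compose ζ ξ hw, compose_mem F hζ hξ hw, fun x hx hN => ?_, fun x => hv _,
    hd'.comp hS hd hw fun _ => rfl⟩
  have e : (⟨ζ ⟨x, hN⟩, hw _⟩ : plus F p R₀) =
      ⟨((σ ⟨x, hx⟩ : R₀) : Ω), le_plus hS hR.1 (σ ⟨x, hx⟩).2⟩ := Subtype.ext (hf x hx hN)
  rw [compose_apply, e, he _ (σ ⟨x, hx⟩).2]
  rfl

omit hc hnr hbig in
theorem Wt0.one : Wt0 p π R₀ 1 1 := by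
  have hle : plus F p R₀ ≤ S := (plus_le F p R₀).trans (normalizerIn_le S R₀)
  exact ⟨(plus F p R₀).subtype, subtype_mem F hle, fun x hx hN => rfl, fun x => x.2,
    Wt.of_gen (subtype_mem _ hle)⟩

/-- Any extension of `τ` to a larger subgroup of `N_S(R₀)` carries the weight of `τ`. -/
theorem Wt0.of_extension {D : Subgroup Ω} (hRD : R₀ ≤ D) (hlt : Nat.card R₀ < Nat.card D)
    (hD : D ≤ normalizerIn S R₀) {μ : D →* Ω} {d : Δ} (hd : Wt p π d μ) {τ : MulAut R₀}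
    (hτ : ∀ (x : R₀) (hx : (x : Ω) ∈ D), μ ⟨x, hx⟩ = ((τ x : R₀) : Ω)) :
    Wt0 p π R₀ τ d := by
  have hτF : τ ∈ F.autGroup R₀ := by
    refine mem_autGroup_of_hom F ?_
    have e : autHom τ = Fusion.restr hRD μ := MonoidHom.ext fun x => (hτ x (hRD x.2)).symm
    rw [e]
    exact restr_mem F hd.mem _
  obtain ⟨ξ, hξ, hle, hext, hv⟩ := exists_big_extension hS hF hR hτF
  obtain ⟨d₀, hd₀⟩ := exists_wt hS hF π hξ
  have hDe : D ≤ extender S R₀ (autHom τ) := by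
    intro g hg
    refine mem_extender.2 ⟨(hD hg).1, (hD hg).2, μ ⟨g, hg⟩, apply_mem hd.mem _, fun x hx => ?_⟩
    show ((τ ⟨g * x * g⁻¹, hx⟩ : R₀) : Ω) = μ ⟨g, hg⟩ * ((τ x : R₀) : Ω) * (μ ⟨g, hg⟩)⁻¹
    rw [← hτ _ (hRD hx), ← hτ x (hRD x.2), ← map_inv, ← map_mul, ← map_mul]
    exact congrArg μ (Subtype.ext rfl)
  have hdd : d = d₀ := wt_unique_of_agree hS hF hc hbig hRD hlt
    (fun x hx => (hτ ⟨x, hx⟩ x.2).trans (hext x hx (hDe x.2)).symm) hd (hd₀.restr hDe)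
  exact ⟨Fusion.restr hle ξ, restr_mem F hξ hle, fun x hx hN => hext x hx (hle hN),
    fun x => hv _ x.2, hdd ▸ hd₀.restr hle⟩

omit hnr in
theorem Wt0.exists_of_mem (hnr : ¬ F.IsRadical p R₀) {τ : MulAut R₀} (hτ : τ ∈ F.autGroup R₀) :
    ∃ d, Wt0 p π R₀ τ d := by
  obtain ⟨ξ, hξ, hle, hext, hv⟩ := exists_big_extension hS hF hR hτ
  obtain ⟨d₀, hd₀⟩ := exists_wt hS hF π hξ
  exact ⟨d₀, Fusion.restr hle ξ, restr_mem F hξ hle, fun x hx hN => hext x hx (hle hN),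
    fun x => hv _ x.2, hd₀.restr hle⟩

theorem Wt0.inv {τ : MulAut R₀} {d : Δ} (h : Wt0 p π R₀ τ d) : Wt0 p π R₀ τ⁻¹ d⁻¹ := by
  obtain ⟨e, he⟩ := Wt0.exists_of_mem hS hF hc hR hbig hnr (inv_mem (Wt0.mem hS hF hR h))
  have h1 := Wt0.mul hS hF hR h he
  rw [mul_inv_cancel] at h1
  have h2 := Wt0.unique hS hF hc hR hnr hbig h1 (Wt0.one hS hF hR)
  rwa [← eq_inv_of_mul_eq_one_right h2]

theorem Wt0.of_isPEl {τ : MulAut R₀} (hτ : τ ∈ F.autGroup R₀) (hp : IsPEl p τ) :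
    Wt0 p π R₀ τ 1 := by
  have hzp : IsPGroup p (Subgroup.zpowers τ) := by
    obtain ⟨k, hk⟩ := hp
    rintro ⟨x, hx⟩
    obtain ⟨n, rfl⟩ := Subgroup.mem_zpowers_iff.1 hx
    refine ⟨k, Subtype.ext ?_⟩
    show (τ ^ n) ^ p ^ k = 1
    rw [← zpow_natCast, zpow_comm, zpow_natCast, hk, one_zpow]
  obtain ⟨γ, hγ, hγτ⟩ := IsFullyAutomized.exists_conj
    (IsSaturated.automized_receptive hS hF hR).1 (Subgroup.zpowers_le.2 hτ) hzp
  obtain ⟨g, hgN, hgS, hge⟩ := mem_autInducedBy_iff_conjAut.1 (hγτ _ (Subgroup.mem_zpowers _))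
  have hgN' : g ∈ normalizerIn S R₀ := ⟨hgS, hgN⟩
  have hlt : Nat.card R₀ < Nat.card (normalizerIn S R₀) := by
    have := finite_of_le (normalizerIn_le S R₀)
    exact (card_lt_plus hS hF hc hR hnr).trans_le (Subgroup.card_le_of_le (plus_le F p R₀))
  have h1 : Wt0 p π R₀ (γ * τ * γ⁻¹) 1 := by
    refine Wt0.of_extension hS hF hc hR hnr hbig (le_normalizerIn hR.1) hlt le_rfl
      (μ := conjHom (normalizerIn S R₀) g)
      (Wt.of_gen ((gen F p).conj_mem (normalizerIn_le S R₀) hgS)) fun x hx => ?_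
    rw [← hge]
    rfl
  obtain ⟨e, he⟩ := Wt0.exists_of_mem hS hF hc hR hbig hnr hγ
  have h2 := Wt0.mul hS hF hR (Wt0.mul hS hF hR (Wt0.inv hS hF hc hR hnr hbig he) h1) he
  rwa [mul_one, inv_mul_cancel, show γ⁻¹ * (γ * τ * γ⁻¹) * γ = τ by group] at h2

/-- The maps whose transports to `R₀` have the expected weight. -/
def WGood (F : FusionSystem S) (p : ℕ) (π : F.autGroup S →* Δ) (R₀ : Subgroup Ω) {P : Subgroup Ω}
    (φ : P →* Ω) : Prop :=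
  ∀ R : Subgroup Ω, R ≤ P → ∀ R' : Subgroup Ω, img φ R = R' →
    ∀ ψ ∈ F.Hom (normalizerIn S R), img ψ R = R₀ →
    ∀ ψ' ∈ F.Hom (normalizerIn S R'), img ψ' R' = R₀ →
    ∀ d d', Wt p π d ψ → Wt p π d' ψ' → ∀ τ : MulAut R₀,
      (∀ (x : Ω) (hx : x ∈ P), x ∈ R → ∀ (hN : x ∈ normalizerIn S R)
        (hN' : φ ⟨x, hx⟩ ∈ normalizerIn S R') (hq : ψ ⟨x, hN⟩ ∈ R₀),
        ((τ ⟨ψ ⟨x, hN⟩, hq⟩ : R₀) : Ω) = ψ' ⟨φ ⟨x, hx⟩, hN'⟩) →
      Wt0 p π R₀ τ (d' * d⁻¹)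

theorem wgood_of_lt {P W : Subgroup Ω} (hPW : P ≤ W) (hW : W ≤ S)
    {χ : W →* Ω} (hχ : Wt p π 1 χ) {R : Subgroup Ω} (hRP : R ≤ P) (hne : R ≠ W)
    {R' : Subgroup Ω} (hR' : img (Fusion.restr hPW χ) R = R') {ψ : normalizerIn S R →* Ω}
    (hψ : ψ ∈ F.Hom (normalizerIn S R)) (hψR : img ψ R = R₀) {ψ' : normalizerIn S R' →* Ω}
    (hψ' : ψ' ∈ F.Hom (normalizerIn S R')) (hψR' : img ψ' R' = R₀) {d d' : Δ}
    (hd : Wt p π d ψ) (hd' : Wt p π d' ψ') {τ : MulAut R₀}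
    (hτ : ∀ (x : Ω) (hx : x ∈ P), x ∈ R → ∀ (hN : x ∈ normalizerIn S R)
      (hN' : Fusion.restr hPW χ ⟨x, hx⟩ ∈ normalizerIn S R') (hq : ψ ⟨x, hN⟩ ∈ R₀),
      ((τ ⟨ψ ⟨x, hN⟩, hq⟩ : R₀) : Ω) = ψ' ⟨Fusion.restr hPW χ ⟨x, hx⟩, hN'⟩) :
    Wt0 p π R₀ τ (d' * d⁻¹) := by
  have hRW : R ≤ W := hRP.trans hPW
  have hRS : R ≤ S := hRW.trans hW
  have := finite_of_le hW
  have hlt := lt_normalizerIn (hS.to_le hW) (lt_of_le_of_ne hRW hne) (S := W)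
  set D := normalizerIn W R with hD
  have hDN : D ≤ normalizerIn S R := fun g hg => ⟨hW hg.1, hg.2⟩
  have hDW : D ≤ W := normalizerIn_le W R
  set ψ₀ := Fusion.restr hDN ψ with hψ₀
  have hψ₀F : ψ₀ ∈ F.Hom D := restr_mem F hψ hDN
  obtain ⟨c, hc', hcr, hcl, -⟩ := exists_inv F hψ₀F rfl
  have hcD : ∀ y, c y ∈ W := fun y => hDW (hcr.le ⟨y, rfl⟩)
  have hR'S : R' ≤ S := hR' ▸ (img_le_range _ R).trans (range_le (restr_mem F hχ.mem hPW))
  have hval : ∀ y, compose c χ hcD y ∈ normalizerIn S R' := by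
    intro y
    obtain ⟨g, hg⟩ : ∃ g : D, (g : Ω) = c y := ⟨⟨c y, hcr.le ⟨y, rfl⟩⟩, rfl⟩
    refine ⟨apply_mem hχ.mem _, ?_⟩
    have := finite_of_le hR'S
    refine mem_normalizer_of_finite fun z hz => ?_
    rw [← hR'] at hz ⊢
    obtain ⟨x, hx, rfl⟩ := hz
    show χ ⟨c y, _⟩ * χ ⟨x, hPW x.2⟩ * (χ ⟨c y, _⟩)⁻¹ ∈ _
    rw [← map_inv, ← map_mul, ← map_mul]
    have hmem : c y * (x : Ω) * (c y)⁻¹ ∈ R := by
      rw [← hg]
      exact conj_mem_of_mem_normalizer g.2.2 hx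
    exact ⟨⟨_, hRP hmem⟩, hmem, rfl⟩
  have hμ : Wt p π (d' * (1 * d⁻¹)) (compose (compose c χ hcD) ψ' hval) :=
    (((hd.restr hDN).inv hS rfl hcl).comp hS hχ hcD fun _ => rfl).comp hS hd' hval fun _ => rfl
  rw [one_mul] at hμ
  have hRD : R ≤ D := le_normalizerIn hRW
  have hQD : R₀ ≤ ψ₀.range := by
    intro q hq
    obtain ⟨x, hx, rfl⟩ := hψR.ge hq
    exact ⟨⟨x, hRD hx⟩, rfl⟩
  refine Wt0.of_extension hS hF hc hR hnr hbig hQD ?_ ?_ hμ ?_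
  · have := finite_of_le (hDW.trans hW)
    rw [card_range_eq (F.injective_of_mem hψ₀F), ← hψR, card_img (F.injective_of_mem hψ)
      (le_normalizerIn hRS)]
    by_contra hge
    exact hlt.ne (Subgroup.eq_of_le_of_card_ge hlt.le (not_lt.1 hge))
  · rintro _ ⟨x, rfl⟩
    exact apply_mem_normalizerIn hψ hRS hψR _
  · intro q hq
    obtain ⟨x, hx, hxq⟩ := hψR.ge q.2
    let x₀ : D := ⟨x, hRD hx⟩
    have e1 : (⟨(q : Ω), hq⟩ : ψ₀.range) = ⟨ψ₀ x₀, ⟨x₀, rfl⟩⟩ := Subtype.ext hxq.symm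
    rw [e1]
    show ψ' ⟨χ ⟨c ⟨ψ₀ x₀, _⟩, _⟩, _⟩ = _
    have hN' : Fusion.restr hPW χ ⟨x, hRP hx⟩ ∈ normalizerIn S R' :=
      le_normalizerIn hR'S (hR' ▸ apply_mem_img _ _ hx)
    refine Eq.trans (congrArg ψ' (Subtype.ext (a2 := ⟨Fusion.restr hPW χ ⟨x, hRP hx⟩, hN'⟩)
      (congrArg χ (Subtype.ext (hcl x₀ _))))) ?_
    have h1 := hτ x (hRP hx) hx x.2 hN' (hxq ▸ q.2)
    rw [show (⟨ψ ⟨x, x.2⟩, hxq ▸ q.2⟩ : R₀) = q from Subtype.ext hxq] at h1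
    exact h1.symm

theorem wgood_of_isPEl {W : Subgroup Ω} (hW : F.IsCentric W) {χ : MulAut W}
    (hχ : χ ∈ F.autGroup W) (hp : IsPEl p χ) : WGood F p π R₀ (autHom χ) := by
  intro R hRW R' hR' ψ hψ hψR ψ' hψ' hψR' d d' hd hd' τ hτ
  by_cases hne : R = W
  swap
  · exact wgood_of_lt hS hF hc hR hnr hbig le_rfl hW.1
      (Wt.of_gen (genProp_gen F p W hW χ hχ hp)) hRW hne (R' := R') hR' hψ hψR hψ' hψR' hd hd' hτ
  subst hne
  have hRR : R = R' := ((range_autHom χ).symm.trans (img_self _).symm).trans hR'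
  subst hRR
  have hRS := hW.1
  have hRN := le_normalizerIn (S := S) hRS
  have hf : Fusion.restr hRN ψ ∈ F.Hom R := restr_mem F hψ hRN
  have hfr : (Fusion.restr hRN ψ).range = R₀ := (range_restr _ _).trans hψR
  set i := isoOf _ (F.injective_of_mem hf) hfr with hi
  have hσ : MulAut.congr i χ ∈ F.autGroup R₀ := exists_mulAut_congr F hf hfr hχ
  have hσ1 := Wt0.of_isPEl hS hF hc hR hnr hbig (π := π) hσ (hp.map (MulAut.congr i).toMonoidHom)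
  obtain ⟨c, hc', hcr, hcl, -⟩ := exists_inv F hψ rfl
  have hcN : ∀ y, c y ∈ normalizerIn S R := fun y => hcr.le ⟨y, rfl⟩
  have h1 : Wt0 p π R₀ (τ * (MulAut.congr i χ)⁻¹) (d' * d⁻¹) := by
    refine Wt0.of_extension hS hF hc hR hnr hbig (μ := compose c ψ' hcN)
      (fun q hq => ?_) ?_ ?_ ((hd.inv hS rfl hcl).comp hS hd' hcN fun _ => rfl) ?_
    · obtain ⟨x, -, rfl⟩ := hψR.ge hq
      exact ⟨x, rfl⟩
    · rw [card_range_eq (F.injective_of_mem hψ), ← hψR, card_img (F.injective_of_mem hψ) hRN]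
      have := finite_of_le (normalizerIn_le S R)
      by_contra hge
      have e := Subgroup.eq_of_le_of_card_ge hRN (not_lt.1 hge)
      rcases hRS.eq_or_lt with e' | hlt
      · subst e'
        have h0 : Nat.card R = Nat.card R₀ := by rw [← hψR, card_img (F.injective_of_mem hψ) hRN]
        have h2 := card_lt_plus hS hF hc hR hnr
        have h3 := Subgroup.card_le_of_le ((plus_le F p R₀).trans (normalizerIn_le R R₀))
        omega
      · exact (lt_normalizerIn hS hlt).ne e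
    · rintro _ ⟨x, rfl⟩
      exact apply_mem_normalizerIn hψ hRS hψR x
    · intro q hq
      obtain ⟨x, rfl⟩ := i.surjective q
      have e0 : ((i x : R₀) : Ω) = ψ ⟨x, hRN x.2⟩ := isoOf_coe _ _ _ x
      have e1 : (MulAut.congr i χ)⁻¹ (i x) = i (χ⁻¹ x) := by
        rw [MulAut.inv_apply, MulEquiv.symm_apply_eq]
        show i x = i (χ (i.symm (i (χ⁻¹ x))))
        rw [MulEquiv.symm_apply_apply, MulAut.inv_apply, MulEquiv.apply_symm_apply]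
      rw [MulAut.mul_apply, e1]
      have hy : autHom χ (χ⁻¹ x) = (x : Ω) := congrArg Subtype.val (χ.apply_symm_apply x)
      have hN' : autHom χ (χ⁻¹ x) ∈ normalizerIn S R := hy.symm ▸ hRN x.2
      have e2 : ((i (χ⁻¹ x) : R₀) : Ω) = ψ ⟨_, hRN (χ⁻¹ x).2⟩ := isoOf_coe _ _ _ _
      have h4 := hτ _ (χ⁻¹ x).2 (χ⁻¹ x).2 (hRN (χ⁻¹ x).2) hN' (e2 ▸ (i (χ⁻¹ x)).2)
      rw [show (⟨ψ ⟨_, hRN (χ⁻¹ x).2⟩, e2 ▸ (i (χ⁻¹ x)).2⟩ : R₀) = i (χ⁻¹ x) from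
        Subtype.ext e2.symm] at h4
      rw [h4, compose_apply]
      refine congrArg ψ' (Subtype.ext ?_)
      refine Eq.trans ?_ hy.symm
      refine Eq.trans (congrArg c (Subtype.ext ?_)) (hcl ⟨x, hRN x.2⟩ ⟨_, rfl⟩)
      exact e0
  have h2 := Wt0.mul hS hF hR h1 hσ1
  rwa [inv_mul_cancel_right, mul_one] at h2

/-- The good maps. -/
def wgoodSystem : FusionSystem S where
  Hom P := {φ | φ ∈ F.Hom P ∧ WGood F p π R₀ φ}
  le_of_mem h := F.le_of_mem h.1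
  injective_of_mem h := F.injective_of_mem h.1
  conj_mem {P g} hP hg := by
    refine ⟨F.conj_mem hP hg, fun R hRP R' hR' ψ hψ hψR ψ' hψ' hψR' d d' hd hd' τ hτ => ?_⟩
    refine wgood_of_lt hS hF hc hR hnr hbig hP le_rfl (χ := conjHom S g)
      (Wt.of_gen ((gen F p).conj_mem le_rfl hg)) hRP ?_ (R' := R') hR' hψ hψR hψ' hψR' hd hd' hτ
    intro e
    subst e
    have h0 : Nat.card R = Nat.card R₀ := by
      rw [← hψR, card_img (F.injective_of_mem hψ) (le_normalizerIn le_rfl)]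
    have h2 := card_lt_plus hS hF hc hR hnr
    have h3 := Subgroup.card_le_of_le ((plus_le F p R₀).trans (normalizerIn_le R R₀))
    omega
  comp_mem {P P' φ χ} hφ hχ h := by
    obtain ⟨hφF, hgφ⟩ := hφ
    obtain ⟨hχF, hgχ⟩ := hχ
    refine ⟨F.comp_mem hφF hχF h, fun R hRP R'' hR'' ψ hψ hψR ψ'' hψ'' hψR'' d d'' hd hd'' τ hτ => ?_⟩
    set φR := Fusion.restr hRP φ with hφR
    set R' := φR.range with hR'
    have hR'P : R' ≤ P' := by
      rintro _ ⟨x, rfl⟩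
      exact h _
    have hconj : F.IsConj R' R₀ := by
      refine isConj_trans (isConj_symm ⟨φR, restr_mem F hφF hRP, rfl⟩) (hψR ▸ ?_)
      exact isConj_img F hψ (le_normalizerIn ((hRP.trans (source_le hφF))))
    obtain ⟨ψm, hψm, -, hψmR⟩ := IsSaturated.exists_normalizer_map hS hF hR hconj
    obtain ⟨dm, hdm⟩ := exists_wt hS hF π hψm
    set χR := Fusion.restr hR'P χ
    have hRR : χR.range = R'' := by
      rw [range_restr, hR', hφR, range_restr, ← img_img φ χ h]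
      exact hR''
    subst hRR
    obtain ⟨τ₁, -, H₁⟩ := exists_transport (restr_mem F hφF hRP) hψ hψR hψm hψmR
    obtain ⟨τ₂, -, H₂⟩ := exists_transport (restr_mem F hχF hR'P) hψm hψmR hψ'' hψR''
    have g₁ := hgφ R hRP R' (range_restr hRP φ).symm ψ hψ hψR ψm hψm hψmR d dm hd hdm τ₁
      fun x hx hxR hN hN' hq => H₁ ⟨x, hxR⟩ hN hN' hq
    have g₂ := hgχ R' hR'P χR.range (range_restr hR'P χ).symm ψm hψm hψmR ψ'' hψ'' hψR'' dm d''
      hdm hd'' τ₂ fun x hx hxR hN hN' hq => H₂ ⟨x, hxR⟩ hN hN' hq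
    have e : τ = τ₂ * τ₁ := by
      refine MulEquiv.ext fun y => Subtype.ext ?_
      obtain ⟨x, hxR, hxy⟩ := hψR.ge y.2
      have hy : y = ⟨ψ x, hxy ▸ y.2⟩ := Subtype.ext hxy.symm
      have hm : φR ⟨x, hxR⟩ ∈ normalizerIn S R' :=
        le_normalizerIn (range_le (restr_mem F hφF hRP)) ⟨_, rfl⟩
      have hmQ : ψm ⟨φR ⟨x, hxR⟩, hm⟩ ∈ R₀ :=
        hψmR ▸ apply_mem_img ψm _ (R := R') ⟨⟨x, hxR⟩, rfl⟩
      have hn : χR ⟨φR ⟨x, hxR⟩, ⟨_, rfl⟩⟩ ∈ normalizerIn S χR.range :=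
        le_normalizerIn (range_le (restr_mem F hχF hR'P)) ⟨_, rfl⟩
      rw [hy, hτ x (hRP hxR) hxR x.2 hn _, MulAut.mul_apply,
        show τ₁ ⟨ψ x, hxy ▸ y.2⟩ = ⟨ψm ⟨φR ⟨x, hxR⟩, hm⟩, hmQ⟩ from
          Subtype.ext (H₁ ⟨x, hxR⟩ x.2 hm _)]
      exact (H₂ ⟨φR ⟨x, hxR⟩, ⟨_, rfl⟩⟩ hm hn hmQ).symm
    rw [e, show d'' * d⁻¹ = d'' * dm⁻¹ * (dm * d⁻¹) by group]
    exact Wt0.mul hS hF hR g₂ g₁
  inv_mem {P φ} hφ := by
    obtain ⟨hφF, hgφ⟩ := hφ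
    obtain ⟨c, hc', hcr, hl, hl'⟩ := exists_inv F hφF rfl
    refine ⟨c, ⟨hc', fun R hR₁ R' hR' ψ hψ hψR ψ' hψ' hψR' d d' hd₁ hd₂ τ hτ => ?_⟩,
      fun x => hl x _⟩
    have hR'P : R' ≤ P := hR' ▸ (img_le_range c R).trans hcr.le
    have himg : img φ R' = R := by
      ext z
      constructor
      · rintro ⟨y, hy, rfl⟩
        have hy' : (y : Ω) ∈ img c R := hR' ▸ hy
        obtain ⟨w, hw, hwy⟩ := hy'
        have : φ y = w := by
          have e : y = ⟨c w, hwy ▸ y.2⟩ := Subtype.ext hwy.symm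
          rw [e]
          exact hl' w _
        rw [this]
        exact hw
      · intro hz
        obtain ⟨y, hy⟩ := hR₁ hz
        have hcy : c ⟨z, hR₁ hz⟩ = (y : Ω) := by
          simp only [← hy]
          exact hl y _
        exact ⟨y, hR' ▸ ⟨⟨z, hR₁ hz⟩, hz, hcy⟩, hy⟩
    have g := hgφ R' hR'P R himg ψ' hψ' hψR' ψ hψ hψR d' d hd₂ hd₁ τ⁻¹
      fun x hx hxR hN hN' hq => by
        have hq' : ψ ⟨φ ⟨x, hx⟩, hN'⟩ ∈ R₀ :=
          hψR ▸ apply_mem_img ψ _ (himg ▸ apply_mem_img φ ⟨x, hx⟩ hxR)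
        have hxc : c ⟨φ ⟨x, hx⟩, ⟨_, rfl⟩⟩ = x := hl ⟨x, hx⟩ _
        have hN'' : c ⟨φ ⟨x, hx⟩, ⟨_, rfl⟩⟩ ∈ normalizerIn S R' := by rw [hxc]; exact hN
        have h1 := hτ (φ ⟨x, hx⟩) ⟨_, rfl⟩ (himg ▸ apply_mem_img φ ⟨x, hx⟩ hxR) hN' hN'' hq'
        simp only [hxc] at h1
        have h2 : τ ⟨ψ ⟨φ ⟨x, hx⟩, hN'⟩, hq'⟩ = ⟨ψ' ⟨x, hN⟩, hq⟩ := Subtype.ext h1
        rw [← h2, MulAut.inv_apply, MulEquiv.symm_apply_apply]
    have := Wt0.inv hS hF hc hR hnr hbig g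
    rwa [inv_inv, show (d * d'⁻¹)⁻¹ = d' * d⁻¹ by group] at this

theorem critTriv_of_conj {P : Subgroup Ω} (hP : F.IsConj P R₀) : CritTriv p π P := by
  intro α hPS hα
  have hgen : GenProp F p (wgoodSystem (π := π) hS hF hc hR hnr hbig) := fun W hW χ hχ hp =>
    ⟨autHom_mem F hW.1 hχ, wgood_of_isPEl hS hF hc hR hnr hbig hW hχ hp⟩
  obtain ⟨-, hgood⟩ := gen_le_of hgen P hα
  set φ := Fusion.restr hPS (autHom (α : MulAut S)) with hφ
  set P' := img φ P with hP'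
  obtain ⟨ψ, hψ, -, hψP⟩ := IsSaturated.exists_normalizer_map hS hF hR hP
  obtain ⟨d, hd⟩ := exists_wt hS hF π hψ
  have hP'S : P' ≤ S := (img_le_range φ P).trans (range_le (gen_le F p P hα))
  set a := Fusion.restr (normalizerIn_le S P') (autHom (α : MulAut S)⁻¹) with ha
  have haF : a ∈ F.Hom (normalizerIn S P') :=
    restr_mem F (autHom_mem F le_rfl (inv_mem α.2)) _
  have haP : img a P' = P := by
    ext y
    constructor
    · rintro ⟨z, ⟨x, hx, hxz⟩, rfl⟩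
      show autHom (α : MulAut S)⁻¹ ⟨(z : Ω), _⟩ ∈ P
      have e : (⟨(z : Ω), normalizerIn_le S P' z.2⟩ : S) =
          ⟨autHom (α : MulAut S) ⟨x, hPS x.2⟩, ((α : MulAut S) _).2⟩ := Subtype.ext hxz.symm
      rw [e]
      exact (congrArg (· ∈ P) (autHom_apply_inv ⟨(x : Ω), hPS x.2⟩ _)).mpr x.2
    · intro hy
      refine ⟨⟨φ ⟨y, hy⟩, le_normalizerIn hP'S (apply_mem_img φ ⟨y, hy⟩ hy)⟩,
        apply_mem_img φ ⟨y, hy⟩ hy, ?_⟩
      exact autHom_apply_inv ⟨y, hPS hy⟩ _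
  have haN : ∀ y, a y ∈ normalizerIn S P := fun y => apply_mem_normalizerIn haF hP'S haP y
  set ψ' := compose a ψ haN with hψ'
  have hψ'P : img ψ' P' = R₀ := by
    rw [hψ', img_img, haP, hψP]
  have hd' : Wt p π (d * (π α)⁻¹) ψ' := by
    refine Wt.comp hS ?_ hd haN fun _ => rfl
    exact ⟨α⁻¹, (Dec.autHom_self (inv_mem α.2)).restr _, map_inv π α⟩
  have h1 := hgood P le_rfl P' rfl ψ hψ hψP ψ' (compose_mem F haF hψ haN) hψ'P d _ hd hd' 1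
    fun x hx _ hN hN' hq => by
      show ψ ⟨x, hN⟩ = ψ ⟨a ⟨φ ⟨x, hx⟩, hN'⟩, _⟩
      exact congrArg ψ (Subtype.ext (autHom_apply_inv ⟨x, hPS hx⟩ _).symm)
  have h2 := Wt0.unique hS hF hc hR hnr hbig h1 (Wt0.one hS hF hR)
  rw [mul_inv_eq_one] at h2
  simpa using h2

end Fixed

/-- The reduction to the centric radical subgroups. -/
theorem baseAut_le_ker (hS : IsPGroup p S) (hF : F.IsSaturated p) (π : F.autGroup S →* Δ)
    (hrad : ∀ P R₀ : Subgroup Ω, F.IsCentric P → F.IsConj P R₀ → F.IsFullyNormalized R₀ →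
      F.IsRadical p R₀ → CritTriv p π P) :
    baseAut F p ≤ π.ker.map (F.autGroup S).subtype := by
  refine (Subgroup.closure_le _).2 ?_
  rintro α ⟨hα, P, hP, hPc, hαP⟩
  suffices key : ∀ n, ∀ P : Subgroup Ω, F.IsCentric P → Nat.card S ≤ Nat.card P + n →
      CritTriv p π P from
    ⟨⟨α, hα⟩, key (Nat.card S) P hPc (Nat.le_add_left _ _) ⟨α, hα⟩ hP hαP, rfl⟩
  intro n
  induction n using Nat.strong_induction_on with
  | _ n ih =>
  intro P hPc hn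
  obtain ⟨R₀, hPR, hR⟩ := exists_fullyNormalized F hPc.1
  by_cases hr : F.IsRadical p R₀
  · exact hrad P R₀ hPc hPR hR hr
  have hc : F.IsCentric R₀ := isCentric_of_isConj hPc hPR
  refine critTriv_of_conj hS hF hc hR hr (fun W hW hlt => ?_) hPR
  have h1 := Subgroup.card_le_of_le hW.1
  have h2 := isConj_card hPR
  exact ih (Nat.card S - Nat.card W) (by omega) W hW (by omega)

end Cfsg.Agent.Lib.Fusion.PrimeIndex
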