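import Cfsg.Agent.Lib.Fusion.PrimeIndex.Extension

/-!
The subsystems of index prime to `p` given by the subgroups of `Aut_F(S)` above the forced one.
-/

set_option autoImplicit false
set_option linter.unusedSectionVars false

namespace Cfsg.Agent.Lib.Fusion.PrimeIndex

open Cfsg Cfsg.FusionSystem

variable {Ω : Type*} [Group Ω] {S : Subgroup Ω} {p : ℕ} [Fact p.Prime] [Finite S]
  {F : FusionSystem S}

/-- The maps with a label in `B'`. -/
def subSystem (hS : IsPGroup p S) (F : FusionSystem S) (B' : Subgroup (MulAut S)) :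
    FusionSystem S where
  Hom P := {φ | φ ∈ F.Hom P ∧ ∃ α ∈ B', Lab F p α φ}
  le_of_mem h := F.le_of_mem h.1
  injective_of_mem h := F.injective_of_mem h.1
  conj_mem hP hg := ⟨F.conj_mem hP hg, 1, one_mem _, Lab.of_gen ((gen F p).conj_mem hP hg)⟩
  comp_mem := by
    rintro P Q φ ψ ⟨hφ, α, hαB, hα⟩ ⟨hψ, β, hβB, hβ⟩ h
    exact ⟨F.comp_mem hφ hψ h, β * α, mul_mem hβB hαB, hα.comp hS hβ h fun _ => rfl⟩
  inv_mem := by
    rintro P φ ⟨hφ, α, hαB, hα⟩
    obtain ⟨c, hc, -, hl, -⟩ := exists_inv F hφ rfl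
    exact ⟨c, ⟨hc, α⁻¹, inv_mem hαB, hα.inv hS rfl hl⟩, fun x => hl x _⟩

theorem subSystem_le (hS : IsPGroup p S) (B' : Subgroup (MulAut S)) : subSystem hS F B' ≤ F :=
  fun _ _ h => h.1

theorem gen_le_subSystem (hS : IsPGroup p S) (B' : Subgroup (MulAut S)) :
    gen F p ≤ subSystem hS F B' :=
  fun P _ h => ⟨gen_le F p P h, 1, one_mem _, Lab.of_gen h⟩

theorem isCentric_self (F : FusionSystem S) : F.IsCentric S := by
  refine ⟨le_rfl, fun R hR => ?_⟩
  obtain ⟨φ, hφ, rfl⟩ := hR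
  have : φ.range = S := Subgroup.eq_of_le_of_card_ge (range_le hφ)
    (card_range_eq (F.injective_of_mem hφ)).ge
  rw [this]
  exact centralizerIn_le S S

theorem mem_autGroup_subSystem (hS : IsPGroup p S) {B' : Subgroup (MulAut S)}
    (hB : baseAut F p ≤ B') (hB' : B' ≤ F.autGroup S) {α : MulAut S} :
    α ∈ (subSystem hS F B').autGroup S ↔ α ∈ B' := by
  constructor
  · intro hα
    obtain ⟨hαF, β, hβ, hβα⟩ := autHom_mem (subSystem hS F B') le_rfl hα
    have h1 := Lab.unique hS (isCentric_self F)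
      (Lab.autHom_self (mem_autGroup_of_hom F hαF)) hβα
    have h2 := mul_mem hβ (hB h1)
    rwa [mul_inv_cancel_left] at h2
  · exact fun hα => mem_autGroup_of_hom _
      ⟨autHom_mem F le_rfl (hB' hα), α, hα, Lab.autHom_self (hB' hα)⟩

/-- A subgroup carried onto a fully normalized one by an automorphism of `S` is fully normalized. -/
theorem fullyNormalized_of_aut {α : MulAut S} (hα : α ∈ F.autGroup S) {Q R : Subgroup Ω}
    (hQ : F.IsFullyNormalized Q) (hR : R ≤ S) (h : img (autHom α) R = Q) :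
    F.IsFullyNormalized R := by
  have hRQ : F.IsConj R Q := h ▸ isConj_img F (autHom_mem F le_rfl hα) hR
  have hi := restr_mem F (autHom_mem F le_rfl (inv_mem hα)) (normalizerIn_le S Q)
  have himg : img (restr (normalizerIn_le S Q) (autHom α⁻¹)) Q = R := by
    rw [img_restr _ _ (le_normalizerIn hQ.1)]
    ext y
    constructor
    · rintro ⟨z, hz, rfl⟩
      obtain ⟨x, hx, hxz⟩ := h.ge hz
      have e : z = ⟨autHom α x, (α x).2⟩ := Subtype.ext hxz.symm
      rw [e]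
      exact (congrArg (· ∈ R) (autHom_apply_inv x _)).mpr hx
    · intro hy
      exact ⟨⟨autHom α ⟨y, hR hy⟩, (α _).2⟩, h ▸ apply_mem_img _ ⟨y, hR hy⟩ hy,
        autHom_apply_inv ⟨y, hR hy⟩ _⟩
  refine ⟨hR, fun R' hR' => (hQ.2 R' (isConj_trans (isConj_symm hRQ) hR')).trans ?_⟩
  have := finite_of_le (normalizerIn_le S R)
  have hinj := F.injective_of_mem hi
  refine Nat.card_le_card_of_injective (fun g => (⟨_, apply_mem_normalizerIn hi hQ.1 himg g⟩ :
    normalizerIn S R)) ?_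
  intro a b hab
  exact @hinj a b (congrArg (fun z : normalizerIn S R => (z : Ω)) hab)

theorem automized_subSystem (hS : IsPGroup p S) (hF : F.IsSaturated p) (B' : Subgroup (MulAut S))
    {Q : Subgroup Ω} (hQ : F.IsFullyNormalized Q) :
    (subSystem hS F B').IsFullyAutomized p Q := by
  set E := subSystem hS F B'
  have hle : E.autGroup Q ≤ F.autGroup Q := fun a ha =>
    mem_autGroup_of_hom F (autHom_mem E hQ.1 ha).1
  have hc := IsFullyAutomized.card_eq (IsSaturated.automized_receptive hS hF hQ).1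
  refine isFullyAutomized_of_card hQ.1 (hc.trans ?_)
  have := finite_mulAut hQ.1
  have hp := (Fact.out : p.Prime)
  refine congrArg (p ^ ·) (le_antisymm ?_ ?_)
  · refine (hp.pow_dvd_iff_le_factorization Nat.card_pos.ne').1 ?_
    rw [← hc]
    exact Subgroup.card_dvd_of_le (autInducedBy_le_autGroup E hQ.1)
  · exact (Nat.factorization_le_iff_dvd Nat.card_pos.ne' Nat.card_pos.ne').2
      (Subgroup.card_dvd_of_le hle) p

/-- The automorphisms of `X` fixing `Q` pointwise. -/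
def fixAut (F : FusionSystem S) (Q X : Subgroup Ω) : Subgroup (MulAut X) where
  carrier := {a | a ∈ F.autGroup X ∧ ∀ x : X, (x : Ω) ∈ Q → a x = x}
  one_mem' := ⟨one_mem _, fun _ _ => rfl⟩
  mul_mem' {a b} ha hb := ⟨mul_mem ha.1 hb.1, fun x hx => by
    rw [MulAut.mul_apply, hb.2 x hx, ha.2 x hx]⟩
  inv_mem' {a} ha := ⟨inv_mem ha.1, fun x hx => by
    conv_lhs => rw [← ha.2 x hx]
    rw [MulAut.inv_apply, MulEquiv.symm_apply_apply]⟩

/-- An automorphism of `p`-power order of `Q C_S(Q)` fixing `Q` is induced by `C_S(Q)`. -/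
theorem fixAut_pel_induced (hS : IsPGroup p S) (hF : F.IsSaturated p) {Q : Subgroup Ω}
    (hQ : F.IsFullyCentralized Q) {a : MulAut (ctr S Q)} (ha : a ∈ fixAut F Q (ctr S Q))
    (hp : IsPEl p a) : a ∈ autInducedBy (centralizerIn S Q) (ctr S Q) := by
  have hXS : (ctr S Q) ≤ S := ctr_le hQ.1
  obtain ⟨M, hXM, hM⟩ := exists_fullyNormalized F hXS
  obtain ⟨φ, hφ, hr⟩ := hXM
  let i := isoOf φ (F.injective_of_mem hφ) hr
  have hzp : IsPGroup p (Subgroup.zpowers (MulAut.congr i a)) := by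
    obtain ⟨k, hk⟩ := hp.map (MulAut.congr i).toMonoidHom
    rintro ⟨x, hx⟩
    obtain ⟨n, rfl⟩ := Subgroup.mem_zpowers_iff.1 hx
    refine ⟨k, Subtype.ext ?_⟩
    show ((MulAut.congr i a) ^ n) ^ p ^ k = 1
    rw [← zpow_natCast, zpow_comm, zpow_natCast]
    rw [show (MulAut.congr i a) ^ p ^ k = 1 from hk, one_zpow]
  obtain ⟨γ, hγ, hγa⟩ := IsFullyAutomized.exists_conj
    (IsSaturated.automized_receptive hS hF hM).1
    (Subgroup.zpowers_le.2 (exists_mulAut_congr F hφ hr ha.1)) hzp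
  obtain ⟨s, hs, hse⟩ := mem_autInducedBy.1 (hγa _ (Subgroup.mem_zpowers _))
  have hφM : ∀ x, φ x ∈ M := fun x => hr ▸ ⟨x, rfl⟩
  let φ' := compose φ (autHom γ) hφM
  have hφ' : φ' ∈ F.Hom (ctr S Q) := compose_mem F hφ (autHom_mem F hM.1 hγ) hφM
  have hφ'M : ∀ x, φ' x ∈ M := fun x => (γ _).2
  have key : ∀ x : (ctr S Q), s * φ' x * s⁻¹ = φ' (a x) := by
    intro x
    have h3 := hse ⟨φ' x, hφ'M x⟩
    rw [← h3]
    show ((γ (MulAut.congr i a (γ.symm (γ (i x)))) : M) : Ω) = ((γ (i (a x)) : M) : Ω)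
    rw [MulEquiv.symm_apply_apply]
    show ((γ (i (a (i.symm (i x)))) : M) : Ω) = _
    rw [MulEquiv.symm_apply_apply]
  have hC : centralizerIn S Q ≤ (ctr S Q) := le_sup_right
  have heq : img φ' (centralizerIn S Q) = centralizerIn S (img φ' Q) := by
    have hle : img φ' (centralizerIn S Q) ≤ centralizerIn S (img φ' Q) := by
      rintro _ ⟨c, hc, rfl⟩
      refine mem_centralizerIn.2 ⟨apply_mem hφ' c, ?_⟩
      rintro _ ⟨q, hq, rfl⟩
      rw [← map_mul, ← map_mul]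
      exact congrArg φ' (Subtype.ext ((mem_centralizerIn.1 hc).2 q hq))
    have := finite_of_le (centralizerIn_le S (img φ' Q))
    refine Subgroup.eq_of_le_of_card_ge hle ?_
    rw [card_img (F.injective_of_mem hφ') hC]
    exact hQ.2 _ (isConj_img F hφ' (le_ctr S Q))
  have hsC : s ∈ centralizerIn S (img φ' Q) := by
    refine mem_centralizerIn_iff_conj.2 ⟨hs, ?_⟩
    rintro _ ⟨q, hq, rfl⟩
    exact (key q).trans (congrArg φ' (ha.2 q hq))
  rw [← heq] at hsC
  obtain ⟨c, hc, rfl⟩ := hsC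
  refine mem_autInducedBy.2 ⟨c, hc, fun x => ?_⟩
  have h1 : φ' (a x) = φ' (c * x * c⁻¹) := by rw [← key, map_mul, map_mul, map_inv]
  exact congrArg Subtype.val (F.injective_of_mem hφ' h1)

theorem mem_normalizer_ctr {Q : Subgroup Ω} (hQ : Q ≤ S) {g : Ω} (hg : g ∈ normalizerIn S Q) :
    g ∈ Subgroup.normalizer (ctr S Q : Set Ω) := by
  have := finite_of_le (ctr_le hQ)
  refine mem_normalizer_of_finite fun x hx => ?_
  have hle : (ctr S Q).map (MulAut.conj g).toMonoidHom ≤ ctr S Q := by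
    rw [ctr, Subgroup.map_sup]
    refine sup_le_sup ?_ ?_
    · rintro _ ⟨y, hy, rfl⟩
      exact conj_mem_of_mem_normalizer hg.2 hy
    · rintro _ ⟨y, hy, rfl⟩
      refine mem_centralizerIn_iff_conj.2 ⟨S.mul_mem (S.mul_mem hg.1 hy.1) (S.inv_mem hg.1),
        fun q hq => ?_⟩
      have hq' : g⁻¹ * q * g⁻¹⁻¹ ∈ Q :=
        conj_mem_of_mem_normalizer (inv_mem hg.2) hq
      have h1 := (mem_centralizerIn_iff_conj.1 hy).2 _ hq'
      show g * y * g⁻¹ * q * (g * y * g⁻¹)⁻¹ = q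
      calc g * y * g⁻¹ * q * (g * y * g⁻¹)⁻¹
          = g * (y * (g⁻¹ * q * g⁻¹⁻¹) * y⁻¹) * g⁻¹ := by group
        _ = g * (g⁻¹ * q * g⁻¹⁻¹) * g⁻¹ := by rw [h1]
        _ = q := by group
  exact hle ⟨x, hx, rfl⟩

/-- A label of the identity of `Q` is carried by an automorphism of `Q C_S(Q)` fixing `Q` and
normalizing the automorphisms induced by a given subgroup of `N_S(Q)`. -/
theorem exists_normalizing (hS : IsPGroup p S) (hF : F.IsSaturated p) {Q : Subgroup Ω}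
    (hQ : F.IsFullyNormalized Q) {k : MulAut S} (hk : Lab F p k Q.subtype) {W : Subgroup Ω}
    (hW : W ≤ normalizerIn S Q) (hXW : ctr S Q ≤ W) :
    ∃ χ ∈ fixAut F Q (ctr S Q), Lab F p k (autHom χ) ∧
      ∀ β ∈ autInducedBy W (ctr S Q), χ * β * χ⁻¹ ∈ autInducedBy W (ctr S Q) := by
  set X := ctr S Q with hX
  have hQc := IsSaturated.fullyCentralized hS hF hQ
  have hXS : X ≤ S := ctr_le hQ.1
  have hWS : W ≤ S := hW.trans (normalizerIn_le S Q)
  have := finite_mulAut hXS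
  obtain ⟨χ, hχ, hχl, hχe⟩ := idLabels hS hF hQ k hk
  set K := fixAut F Q X
  have hχK : χ ∈ K := ⟨hχ, fun x hx => Subtype.ext (hχe ⟨x, hx⟩)⟩
  set R := autInducedBy W X with hR
  have hRS : R ≤ autInducedBy S X := autInducedBy_mono hWS
  have hRF : R ≤ F.autGroup X := hRS.trans (autInducedBy_le_autGroup F hXS)
  have hRN : R ≤ Subgroup.normalizer (K : Set (MulAut X)) := by
    intro r hr
    refine mem_normalizer_of_finite fun a ha => ?_
    refine ⟨mul_mem (mul_mem (hRF hr) ha.1) (inv_mem (hRF hr)), fun x hx => ?_⟩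
    obtain ⟨g, hg, hgr⟩ := mem_autInducedBy.1 hr
    have hx' : ((r⁻¹ x : X) : Ω) ∈ Q := by
      have h1 := hgr (r⁻¹ x)
      rw [MulAut.inv_apply, MulEquiv.apply_symm_apply] at h1
      rw [← MulAut.inv_apply] at h1
      have h2 : ((r⁻¹ x : X) : Ω) = g⁻¹ * (x : Ω) * g⁻¹⁻¹ := by rw [h1]; group
      rw [h2]
      exact conj_mem_of_mem_normalizer (inv_mem (hW hg).2) hx
    rw [MulAut.mul_apply, MulAut.mul_apply, ha.2 _ hx', MulAut.inv_apply,
      MulEquiv.apply_symm_apply]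
  set A := K ⊔ R with hA
  have hKR : ∀ a ∈ A, ∃ b ∈ K, ∃ r ∈ R, b * r = a := by
    intro a ha
    have h1 : a ∈ ((A : Subgroup (MulAut X)) : Set (MulAut X)) := ha
    rw [hA, Subgroup.coe_mul_of_right_le_normalizer_left _ _ hRN] at h1
    exact Set.mem_mul.1 h1
  have hAF : A ≤ F.autGroup X := sup_le (fun a ha => ha.1) hRF
  let RA : Sylow p A :=
    { toSubgroup := R.subgroupOf A
      isPGroup' := ((isPGroup_autInducedBy hS X).to_le hRS).of_equiv
        (Subgroup.subgroupOfEquivOfLe le_sup_right).symm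
      is_maximal' := fun {T} hT hRT => by
        refine le_antisymm (fun a ha => ?_) hRT
        obtain ⟨b, hb, r, hr, hbr⟩ := hKR a a.2
        have hbA : b ∈ A := Subgroup.mem_sup_left hb
        have hrT : (⟨r, Subgroup.mem_sup_right hr⟩ : A) ∈ T := hRT hr
        have hbT : (⟨b, hbA⟩ : A) ∈ T := by
          have h1 := T.mul_mem ha (T.inv_mem hrT)
          convert h1 using 1
          apply Subtype.ext
          show b = (a : MulAut X) * r⁻¹
          rw [← hbr, mul_inv_cancel_right]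
        have hbp : IsPEl p b := by
          obtain ⟨n, hn⟩ := hT ⟨_, hbT⟩
          exact ⟨n, congrArg (fun z : T => ((z : A) : MulAut X)) hn⟩
        have hbR : b ∈ R := autInducedBy_mono ((le_sup_right : _ ≤ X).trans hXW)
          (fixAut_pel_induced hS hF hQc hb hbp)
        show (a : MulAut X) ∈ R
        rw [← hbr]
        exact mul_mem hbR hr }
  let L : Subgroup A :=
    { carrier := {a | Lab F p 1 (autHom (a : MulAut X))}
      one_mem' := Lab.of_gen (autHom_mem (gen F p) hXS (one_mem _))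
      mul_mem' := fun {a b} ha hb => by
        have := lab_autHom_mul hS ha hb
        rw [one_mul] at this
        exact this
      inv_mem' := fun {a} ha => by
        have := lab_autHom_inv hS ha
        rw [inv_one] at this
        exact this }
  haveI : L.Normal := ⟨fun a ha g => by
    obtain ⟨l, hl⟩ := exists_lab hS hF (autHom_mem F hXS (hAF g.2))
    have := lab_autHom_mul hS (lab_autHom_mul hS hl ha) (lab_autHom_inv hS hl)
    rw [mul_one, mul_inv_cancel] at this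
    exact this⟩
  have hRL : (RA : Subgroup A) ≤ L := fun a ha =>
    Lab.of_gen (autHom_mem (gen F p) hXS (autInducedBy_le_autGroup (gen F p) hXS (hRS ha)))
  have htop := Sylow.normalizer_sup_eq_top' RA hRL
  have hχA : (⟨χ, Subgroup.mem_sup_left hχK⟩ : A) ∈
      Subgroup.normalizer ((RA : Subgroup A) : Set A) ⊔ L := htop ▸ Subgroup.mem_top _
  obtain ⟨n, hn, m, hm, hnm⟩ := Subgroup.mem_sup_of_normal_right.1 hχA
  obtain ⟨b, hb, r, hr, hbr⟩ := hKR n n.2
  have hr' : Lab F p 1 (autHom r) :=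
    Lab.of_gen (autHom_mem (gen F p) hXS (autInducedBy_le_autGroup (gen F p) hXS (hRS hr)))
  refine ⟨b, hb, ?_, fun β hβ => ?_⟩
  · have h1 := lab_autHom_mul hS (lab_autHom_mul hS hχl (lab_autHom_inv hS hm))
      (lab_autHom_inv hS hr')
    rw [inv_one, mul_one, mul_one] at h1
    have e : b = χ * (m : MulAut X)⁻¹ * r⁻¹ := by
      rw [show χ = (n : MulAut X) * m from (congrArg Subtype.val hnm).symm, ← hbr]
      group
    rw [e]
    exact h1
  · have h0 : r⁻¹ * β * r⁻¹⁻¹ ∈ R := mul_mem (mul_mem (inv_mem hr) hβ) (inv_mem (inv_mem hr))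
    have h1 := (Subgroup.mem_normalizer_iff.1 hn
      ⟨_, Subgroup.mem_sup_right h0⟩).1 h0
    change (n : MulAut X) * (r⁻¹ * β * r⁻¹⁻¹) * (n : MulAut X)⁻¹ ∈ R at h1
    rw [← hbr, show b * r * (r⁻¹ * β * r⁻¹⁻¹) * (b * r)⁻¹ = b * β * b⁻¹ by group] at h1
    exact h1

/-- The fully normalized subgroups of `F` are receptive in the subsystems. -/
theorem receptive_subSystem (hS : IsPGroup p S) (hF : F.IsSaturated p) {B' : Subgroup (MulAut S)}
    (hB : baseAut F p ≤ B') {Q : Subgroup Ω} (hQ : F.IsFullyNormalized Q) :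
    (subSystem hS F B').IsReceptive Q := by
  refine ⟨hQ.1, fun P φ hφ hr => ?_⟩
  obtain ⟨hφF, β, hβB, hβ⟩ := hφ
  have hQc := IsSaturated.fullyCentralized hS hF hQ
  obtain ⟨ψ, hψ, hext, hval⟩ := IsReceptive.extend
    (IsSaturated.automized_receptive hS hF hQ).2 hφF hr
  obtain ⟨l, hl⟩ := exists_lab hS hF hψ
  have hPN : P ≤ extender S P φ := le_extender (source_le hφF) (apply_mem hφF)
  have e : restr hPN ψ = φ := MonoidHom.ext fun x => hext x x.2 (hPN x.2)
  have hlφ : Lab F p l φ := e ▸ hl.restr hPN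
  obtain ⟨c, hc, hcr, hcl, hcl'⟩ := exists_inv F hφF hr
  have hcP : ∀ y, c y ∈ P := fun y => hcr.le ⟨y, rfl⟩
  have hk : Lab F p (β * l⁻¹) Q.subtype :=
    (hlφ.inv hS hr hcl).comp hS hβ hcP fun y => (hcl' y _).symm
  set X := ctr S Q with hX
  set W := ψ.range ⊔ X with hW
  have hWN : W ≤ normalizerIn S Q :=
    sup_le (by rintro _ ⟨x, rfl⟩; exact hval x) (ctr_le_normalizerIn hQ.1)
  obtain ⟨χ, hχ, hχl, hχn⟩ := exists_normalizing hS hF hQ hk hWN le_sup_right
  have hXS : X ≤ S := ctr_le hQ.1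
  have hXc : F.IsCentric X := ctr_centric hQc
  obtain ⟨ξ, hξ, hξe, -⟩ := IsReceptive.extend
    (IsSaturated.receptive hS hF (isFullyCentralized_of_isCentric hXc))
    (autHom_mem F hXS hχ.1) (range_autHom χ)
  have hWe : W ≤ extender S X (autHom χ) := by
    intro g hg
    have hgX := mem_normalizer_ctr hQ.1 (hWN hg)
    obtain ⟨h, hh, he⟩ := mem_autInducedBy.1
      (hχn _ (conjAut_mem_autInducedBy (K := W) hg hgX))
    refine mem_extender.2 ⟨(hWN hg).1, hgX, h, (hWN hh).1, fun x hx => ?_⟩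
    have h1 := he (χ x)
    rw [MulAut.mul_apply, MulAut.mul_apply, MulAut.inv_apply, MulEquiv.symm_apply_apply] at h1
    exact h1
  set ξ' := restr hWe ξ
  have hξ' : ξ' ∈ F.Hom W := restr_mem F hξ hWe
  obtain ⟨m, hm⟩ := exists_lab hS hF hξ'
  have hXW : X ≤ W := le_sup_right
  have e2 : restr hXW ξ' = autHom χ := MonoidHom.ext fun x => hξe x x.2 _
  have hm' := hm.mul_base hS (Lab.unique hS hXc hχl (e2 ▸ hm.restr hXW))
  rw [mul_inv_cancel_left] at hm'
  have hv : ∀ x, ψ x ∈ W := fun x => Subgroup.mem_sup_left ⟨x, rfl⟩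
  refine ⟨compose ψ ξ' hv, ⟨compose_mem F hψ hξ' hv, β, hβB, ?_⟩, fun x hP hN => ?_⟩
  · have h1 := hl.comp hS hm' hv (ρ := compose ψ ξ' hv) fun _ => rfl
    rwa [inv_mul_cancel_right] at h1
  · have hq : φ ⟨x, hP⟩ ∈ Q := hr.le ⟨_, rfl⟩
    have e3 : (⟨ψ ⟨x, hN⟩, hv _⟩ : W) = ⟨φ ⟨x, hP⟩, hXW (le_ctr S Q hq)⟩ :=
      Subtype.ext (hext x hP hN)
    rw [compose_apply, e3]
    refine (hξe _ (le_ctr S Q hq) _).trans ?_
    exact congrArg Subtype.val (hχ.2 ⟨φ ⟨x, hP⟩, le_ctr S Q hq⟩ hq)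

/-- The subsystems are saturated. -/
theorem isSaturated_subSystem (hS : IsPGroup p S) (hF : F.IsSaturated p)
    {B' : Subgroup (MulAut S)} (hB : baseAut F p ≤ B') :
    (subSystem hS F B').IsSaturated p := by
  intro P hP
  obtain ⟨Q, ⟨φ, hφ, hr⟩, hQ⟩ := exists_fullyNormalized F hP
  obtain ⟨α, hα, e, he, hex⟩ := exists_dec hS hF hφ
  have himg : img (autHom α) e.range = Q := by
    rw [← hr]
    ext y
    constructor
    · rintro ⟨z, ⟨x, hx⟩, rfl⟩
      refine ⟨x, (hex x (hx ▸ z.2)).trans ?_⟩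
      exact congrArg (autHom α) (Subtype.ext hx)
    · rintro ⟨x, rfl⟩
      exact ⟨⟨e x, apply_mem he x⟩, ⟨x, rfl⟩, (hex x _).symm⟩
  have hR := fullyNormalized_of_aut hα hQ (range_le he) himg
  exact ⟨e.range, ⟨e, gen_le_subSystem hS B' P he, rfl⟩, automized_subSystem hS hF B' hR,
    receptive_subSystem hS hF hB hR⟩

theorem isCentric_iff_of_gen_le (hS : IsPGroup p S) (hF : F.IsSaturated p) {E : FusionSystem S}
    (hEF : E ≤ F) (hE : gen F p ≤ E) {P : Subgroup Ω} : E.IsCentric P ↔ F.IsCentric P := by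
  refine ⟨fun h => ⟨h.1, ?_⟩, fun h => ⟨h.1, fun Q ⟨φ, hφ, hr⟩ => h.2 Q ⟨φ, hEF P hφ, hr⟩⟩⟩
  rintro _ ⟨φ, hφ, rfl⟩ g hg
  obtain ⟨α, -, e, he, hex⟩ := exists_dec hS hF hφ
  have hgS := (mem_centralizerIn.1 hg).1
  have hmem : (α⁻¹ ⟨g, hgS⟩ : S) ∈ e.range.subgroupOf S := by
    refine h.2 e.range ⟨e, hE P he, rfl⟩ (mem_centralizerIn.2 ⟨SetLike.coe_mem _, ?_⟩)
    rintro _ ⟨x, rfl⟩
    have h1 := (mem_centralizerIn.1 hg).2 (φ x) ⟨x, rfl⟩
    have h2 : (α ⟨e x, apply_mem he x⟩ : S) = ⟨φ x, apply_mem hφ x⟩ :=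
      Subtype.ext (hex x _).symm
    have h3 : (⟨φ x, apply_mem hφ x⟩ : S) * ⟨g, hgS⟩ = ⟨g, hgS⟩ * ⟨φ x, apply_mem hφ x⟩ :=
      Subtype.ext h1
    have h4 := congrArg (α⁻¹ : MulAut S) h3
    rw [← h2, map_mul, map_mul, MulAut.inv_apply, MulEquiv.symm_apply_apply] at h4
    exact congrArg Subtype.val h4
  obtain ⟨x, hx⟩ := hmem
  refine ⟨x, (hex x (apply_mem he x)).trans ?_⟩
  have e5 : (⟨e x, apply_mem he x⟩ : S) = α⁻¹ ⟨g, hgS⟩ := Subtype.ext hx
  rw [e5]
  exact congrArg Subtype.val (α.apply_symm_apply ⟨g, hgS⟩)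

theorem hasPrimeToPIndexIn_of_gen_le (hS : IsPGroup p S) (hF : F.IsSaturated p)
    {E : FusionSystem S} (hEF : E.IsSubsystemOf F) (hE : gen F p ≤ E) :
    E.HasPrimeToPIndexIn F p := by
  refine ⟨hEF, fun P hP => ?_⟩
  rw [Subgroup.map_le_iff_le_comap, Subgroup.closure_le]
  rintro ⟨a, ha⟩ ⟨k, hk⟩
  exact mem_autGroup_of_hom E (hE P (mem_gen_of_isPEl hS hF hP ha
    ((IsPEl.of_orderOf hk).map (F.autGroup P).subtype)))

theorem genProp_of_closure_le {E : FusionSystem S}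
    (h : ∀ P : Subgroup Ω, F.IsCentric P →
      (Subgroup.closure {α : F.autGroup P | ∃ k : ℕ, orderOf α = p ^ k}).map
        (F.autGroup P).subtype ≤ E.autGroup P) : GenProp F p E := by
  intro R hR τ hτ hp
  refine autHom_mem E hR.1 (h R hR ⟨⟨τ, hτ⟩, Subgroup.subset_closure ?_, rfl⟩)
  obtain ⟨k, hk⟩ := hp.orderOf_pow
  exact ⟨k, (Subgroup.orderOf_mk τ hτ).trans hk⟩

theorem baseAut_le_of_index (hS : IsPGroup p S) (hF : F.IsSaturated p) {D : FusionSystem S}
    (hD : D.IsSaturated p) (hDF : D.HasPrimeToPIndexIn F p) : baseAut F p ≤ D.autGroup S := by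
  refine (Subgroup.closure_le _).2 ?_
  rintro α ⟨hα, P, hP, hPc, hαP⟩
  exact mem_autGroup_of_hom D (mem_of_restr_mem hS hF hD (fun _ _ h => hDF.1 _ h) hP hPc
    (autHom_mem F le_rfl hα)
    (gen_le_of (genProp_of_closure_le fun R hR => hDF.2 R hR.1) P hαP))

theorem subSystem_le_of (hS : IsPGroup p S) {B' : Subgroup (MulAut S)} {D : FusionSystem S}
    (hB : baseAut F p ≤ B') (hB' : B' ≤ D.autGroup S) (hD : gen F p ≤ D) :
    subSystem hS F B' ≤ D := by
  rintro P φ ⟨-, α, hα, -, b, hb, hd⟩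
  obtain ⟨-, e, he, hex⟩ := hd
  exact mem_of_comp D (hD P he) (autHom_mem D le_rfl (hB' (mul_mem hα (hB hb))))
    (apply_mem he) fun x => hex x _

end Cfsg.Agent.Lib.Fusion.PrimeIndex

namespace Cfsg.Agent.Lib.Fusion.PrimeIndex

open Cfsg Cfsg.FusionSystem

variable {Ω : Type*} [Group Ω] {S : Subgroup Ω} {p : ℕ} [Fact p.Prime] [Finite S]
  {F : FusionSystem S}

/-- A subgroup normalized by `Aut_F(S)` gives a normal subsystem. -/
theorem isNormalIn_subSystem (hS : IsPGroup p S) (hF : F.IsSaturated p)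
    {B' : Subgroup (MulAut S)} (hB : baseAut F p ≤ B') (hB' : B' ≤ F.autGroup S)
    (hnorm : ∀ α ∈ F.autGroup S, ∀ b ∈ B', α * b * α⁻¹ ∈ B') :
    (subSystem hS F B').IsNormalIn F p := by
  refine ⟨⟨isSaturated_subSystem hS hF hB, hF, fun P φ hφ => hφ.1,
    ⟨le_rfl, fun R _ φ hφ x => apply_mem hφ x⟩, ?_, ?_⟩, ?_⟩
  · rintro P hP φ ⟨hφ, β, hβB, hβ⟩ α hα
    set P' := img (autHom α) P with hP'
    have hP'S : P' ≤ S := (img_le_range _ P).trans (range_autHom α).le
    have hm : ∀ y, Fusion.restr hP'S (autHom α⁻¹) y ∈ P := by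
      rintro ⟨_, x, hx, rfl⟩
      exact (congrArg (· ∈ P) (autHom_apply_inv x _)).mpr hx
    have h1 : Lab F p α⁻¹ (Fusion.restr hP'S (autHom α⁻¹)) :=
      (Lab.autHom_self (inv_mem hα)).restr hP'S
    have h2 := h1.comp hS hβ hm (ρ := compose (Fusion.restr hP'S (autHom α⁻¹)) φ hm) fun _ => rfl
    have hm2 : ∀ y, compose (Fusion.restr hP'S (autHom α⁻¹)) φ hm y ∈ S := fun y => apply_mem hφ _
    have h3 := h2.comp hS (Lab.autHom_self hα) hm2
      (ρ := compose (compose (Fusion.restr hP'S (autHom α⁻¹)) φ hm) (autHom α) hm2) fun _ => rfl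
    rw [← mul_assoc] at h3
    refine ⟨compose (compose (Fusion.restr hP'S (autHom α⁻¹)) φ hm) (autHom α) hm2,
      ⟨h3.mem, _, hnorm α hα β hβB, h3⟩, fun x hφx hαx => ?_⟩
    show autHom α ⟨φ ⟨autHom α⁻¹ ⟨autHom α ⟨x, hP x.2⟩, _⟩, _⟩, _⟩ = autHom α ⟨φ x, hφx⟩
    refine congrArg (autHom α) (Subtype.ext (congrArg φ (Subtype.ext ?_)))
    exact autHom_apply_inv (⟨(x : Ω), hP x.2⟩ : S) _
  · intro P _ φ hφ
    obtain ⟨α, hα, e, he, hex⟩ := exists_dec (p := p) hS hF hφ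
    exact ⟨α, hα, e, gen_le_subSystem hS B' P he, hex⟩
  · intro a ha
    have haF : a ∈ F.autGroup S := hB' ((mem_autGroup_subSystem hS hB hB').1 ha)
    suffices key : ∀ (X : Subgroup Ω) (h : S ≤ X), X = S → ∃ β ∈ F.autGroup X,
        (∀ x : S, ((β (Subgroup.inclusion h x) : X) : Ω) = ((a x : S) : Ω)) ∧
        ∀ c : X, (c : Ω) ∈ centralizerIn S S →
          (c : Ω)⁻¹ * ((β c : X) : Ω) ∈ S ⊓ Subgroup.centralizer (S : Set Ω) from
      key _ le_sup_left (sup_eq_left.2 (centralizerIn_le S S))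
    rintro X h rfl
    refine ⟨a, haF, fun x => rfl, fun c hc => ⟨X.mul_mem (X.inv_mem c.2) (a c).2, ?_⟩⟩
    refine Subgroup.mul_mem _ (Subgroup.inv_mem _ hc.2) (Subgroup.mem_centralizer_iff.2 ?_)
    intro y hy
    obtain ⟨z, hz⟩ := a.surjective ⟨y, hy⟩
    have h1 : z * c = c * z := Subtype.ext (Subgroup.mem_centralizer_iff.1 hc.2 (z : Ω) z.2)
    have h2 := congrArg (fun w => ((a w : X) : Ω)) h1
    simp only [map_mul, Subgroup.coe_mul, hz] at h2
    exact h2

end Cfsg.Agent.Lib.Fusion.PrimeIndex
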