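import Cfsg.Agent.Lib.Fusion.PrimeIndex.Invariant
import Cfsg.Agent.Lib.Fusion.Factor

/-!
Extensions to `T C_S(T)` of the automorphisms forced in a weakly normal subsystem over `T`.
-/

set_option autoImplicit false
set_option linter.unusedSectionVars false

namespace Cfsg.Agent.Lib.Fusion.PrimeIndex

open Cfsg Cfsg.FusionSystem

/-- A weakly normal subsystem. -/
structure WNData {Ω : Type*} [Group Ω] {S : Subgroup Ω} (p : ℕ) (F : FusionSystem S)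
    {T : Subgroup Ω} (E : FusionSystem T) : Prop where
  pgroup : IsPGroup p S
  saturated : F.IsSaturated p
  satE : E.IsSaturated p
  inv : E.IsInvariantIn F

variable {Ω : Type*} [Group Ω] {S T : Subgroup Ω} {p : ℕ} [Fact p.Prime] [Finite S]
  {F : FusionSystem S} {E : FusionSystem T}

theorem WNData.le (D : WNData p F E) : T ≤ S := D.inv.2.1.1

theorem WNData.finite (D : WNData p F E) : Finite T := finite_of_le D.le

theorem WNData.pgroupT (D : WNData p F E) : IsPGroup p T := D.pgroup.to_le D.le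

theorem WNData.conj_mem (D : WNData p F E) {g t : Ω} (hg : g ∈ S) (ht : t ∈ T) :
    g * t * g⁻¹ ∈ T := StronglyClosed.conj_mem_self D.inv.2.1 hg ht

theorem hom_ext_sup {A B : Subgroup Ω} {ψ ψ' : ↥(A ⊔ B) →* Ω}
    (hA : ∀ x, ∀ (hx : x ∈ A ⊔ B), x ∈ A → ψ ⟨x, hx⟩ = ψ' ⟨x, hx⟩)
    (hB : ∀ x, ∀ (hx : x ∈ A ⊔ B), x ∈ B → ψ ⟨x, hx⟩ = ψ' ⟨x, hx⟩) : ψ = ψ' := by
  refine MonoidHom.ext fun y => ?_
  have hle : A ⊔ B ≤ (MonoidHom.eqLocus ψ ψ').map (A ⊔ B).subtype :=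
    sup_le (fun x hx => ⟨⟨x, Subgroup.mem_sup_left hx⟩, hA x _ hx, rfl⟩)
      (fun x hx => ⟨⟨x, Subgroup.mem_sup_right hx⟩, hB x _ hx, rfl⟩)
  obtain ⟨z, hz, hzy⟩ := hle y.2
  rw [← Subtype.ext (a1 := z) (a2 := y) hzy]
  exact hz

/-- A homomorphism on `A ⊔ B` trivial modulo `T` on `A` and on `B` is so everywhere. -/
theorem trivMod_sup (D : WNData p F E) {A B : Subgroup Ω} (hA : A ≤ S) (hB : B ≤ S)
    {ψ : ↥(A ⊔ B) →* Ω}
    (h₁ : ∀ x, ∀ (hx : x ∈ A ⊔ B), x ∈ A → x⁻¹ * ψ ⟨x, hx⟩ ∈ T)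
    (h₂ : ∀ x, ∀ (hx : x ∈ A ⊔ B), x ∈ B → x⁻¹ * ψ ⟨x, hx⟩ ∈ T) (y : ↥(A ⊔ B)) :
    (y : Ω)⁻¹ * ψ y ∈ T := by
  have hS : A ⊔ B ≤ S := sup_le hA hB
  let K : Subgroup ↥(A ⊔ B) :=
    { carrier := {y | (y : Ω)⁻¹ * ψ y ∈ T}
      one_mem' := by simp
      mul_mem' := fun {a b} ha hb => by
        have h := T.mul_mem (D.conj_mem (S.inv_mem (hS b.2)) ha) hb
        show ((a * b : ↥(A ⊔ B)) : Ω)⁻¹ * ψ (a * b) ∈ T
        rw [map_mul, Subgroup.coe_mul]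
        rw [show ((a : Ω) * (b : Ω))⁻¹ * (ψ a * ψ b) =
          (b : Ω)⁻¹ * ((a : Ω)⁻¹ * ψ a) * (b : Ω)⁻¹⁻¹ * ((b : Ω)⁻¹ * ψ b) by group]
        exact h
      inv_mem' := fun {a} ha => by
        show ((a⁻¹ : ↥(A ⊔ B)) : Ω)⁻¹ * ψ a⁻¹ ∈ T
        rw [map_inv, Subgroup.coe_inv,
          show (a : Ω)⁻¹⁻¹ * (ψ a)⁻¹ = (a : Ω) * ((a : Ω)⁻¹ * ψ a)⁻¹ * (a : Ω)⁻¹ by group]
        exact D.conj_mem (hS a.2) (T.inv_mem ha) }
  have hle : A ⊔ B ≤ K.map (A ⊔ B).subtype :=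
    sup_le (fun x hx => ⟨⟨x, Subgroup.mem_sup_left hx⟩, h₁ x _ hx, rfl⟩)
      (fun x hx => ⟨⟨x, Subgroup.mem_sup_right hx⟩, h₂ x _ hx, rfl⟩)
  obtain ⟨z, hz, hzy⟩ := hle y.2
  rw [← Subtype.ext (a1 := z) (a2 := y) hzy]
  exact hz

/-- An extension to `P C_S(T)` trivial modulo `T` on `C_S(T)`. -/
def Twist (F : FusionSystem S) (T : Subgroup Ω) {P : Subgroup Ω} (φ : P →* Ω) : Prop :=
  ∃ ψ ∈ F.Hom (P ⊔ centralizerIn S T),
    (∀ (x : P) (h : (x : Ω) ∈ P ⊔ centralizerIn S T), ψ ⟨x, h⟩ = φ x) ∧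
    ∀ c ∈ centralizerIn S T, ∀ (h : c ∈ P ⊔ centralizerIn S T), c⁻¹ * ψ ⟨c, h⟩ ∈ T

theorem twist_trivMod (D : WNData p F E) {P : Subgroup Ω} (hP : P ≤ T) {φ : P →* Ω}
    (hφ : ∀ x, φ x ∈ T) {ψ : ↥(P ⊔ centralizerIn S T) →* Ω}
    (h₁ : ∀ (x : P) (h : (x : Ω) ∈ P ⊔ centralizerIn S T), ψ ⟨x, h⟩ = φ x)
    (h₂ : ∀ c ∈ centralizerIn S T, ∀ (h : c ∈ P ⊔ centralizerIn S T), c⁻¹ * ψ ⟨c, h⟩ ∈ T)
    (y : ↥(P ⊔ centralizerIn S T)) : (y : Ω)⁻¹ * ψ y ∈ T :=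
  trivMod_sup D (hP.trans D.le) (centralizerIn_le S T)
    (fun x hx hxP => T.mul_mem (T.inv_mem (hP hxP)) ((h₁ ⟨x, hxP⟩ hx).symm ▸ hφ _))
    (fun x hx hxC => h₂ x hxC hx) y

theorem twist_range (D : WNData p F E) {P : Subgroup Ω} (hP : E.IsCentric P) {φ : P →* Ω}
    (hφ : φ ∈ E.Hom P) {ψ : ↥(P ⊔ centralizerIn S T) →* Ω}
    (hψ : ψ ∈ F.Hom (P ⊔ centralizerIn S T))
    (h₁ : ∀ (x : P) (h : (x : Ω) ∈ P ⊔ centralizerIn S T), ψ ⟨x, h⟩ = φ x)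
    (h₂ : ∀ c ∈ centralizerIn S T, ∀ (h : c ∈ P ⊔ centralizerIn S T), c⁻¹ * ψ ⟨c, h⟩ ∈ T) :
    ψ.range = φ.range ⊔ centralizerIn S T := by
  have := D.finite
  have hφT : φ.range ≤ T := range_le hφ
  have key : ∀ c ∈ centralizerIn S T, ∀ (h : c ∈ P ⊔ centralizerIn S T),
      c⁻¹ * ψ ⟨c, h⟩ ∈ φ.range := by
    intro c hc h
    refine hP.2 φ.range ⟨φ, hφ, rfl⟩ (mem_centralizerIn_iff_conj.2 ⟨h₂ c hc h, ?_⟩)
    rintro _ ⟨x, rfl⟩
    have h1 : ψ ⟨c, h⟩ * φ x * (ψ ⟨c, h⟩)⁻¹ = φ x := by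
      rw [← h₁ x (Subgroup.mem_sup_left x.2), ← map_inv, ← map_mul, ← map_mul]
      exact congrArg ψ (Subtype.ext ((mem_centralizerIn_iff_conj.1 hc).2 x (hP.1 x.2)))
    have hcx : c⁻¹ * φ x * c = φ x := by
      have := (mem_centralizerIn_iff_conj.1 hc).2 (φ x) (hφT ⟨x, rfl⟩)
      calc c⁻¹ * φ x * c = c⁻¹ * (c * φ x * c⁻¹) * c := by rw [this]
        _ = φ x := by group
    calc c⁻¹ * ψ ⟨c, h⟩ * φ x * (c⁻¹ * ψ ⟨c, h⟩)⁻¹
        = c⁻¹ * (ψ ⟨c, h⟩ * φ x * (ψ ⟨c, h⟩)⁻¹) * c := by group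
      _ = c⁻¹ * φ x * c := by rw [h1]
      _ = φ x := hcx
  refine le_antisymm ?_ (sup_le ?_ ?_)
  · rw [← img_self, img_sup ψ le_sup_left le_sup_right]
    refine sup_le ?_ ?_
    · rintro _ ⟨x, hx, rfl⟩
      exact Subgroup.mem_sup_left ⟨⟨x, hx⟩, (h₁ ⟨x, hx⟩ x.2).symm⟩
    · rintro _ ⟨⟨c, h⟩, hc, rfl⟩
      have h1 := Subgroup.mul_mem (φ.range ⊔ centralizerIn S T) (Subgroup.mem_sup_right hc)
        (Subgroup.mem_sup_left (key c hc h))
      change c * _ ∈ _ at h1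
      rwa [mul_inv_cancel_left] at h1
  · rintro _ ⟨x, rfl⟩
    exact ⟨⟨x, Subgroup.mem_sup_left x.2⟩, h₁ x _⟩
  · intro c hc
    have h : c ∈ P ⊔ centralizerIn S T := Subgroup.mem_sup_right hc
    obtain ⟨x, hx⟩ := key c hc h
    refine ⟨⟨c, h⟩ * ⟨x, Subgroup.mem_sup_left x.2⟩⁻¹, ?_⟩
    rw [map_mul, map_inv, h₁ x, hx, mul_inv_rev, inv_inv, mul_inv_cancel_left]

/-- The maps of `E` which, on centric subgroups, have such an extension. -/
def twistSystem (D : WNData p F E) : FusionSystem T where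
  Hom P := {φ | φ ∈ E.Hom P ∧ (E.IsCentric P → Twist F T φ)}
  le_of_mem h := E.le_of_mem h.1
  injective_of_mem h := E.injective_of_mem h.1
  conj_mem {P g} hP hg := by
    refine ⟨E.conj_mem hP hg, fun _ => ⟨conjHom _ g,
      F.conj_mem (sup_le (hP.trans D.le) (centralizerIn_le S T)) (D.le hg), fun x h => rfl,
      fun c hc h => ?_⟩⟩
    show c⁻¹ * (g * c * g⁻¹) ∈ T
    have h1 := (mem_centralizerIn_iff_conj.1 hc).2 g hg
    have h2 : g * c * g⁻¹ = c := by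
      calc g * c * g⁻¹ = (c * g * c⁻¹) * c * g⁻¹ := by rw [h1]
        _ = c := by group
    rw [h2, inv_mul_cancel]
    exact T.one_mem
  comp_mem {P Q φ χ} hφ hχ h := by
    refine ⟨E.comp_mem hφ.1 hχ.1 h, fun hc => ?_⟩
    have := D.finite
    have hQc : E.IsCentric Q := isCentric_of_le (isCentric_of_isConj hc ⟨φ, hφ.1, rfl⟩)
      (by rintro _ ⟨x, rfl⟩; exact h x) (source_le hχ.1)
    obtain ⟨ψ, hψ, h₁, h₂⟩ := hφ.2 hc
    obtain ⟨ξ, hξ, k₁, k₂⟩ := hχ.2 hQc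
    have hrange : ∀ y, ψ y ∈ Q ⊔ centralizerIn S T := fun y => by
      have h1 : ψ y ∈ φ.range ⊔ centralizerIn S T :=
        (twist_range D hc hφ.1 hψ h₁ h₂).le ⟨y, rfl⟩
      have hle : φ.range ≤ Q := by rintro _ ⟨x, rfl⟩; exact h x
      exact (sup_le (hle.trans le_sup_left) le_sup_right :
        φ.range ⊔ centralizerIn S T ≤ Q ⊔ centralizerIn S T) h1
    refine ⟨compose ψ ξ hrange, compose_mem F hψ hξ hrange, fun x hx => ?_, fun c hc' hcm => ?_⟩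
    · exact (congrArg ξ (Subtype.ext (a2 := ⟨φ x, Subgroup.mem_sup_left (h x)⟩)
        (h₁ x hx))).trans (k₁ ⟨φ x, h x⟩ _)
    · have h3 := twist_trivMod D (source_le hχ.1) (apply_mem hχ.1) k₁ k₂ ⟨ψ ⟨c, hcm⟩, hrange _⟩
      have h4 := T.mul_mem (h₂ c hc' hcm) h3
      rw [compose_apply]
      rwa [show c⁻¹ * ψ ⟨c, hcm⟩ * ((ψ ⟨c, hcm⟩)⁻¹ * ξ ⟨ψ ⟨c, hcm⟩, hrange _⟩) =
        c⁻¹ * ξ ⟨ψ ⟨c, hcm⟩, hrange _⟩ by group] at h4
  inv_mem {P φ} hφ := by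
    obtain ⟨c, hc, hcr, hl, -⟩ := exists_inv E hφ.1 rfl
    refine ⟨c, ⟨hc, fun hcc => ?_⟩, fun x => hl x _⟩
    have := D.finite
    have hPc : E.IsCentric P := isCentric_of_isConj hcc ⟨c, hc, hcr⟩
    obtain ⟨ψ, hψ, h₁, h₂⟩ := hφ.2 hPc
    obtain ⟨d, hd, hdr, hdl, hdl'⟩ := exists_inv F hψ (twist_range D hPc hφ.1 hψ h₁ h₂)
    refine ⟨d, hd, ?_, fun y hy hym => ?_⟩
    · rintro ⟨_, x, rfl⟩ h
      refine Eq.trans ?_ (hl x _).symm
      refine Eq.trans (congrArg d (Subtype.ext ?_))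
        (hdl ⟨x, Subgroup.mem_sup_left x.2⟩ ((h₁ x (Subgroup.mem_sup_left x.2)).symm ▸ h))
      exact (h₁ x _).symm
    · have hdy : d ⟨y, hym⟩ ∈ P ⊔ centralizerIn S T := hdr.le ⟨_, rfl⟩
      have h3 := twist_trivMod D hPc.1 (apply_mem hφ.1) h₁ h₂ ⟨d ⟨y, hym⟩, hdy⟩
      rw [show ψ ⟨d ⟨y, hym⟩, hdy⟩ = y from hdl' ⟨y, hym⟩ hdy] at h3
      have h4 := T.inv_mem h3
      rwa [show ((d ⟨y, hym⟩)⁻¹ * y)⁻¹ = y⁻¹ * d ⟨y, hym⟩ by group] at h4

theorem gen_le_twist (D : WNData p F E) : gen E p ≤ twistSystem D := by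
  have := D.finite
  refine gen_le_of fun P hP τ hτ hp => ⟨autHom_mem E hP.1 hτ, fun _ => ?_⟩
  obtain ⟨P₀, hPP₀, hP₀⟩ := exists_fullyNormalized F (hP.1.trans D.le)
  obtain ⟨φ, hφ, hr⟩ := hPP₀
  have hP₀c := isCentric_of_invariant_conj D.inv hP ⟨φ, hφ, hr⟩
  have hP₀T := hP₀c.1
  set i := isoOf φ (F.injective_of_mem hφ) hr with hi
  have hτ₀ : MulAut.congr i τ ∈ E.autGroup P₀ := congr_mem_of_invariant D.inv hP.1 hφ hr hτ
  have hzp : IsPGroup p (Subgroup.zpowers (MulAut.congr i τ)) := by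
    obtain ⟨k, hk⟩ := hp.map (MulAut.congr i).toMonoidHom
    rintro ⟨x, hx⟩
    obtain ⟨n, rfl⟩ := Subgroup.mem_zpowers_iff.1 hx
    refine ⟨k, Subtype.ext ?_⟩
    show ((MulAut.congr i τ) ^ n) ^ p ^ k = 1
    rw [← zpow_natCast, zpow_comm, zpow_natCast]
    rw [show (MulAut.congr i τ) ^ p ^ k = 1 from hk, one_zpow]
  obtain ⟨γ, hγ, hγτ⟩ := IsFullyAutomized.exists_conj
    (IsSaturated.automized_receptive D.pgroupT D.satE
      (isFullyNormalized_subsystem D.pgroup D.saturated D.inv.2.1 E D.inv.1 hP₀T hP₀)).1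
    (Subgroup.zpowers_le.2 hτ₀) hzp
  obtain ⟨t, ht, hte⟩ := mem_autInducedBy.1 (hγτ _ (Subgroup.mem_zpowers _))
  have htN : t ∈ Subgroup.normalizer (P₀ : Set Ω) := by
    have := finite_of_le hP₀.1
    exact mem_normalizer_of_finite fun x hx => (hte ⟨x, hx⟩) ▸ SetLike.coe_mem _
  obtain ⟨g, hg, hge⟩ := exists_extension D.pgroup D.saturated hP₀
    (autGroup_le_of_isSubsystemOf D.inv.1 hP₀T hγ)
  obtain ⟨ω, hω, hωext, -⟩ := IsReceptive.extend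
    (IsSaturated.automized_receptive D.pgroup D.saturated hP₀).2 hφ hr
  set C := centralizerIn S T with hC
  have hCP : C ≤ centralizerIn S P := fun c hc =>
    mem_centralizerIn.2 ⟨hc.1, fun x hx => (mem_centralizerIn.1 hc).2 x (hP.1 hx)⟩
  have hPe : P ≤ extender S P φ := le_extender (hP.1.trans D.le) (apply_mem hφ)
  have hle : P ⊔ C ≤ extender S P φ := sup_le hPe (hCP.trans (centralizerIn_le_extender φ))
  have hωX : ∀ y, restr hle ω y ∈ ctr S P₀ := by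
    intro y
    have h1 : (restr hle ω).range ≤ ctr S P₀ := by
      rw [range_restr, img_sup ω hPe (hCP.trans (centralizerIn_le_extender φ))]
      refine sup_le (le_trans ?_ le_sup_left) (le_trans ?_ le_sup_right)
      · rintro _ ⟨x, hx, rfl⟩
        rw [hωext x hx x.2]
        exact hr.le ⟨_, rfl⟩
      · rintro _ ⟨x, hx, rfl⟩
        exact apply_mem_centralizerIn hr hω hωext hPe x.2 (hCP hx)
    exact h1 ⟨y, rfl⟩
  let ω' := compose (restr hle ω) (autHom g) hωX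
  have hω' : ω' ∈ F.Hom (P ⊔ C) :=
    compose_mem F (restr_mem F hω hle) (autHom_mem F (ctr_le hP₀.1) hg) hωX
  have hω'P : ∀ (x : P) (h : (x : Ω) ∈ P ⊔ C), ω' ⟨x, h⟩ = ((γ (i x) : P₀) : Ω) := by
    intro x h
    show ((g ⟨ω ⟨x, _⟩, _⟩ : ctr S P₀) : Ω) = _
    have e : (⟨ω ⟨x, hle h⟩, hωX ⟨x, h⟩⟩ : ctr S P₀) =
        ⟨((i x : P₀) : Ω), le_ctr S P₀ (i x).2⟩ :=
      Subtype.ext (hωext x x.2 (hle h))
    exact (congrArg (fun z => ((g z : ctr S P₀) : Ω)) e).trans (hge (i x))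
  have key : ∀ x : P, t * ((γ (i x) : P₀) : Ω) * t⁻¹ = ((γ (i (τ x)) : P₀) : Ω) := by
    intro x
    rw [← hte (γ (i x))]
    show ((γ (MulAut.congr i τ (γ.symm (γ (i x)))) : P₀) : Ω) = _
    rw [MulEquiv.symm_apply_apply]
    show ((γ (i (τ (i.symm (i x)))) : P₀) : Ω) = _
    rw [MulEquiv.symm_apply_apply]
  obtain ⟨d, hd, hdr, hdl, hdl'⟩ := exists_inv F hω' rfl
  have hP₀ω : ∀ z ∈ P₀, ∃ x : P, ω' ⟨x, Subgroup.mem_sup_left x.2⟩ = z := by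
    intro z hz
    obtain ⟨w, hw⟩ := γ.surjective ⟨z, hz⟩
    obtain ⟨x, rfl⟩ := i.surjective w
    exact ⟨x, (hω'P x _).trans (congrArg Subtype.val hw)⟩
  have hC' : ∀ c, ∀ (hc : c ∈ C) (h : c ∈ P ⊔ C),
      ∃ x : P, t * ω' ⟨c, h⟩ * t⁻¹ = ω' ⟨c, h⟩ * ω' ⟨x, Subgroup.mem_sup_left x.2⟩ := by
    intro c hc h
    have hz : (ω' ⟨c, h⟩)⁻¹ * (t * ω' ⟨c, h⟩ * t⁻¹) ∈ P₀ := by
      refine hP₀c.2 (mem_centralizerIn_iff_conj.2 ⟨?_, fun z hz => ?_⟩)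
      · have h1 := T.mul_mem (D.conj_mem (S.inv_mem (apply_mem hω' ⟨c, h⟩)) ht) (T.inv_mem ht)
        rwa [show (ω' ⟨c, h⟩)⁻¹ * t * (ω' ⟨c, h⟩)⁻¹⁻¹ * t⁻¹ =
          (ω' ⟨c, h⟩)⁻¹ * (t * ω' ⟨c, h⟩ * t⁻¹) by group] at h1
      · have hcz : ∀ z ∈ P₀, ω' ⟨c, h⟩ * z * (ω' ⟨c, h⟩)⁻¹ = z := by
          intro z hz
          obtain ⟨x, rfl⟩ := hP₀ω z hz
          rw [← map_inv, ← map_mul, ← map_mul]
          exact congrArg ω' (Subtype.ext ((mem_centralizerIn_iff_conj.1 hc).2 x (hP.1 x.2)))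
        have hz' : t⁻¹ * z * t⁻¹⁻¹ ∈ P₀ := conj_mem_of_mem_normalizer (inv_mem htN) hz
        have h1 := hcz _ hz'
        have h2 := hcz z hz
        generalize ω' ⟨c, h⟩ = u at h1 h2 ⊢
        calc u⁻¹ * (t * u * t⁻¹) * z * (u⁻¹ * (t * u * t⁻¹))⁻¹
            = u⁻¹ * (t * (u * (t⁻¹ * z * t⁻¹⁻¹) * u⁻¹) * t⁻¹) * u := by group
          _ = u⁻¹ * (t * (t⁻¹ * z * t⁻¹⁻¹) * t⁻¹) * u := by rw [h1]
          _ = u⁻¹ * z * u := by group
          _ = u⁻¹ * (u * z * u⁻¹) * u := by rw [h2]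
          _ = z := by group
    obtain ⟨x, hx⟩ := hP₀ω _ hz
    exact ⟨x, by rw [hx, mul_inv_cancel_left]⟩
  have hm : ∀ y, compose ω' (conjHom ω'.range t) (fun y => ⟨y, rfl⟩) y ∈ ω'.range := by
    intro y
    have h1 : (compose ω' (conjHom ω'.range t) fun y => ⟨y, rfl⟩).range ≤ ω'.range := by
      rw [← img_self, img_sup _ le_sup_left le_sup_right]
      refine sup_le ?_ ?_
      · rintro _ ⟨⟨x, h⟩, hx, rfl⟩
        show t * ω' ⟨x, h⟩ * t⁻¹ ∈ _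
        rw [hω'P ⟨x, hx⟩ h, key, ← hω'P (τ ⟨x, hx⟩) (Subgroup.mem_sup_left (τ ⟨x, hx⟩).2)]
        exact ⟨_, rfl⟩
      · rintro _ ⟨⟨c, h⟩, hc, rfl⟩
        obtain ⟨x, hx⟩ := hC' c hc h
        show t * ω' ⟨c, h⟩ * t⁻¹ ∈ _
        rw [hx, ← map_mul]
        exact ⟨_, rfl⟩
    exact h1 ⟨y, rfl⟩
  have hψF : compose (compose ω' (conjHom ω'.range t) fun y => ⟨y, rfl⟩) d hm ∈ F.Hom (P ⊔ C) :=
    compose_mem F (compose_mem F hω' (F.conj_mem (range_le hω') (D.le ht)) _) hd hm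
  refine ⟨_, hψF, fun x h => ?_, fun c hc h => ?_⟩
  · show d ⟨t * ω' ⟨x, h⟩ * t⁻¹, _⟩ = _
    have e : t * ω' ⟨x, h⟩ * t⁻¹ = ω' ⟨((τ x : P) : Ω), Subgroup.mem_sup_left (τ x).2⟩ := by
      rw [hω'P, key, hω'P]
    simp only [e]
    exact hdl _ _
  · obtain ⟨x, hx⟩ := hC' c hc h
    show c⁻¹ * d ⟨t * ω' ⟨c, h⟩ * t⁻¹, _⟩ ∈ T
    have e : t * ω' ⟨c, h⟩ * t⁻¹ = ω' (⟨c, h⟩ * ⟨(x : Ω), Subgroup.mem_sup_left x.2⟩) := by
      rw [map_mul]
      exact hx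
    simp only [e]
    rw [hdl _ ⟨_, rfl⟩]
    show c⁻¹ * (c * (x : Ω)) ∈ T
    rw [inv_mul_cancel_left]
    exact hP.1 x.2

theorem WNData.fullyNormalized (D : WNData p F E) : F.IsFullyNormalized T := by
  refine ⟨D.le, fun Q ⟨φ, hφ, hr⟩ => ?_⟩
  have : Q = T := hr.symm.trans ((StronglyClosed.weaklyClosed D.inv.2.1).2 φ hφ)
  rw [this]

theorem ctr_map_centralizer (D : WNData p F E) {χ : MulAut (ctr S T)}
    (hχ : χ ∈ F.autGroup (ctr S T)) (y : ctr S T) (hy : (y : Ω) ∈ centralizerIn S T) :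
    ((χ y : ctr S T) : Ω) ∈ centralizerIn S T := by
  have hTS := D.le
  refine mem_centralizerIn_iff_conj.2 ⟨ctr_le hTS (χ y).2, fun t ht => ?_⟩
  obtain ⟨z, hz⟩ := χ.surjective ⟨t, le_ctr S T ht⟩
  have hzT : (z : Ω) ∈ T := (StronglyClosed.map_mem_iff D.inv.2.1
    (autHom_mem F (ctr_le hTS) hχ) z).1 (by rw [autHom_apply, hz]; exact ht)
  have e : y * z * y⁻¹ = z := Subtype.ext ((mem_centralizerIn_iff_conj.1 hy).2 z hzT)
  have h1 := congrArg (fun w => ((χ w : ctr S T) : Ω)) e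
  simp only [map_mul, map_inv, Subgroup.coe_mul, Subgroup.coe_inv, hz] at h1
  exact h1

/-- The automorphisms of `Y = P C_S(T)` acting on `P` as `N_T(P)` and trivially modulo `T`. -/
def stabSub (D : WNData p F E) (P : Subgroup Ω) (hP : P ≤ T) :
    Subgroup (MulAut ↥(P ⊔ centralizerIn S T)) where
  carrier := {a | a ∈ F.autGroup (P ⊔ centralizerIn S T) ∧
    (∃ n ∈ normalizerIn T P, ∀ x : ↥(P ⊔ centralizerIn S T), (x : Ω) ∈ P →
      ((a x : _) : Ω) = n * (x : Ω) * n⁻¹) ∧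
    ∀ y : ↥(P ⊔ centralizerIn S T), (y : Ω)⁻¹ * ((a y : _) : Ω) ∈ T}
  one_mem' := ⟨one_mem _, ⟨1, one_mem _, fun x _ => by simp⟩, fun y => by simp⟩
  mul_mem' := by
    rintro a b ⟨ha, ⟨n, hn, han⟩, ha'⟩ ⟨hb, ⟨m, hm, hbm⟩, hb'⟩
    refine ⟨mul_mem ha hb, ⟨n * m, mul_mem hn hm, fun x hx => ?_⟩, fun y => ?_⟩
    · have h1 : ((b x : _) : Ω) ∈ P := by
        rw [hbm x hx]
        exact conj_mem_of_mem_normalizer hm.2 hx
      rw [MulAut.mul_apply, han _ h1, hbm x hx]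
      group
    · have h := T.mul_mem (hb' y) (ha' (b y))
      rw [MulAut.mul_apply]
      rwa [show (y : Ω)⁻¹ * ((b y : _) : Ω) * (((b y : _) : Ω)⁻¹ * ((a (b y) : _) : Ω)) =
        (y : Ω)⁻¹ * ((a (b y) : _) : Ω) by group] at h
  inv_mem' := by
    rintro a ⟨ha, ⟨n, hn, han⟩, ha'⟩
    refine ⟨inv_mem ha, ⟨n⁻¹, inv_mem hn, fun x hx => ?_⟩, fun y => ?_⟩
    · have hx' : n⁻¹ * (x : Ω) * n⁻¹⁻¹ ∈ P := conj_mem_of_mem_normalizer (inv_mem hn.2) hx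
      have h1 := han ⟨_, Subgroup.mem_sup_left hx'⟩ hx'
      have e : a ⟨_, Subgroup.mem_sup_left hx'⟩ = x := Subtype.ext (h1.trans (by group))
      conv_lhs => rw [← e]
      rw [MulAut.inv_apply, MulEquiv.symm_apply_apply]
    · have h := T.inv_mem (ha' (a⁻¹ y))
      rw [MulAut.inv_apply, MulEquiv.apply_symm_apply] at h
      rw [MulAut.inv_apply]
      rwa [mul_inv_rev, inv_inv] at h

/-- An automorphism fixing `P` and trivial modulo `T` has `p`-power order. -/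
theorem pow_card_eq_one_of_stab (D : WNData p F E) {P : Subgroup Ω} (hP : E.IsCentric P)
    {a : MulAut ↥(P ⊔ centralizerIn S T)}
    (hfix : ∀ x : ↥(P ⊔ centralizerIn S T), (x : Ω) ∈ P → a x = x)
    (hT : ∀ y : ↥(P ⊔ centralizerIn S T), (y : Ω)⁻¹ * ((a y : _) : Ω) ∈ T) :
    a ^ Nat.card P = 1 := by
  have := D.finite
  have := finite_of_le (hP.1.trans D.le)
  have hfix' : ∀ k : ℕ, ∀ x : ↥(P ⊔ centralizerIn S T), (x : Ω) ∈ P → (a ^ k) x = x := by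
    intro k
    induction k with
    | zero => intro x _; simp
    | succ k ih => intro x hx; rw [pow_succ', MulAut.mul_apply, ih x hx, hfix x hx]
  suffices h : autHom (a ^ Nat.card P) = autHom 1 from
    MulEquiv.ext fun y => Subtype.ext (DFunLike.congr_fun h y)
  refine hom_ext_sup (fun x hx hxP => congrArg Subtype.val (hfix' _ ⟨x, hx⟩ hxP)) fun c hc hcC => ?_
  set y : ↥(P ⊔ centralizerIn S T) := ⟨c, hc⟩
  have hw : (y : Ω)⁻¹ * ((a y : _) : Ω) ∈ P := by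
    refine hP.2 P (isConj_refl E hP.1) (mem_centralizerIn_iff_conj.2 ⟨hT y, fun x hx => ?_⟩)
    let x' : ↥(P ⊔ centralizerIn S T) := ⟨x, Subgroup.mem_sup_left hx⟩
    have e : y * x' * y⁻¹ = x' :=
      Subtype.ext ((mem_centralizerIn_iff_conj.1 hcC).2 x (hP.1 hx))
    have h1 := congrArg (fun z => ((a z : _) : Ω)) e
    simp only [map_mul, map_inv, Subgroup.coe_mul, Subgroup.coe_inv, hfix x' hx] at h1
    have h2 : c * x * c⁻¹ = x := congrArg Subtype.val e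
    show c⁻¹ * ((a y : _) : Ω) * x * (c⁻¹ * ((a y : _) : Ω))⁻¹ = x
    calc c⁻¹ * ((a y : _) : Ω) * x * (c⁻¹ * ((a y : _) : Ω))⁻¹
        = c⁻¹ * (((a y : _) : Ω) * x * ((a y : _) : Ω)⁻¹) * c := by group
      _ = c⁻¹ * x * c := by rw [show ((a y : _) : Ω) * x * ((a y : _) : Ω)⁻¹ = x from h1]
      _ = c⁻¹ * (c * x * c⁻¹) * c := by rw [h2]
      _ = x := by group
  let w : ↥(P ⊔ centralizerIn S T) := y⁻¹ * a y
  have hk : ∀ k : ℕ, (a ^ k) y = y * w ^ k := by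
    intro k
    induction k with
    | zero => simp
    | succ k ih =>
      rw [pow_succ', MulAut.mul_apply, ih, map_mul, map_pow, hfix w hw,
        show a y = y * w from (mul_inv_cancel_left y (a y)).symm, mul_assoc, ← pow_succ']
  have hwp : w ^ Nat.card P = 1 := Subtype.ext (by
    have h1 := congrArg (fun z : P => (z : Ω)) (pow_card_eq_one' (x := (⟨_, hw⟩ : P)))
    simp only [SubmonoidClass.coe_pow, OneMemClass.coe_one] at h1 ⊢
    exact h1)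
  rw [autHom_apply, hk, hwp, mul_one]
  rfl

/-- Raising: from `P` to its normalizer, at the price of a `p`-power. -/
theorem twist_raise (D : WNData p F E) {P : Subgroup Ω} (hP : E.IsCentric P) {a : MulAut T}
    (ha : a ∈ E.autGroup T) (htw : Twist F T (restr hP.1 (autHom a))) :
    ∃ m : ℕ, Twist F T (restr (normalizerIn_le T P) (autHom (a ^ p ^ m))) := by
  have := D.finite
  have hTp := D.pgroupT
  have hTS := D.le
  have haE : restr hP.1 (autHom a) ∈ E.Hom P := restr_mem E (autHom_mem E le_rfl ha) hP.1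
  have haF : a ∈ F.autGroup T := autGroup_le_of_isSubsystemOf D.inv.1 le_rfl ha
  have := finite_of_le (hP.1.trans hTS)
  obtain ⟨χ, hχ, hχe⟩ := exists_extension D.pgroup D.saturated D.fullyNormalized haF
  set C := centralizerIn S T with hC
  set Y := P ⊔ C with hY
  obtain ⟨ψ, hψ, h₁, h₂⟩ := htw
  have hψr := twist_range D hP haE hψ h₁ h₂
  have hψT := twist_trivMod D hP.1 (fun x => (a _).2) h₁ h₂
  have hYX : Y ≤ ctr S T := sup_le_sup_right hP.1 _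
  have hYS : Y ≤ S := hYX.trans (ctr_le hTS)
  have := finite_of_le hYS
  have hψX : ∀ y, ψ y ∈ ctr S T := by
    intro y
    have h : ψ y ∈ (restr hP.1 (autHom a)).range ⊔ C := hψr.le ⟨y, rfl⟩
    exact sup_le_sup_right (range_le haE) _ h
  have hχi := inv_mem hχ
  let e₀ := compose ψ (autHom χ⁻¹) hψX
  have he₀ : e₀ ∈ F.Hom Y := compose_mem F hψ (autHom_mem F (ctr_le hTS) hχi) hψX
  have he₀P : ∀ x (h : x ∈ Y), x ∈ P → e₀ ⟨x, h⟩ = x := by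
    intro x h hx
    show ((χ⁻¹ ⟨ψ ⟨x, h⟩, _⟩ : ctr S T) : Ω) = x
    have e : (⟨ψ ⟨x, h⟩, hψX _⟩ : ctr S T) = χ ⟨x, hYX h⟩ :=
      Subtype.ext ((h₁ ⟨x, hx⟩ h).trans (hχe ⟨x, hP.1 hx⟩).symm)
    rw [e, MulAut.inv_apply, MulEquiv.symm_apply_apply]
  have he₀Y : e₀.range ≤ Y := by
    rw [range_compose, hψr, img_sup _ ((range_le haE).trans (le_ctr S T)) le_sup_right]
    refine sup_le_sup ?_ ?_
    · rintro _ ⟨z, ⟨x, hx⟩, rfl⟩
      show ((χ⁻¹ z : ctr S T) : Ω) ∈ P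
      have e : z = χ ⟨x, le_ctr S T (hP.1 x.2)⟩ :=
        Subtype.ext (hx.symm.trans (hχe ⟨x, hP.1 x.2⟩).symm)
      rw [e, MulAut.inv_apply, MulEquiv.symm_apply_apply]
      exact x.2
    · rintro _ ⟨z, hz, rfl⟩
      exact ctr_map_centralizer D hχi z hz
  have he₀r : e₀.range = Y :=
    Subgroup.eq_of_le_of_card_ge he₀Y (card_range_eq (F.injective_of_mem he₀)).ge
  set ε : MulAut Y := isoOf e₀ (F.injective_of_mem he₀) he₀r with hε
  have hεF : ε ∈ F.autGroup Y := mem_autGroup_of_hom F he₀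
  have hεP : ∀ x : Y, (x : Ω) ∈ P → ε x = x := fun x hx => Subtype.ext (he₀P x x.2 hx)
  have hχε : ∀ y : Y, ((χ ⟨ε y, hYX (ε y).2⟩ : ctr S T) : Ω) = ψ y := fun y => by
    have e : (⟨((ε y : Y) : Ω), hYX (ε y).2⟩ : ctr S T) = χ⁻¹ ⟨ψ y, hψX y⟩ := Subtype.ext rfl
    rw [e, MulAut.inv_apply, MulEquiv.apply_symm_apply]
  -- the group of automorphisms of `Y` above those induced by `N = N_T(P)`
  set N := normalizerIn T P with hN
  have hNT : N ≤ T := normalizerIn_le T P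
  have hnY : ∀ n ∈ N, n ∈ Subgroup.normalizer (Y : Set Ω) ∧ ∀ c ∈ C, n * c * n⁻¹ = c := by
    intro n hn
    have hfixC : ∀ c ∈ C, n * c * n⁻¹ = c := fun c hc => by
      have h1 := (mem_centralizerIn_iff_conj.1 hc).2 n (hNT hn)
      calc n * c * n⁻¹ = (c * n * c⁻¹) * c * n⁻¹ := by rw [h1]
        _ = c := by group
    refine ⟨mem_normalizer_of_finite fun y hy => ?_, hfixC⟩
    have hle : Y.map (MulAut.conj n).toMonoidHom ≤ Y := by
      rw [hY, Subgroup.map_sup]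
      refine sup_le_sup ?_ ?_
      · rintro _ ⟨x, hx, rfl⟩
        exact conj_mem_of_mem_normalizer hn.2 hx
      · rintro _ ⟨x, hx, rfl⟩
        show n * x * n⁻¹ ∈ C
        rw [hfixC x hx]
        exact hx
    exact hle ⟨y, hy, rfl⟩
  set L := stabSub D P hP.1 with hL
  have hcn : ∀ n (hn : n ∈ N), conjAut (hnY n hn).1 ∈ L := by
    intro n hn
    refine ⟨conjAut_mem_autGroup F hYS (hTS (hNT hn)) _, ⟨n, hn, fun x _ => rfl⟩, fun y => ?_⟩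
    show (y : Ω)⁻¹ * (n * (y : Ω) * n⁻¹) ∈ T
    have h := T.mul_mem (D.conj_mem (S.inv_mem (hYS y.2)) (hNT hn)) (T.inv_mem (hNT hn))
    rwa [show (y : Ω)⁻¹ * n * (y : Ω)⁻¹⁻¹ * n⁻¹ = (y : Ω)⁻¹ * (n * (y : Ω) * n⁻¹) by group] at h
  have hεL : ∀ b ∈ L, ε * b * ε⁻¹ ∈ L := by
    rintro b ⟨hb, ⟨n, hn, hbn⟩, hb'⟩
    refine ⟨mul_mem (mul_mem hεF hb) (inv_mem hεF), ⟨n, hn, fun x hx => ?_⟩, fun y => ?_⟩
    · have h1 : ε⁻¹ x = x := by
        conv_lhs => rw [← hεP x hx]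
        rw [MulAut.inv_apply, MulEquiv.symm_apply_apply]
      have h2 : ((b x : Y) : Ω) ∈ P := by
        rw [hbn x hx]
        exact conj_mem_of_mem_normalizer hn.2 hx
      rw [MulAut.mul_apply, MulAut.mul_apply, h1, hεP _ h2, hbn x hx]
    · obtain ⟨w, rfl⟩ := ε.surjective y
      rw [MulAut.mul_apply, MulAut.mul_apply, MulAut.inv_apply, MulEquiv.symm_apply_apply]
      have h1 : ((ε w : Y) : Ω)⁻¹ * ((ε (b w) : Y) : Ω) = ((ε (w⁻¹ * b w) : Y) : Ω) := by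
        rw [map_mul, map_inv]
        rfl
      rw [h1, ← autHom_apply]
      exact StronglyClosed.map_mem D.inv.2.1 (autHom_mem F hYS hεF) _ (hb' w)
  have hLp : IsPGroup p L := by
    rintro ⟨b, hb⟩
    obtain ⟨-, ⟨n, hn, hbn⟩, -⟩ := id hb
    obtain ⟨k, hk⟩ := hTp.to_le hNT ⟨n, hn⟩
    have hnk : n ^ p ^ k = 1 := congrArg Subtype.val hk
    have hfix : ∀ x : Y, (x : Ω) ∈ P → (b ^ p ^ k) x = x := by
      have hpow : ∀ j : ℕ, ∀ x : Y, (x : Ω) ∈ P →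
          (((b ^ j) x : Y) : Ω) = n ^ j * (x : Ω) * (n ^ j)⁻¹ := by
        intro j
        induction j with
        | zero => intro x _; simp
        | succ j ih =>
          intro x hx
          have h2 : (((b ^ j) x : Y) : Ω) ∈ P := by
            rw [ih x hx]
            exact conj_mem_of_mem_normalizer (pow_mem hn.2 j) hx
          rw [pow_succ', MulAut.mul_apply, hbn _ h2, ih x hx, pow_succ']
          group
      intro x hx
      refine Subtype.ext ?_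
      rw [hpow _ x hx, hnk]
      simp
    obtain ⟨m, hm⟩ : ∃ m, Nat.card P = p ^ m :=
      IsPGroup.iff_card.1 (hTp.to_le hP.1)
    refine ⟨k + m, Subtype.ext ?_⟩
    show b ^ p ^ (k + m) = 1
    rw [pow_add, pow_mul, ← hm]
    exact pow_card_eq_one_of_stab D hP hfix (pow_mem hb (p ^ k)).2.2
  obtain ⟨Y₀, hYY₀, hY₀⟩ := exists_fullyNormalized F hYS
  obtain ⟨f, hf, hfr⟩ := hYY₀
  set i := isoOf f (F.injective_of_mem hf) hfr with hi
  have hY₀ar := IsSaturated.automized_receptive D.pgroup D.saturated hY₀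
  obtain ⟨γ, hγ, hγL⟩ := IsFullyAutomized.exists_conj hY₀ar.1
    (X := L.map (MulAut.congr i).toMonoidHom)
    ((Subgroup.map_mono (show L ≤ F.autGroup Y from fun b hb => hb.1)).trans (map_congr_autGroup F hf hfr).le) (hLp.map _)
  have hfY : ∀ x, f x ∈ Y₀ := fun x => hfr ▸ ⟨x, rfl⟩
  let ω := compose f (autHom γ) hfY
  have hω : ω ∈ F.Hom Y := compose_mem F hf (autHom_mem F hY₀.1 hγ) hfY
  have hωr : ω.range = Y₀ := by rw [range_compose, hfr, img_self, range_autHom]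
  have key : ∀ b ∈ L, ∃ s ∈ S, ∀ x : Y, s * ω x * s⁻¹ = ω (b x) := by
    intro b hb
    obtain ⟨s, hs, hse⟩ := mem_autInducedBy.1 (hγL _ ⟨b, hb, rfl⟩)
    refine ⟨s, hs, fun x => ?_⟩
    show s * ((γ (i x) : Y₀) : Ω) * s⁻¹ = ((γ (i (b x)) : Y₀) : Ω)
    rw [← hse (γ (i x))]
    show ((γ (MulAut.congr i b (γ.symm (γ (i x)))) : Y₀) : Ω) = _
    rw [MulEquiv.symm_apply_apply]
    show ((γ (i (b (i.symm (i x)))) : Y₀) : Ω) = _
    rw [MulEquiv.symm_apply_apply]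
  -- extend `ω` to `N C`
  obtain ⟨Φ, hΦ, hΦe, hΦv⟩ := IsReceptive.extend hY₀ar.2 hω hωr
  have hNCe : N ⊔ C ≤ extender S Y ω := by
    refine sup_le (fun n hn => ?_)
      ((le_sup_right : C ≤ Y).trans (le_extender hYS (apply_mem hω)))
    obtain ⟨s, hs, hse⟩ := key _ (hcn n hn)
    exact mem_extender.2 ⟨hTS (hNT hn), (hnY n hn).1, s, hs, fun x hx => (hse x).symm⟩
  have hPN : P ≤ N := le_normalizerIn hP.1
  have hYN : Y ≤ N ⊔ C := sup_le_sup_right hPN _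
  set Φ' := restr hNCe Φ with hΦ'
  have hΦ'F : Φ' ∈ F.Hom (N ⊔ C) := restr_mem F hΦ hNCe
  have hΦ'Y : ∀ (y : Y) (h : (y : Ω) ∈ N ⊔ C), Φ' ⟨y, h⟩ = ω y := fun y h => hΦe y y.2 (hNCe h)
  -- `ε` seen at `Y₀`
  obtain ⟨ωi, hωi, hωir, hωl, hωl'⟩ := exists_inv F hω hωr
  have hωiY : ∀ y, ωi y ∈ Y := fun y => hωir.le ⟨y, rfl⟩
  let e₁ := compose (compose ωi (autHom ε) hωiY) ω (fun y => (ε _).2)
  have he₁ : e₁ ∈ F.Hom Y₀ :=
    compose_mem F (compose_mem F hωi (autHom_mem F hYS hεF) hωiY) hω _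
  have he₁ω : ∀ y : Y, ∀ h, e₁ ⟨ω y, h⟩ = ω (ε y) := by
    intro y h
    show ω ⟨autHom ε ⟨ωi ⟨ω y, h⟩, _⟩, _⟩ = _
    have e : (⟨ωi ⟨ω y, h⟩, hωiY _⟩ : Y) = y := Subtype.ext (hωl y h)
    exact congrArg (fun w => ω (ε w)) e
  have he₁r : e₁.range = Y₀ := by
    have := finite_of_le hY₀.1
    refine Subgroup.eq_of_le_of_card_ge ?_ (card_range_eq (F.injective_of_mem he₁)).ge
    rintro _ ⟨x, rfl⟩
    exact hωr.le ⟨_, rfl⟩
  obtain ⟨ξ, hξ, hξe, hξv⟩ := IsReceptive.extend hY₀ar.2 he₁ he₁r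
  have hrle : Φ'.range ≤ extender S Y₀ e₁ := by
    rw [← img_self, img_sup Φ' le_sup_left le_sup_right]
    refine sup_le ?_ ?_
    · rintro _ ⟨⟨n, hn'⟩, hn, rfl⟩
      obtain ⟨s, hs, hse⟩ := key _ (hεL _ (hcn n hn))
      refine mem_extender.2 ⟨apply_mem hΦ'F _, (hΦv _).2, s, hs, ?_⟩
      intro x hx
      obtain ⟨y, hy⟩ := hωr.ge x.2
      have hny : n * (y : Ω) * n⁻¹ ∈ Y := conj_mem_of_mem_normalizer (hnY n hn).1 y.2
      have e1 : Φ' ⟨n, hn'⟩ * (x : Ω) * (Φ' ⟨n, hn'⟩)⁻¹ = ω ⟨_, hny⟩ := by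
        rw [← hy, ← hΦ'Y y (hYN y.2), ← map_inv, ← map_mul, ← map_mul]
        exact hΦ'Y ⟨_, hny⟩ _
      have e2 : x = ⟨ω y, hωr.le ⟨y, rfl⟩⟩ := Subtype.ext hy.symm
      simp only [e1]
      rw [he₁ω, e2, he₁ω]
      refine Eq.trans ?_ (hse (ε y)).symm
      refine congrArg ω ?_
      rw [MulAut.mul_apply, MulAut.mul_apply, MulAut.inv_apply, MulEquiv.symm_apply_apply]
      rfl
    · rintro _ ⟨⟨c, hc'⟩, hc, rfl⟩
      rw [hΦ'Y ⟨c, Subgroup.mem_sup_right hc⟩ hc']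
      exact le_extender hY₀.1 (apply_mem he₁) (hωr.le ⟨_, rfl⟩)
  set ξ' := restr hrle ξ with hξ'
  have hξ'F : ξ' ∈ F.Hom Φ'.range := restr_mem F hξ hrle
  let e₂ := compose Φ' ξ' (fun y => ⟨y, rfl⟩)
  have he₂ : e₂ ∈ F.Hom (N ⊔ C) := compose_mem F hΦ'F hξ'F _
  have he₂Y : ∀ (y : Y) (h : (y : Ω) ∈ N ⊔ C), e₂ ⟨y, h⟩ = ω (ε y) := by
    intro y h
    show ξ ⟨Φ' ⟨y, h⟩, _⟩ = _
    simp only [hΦ'Y y h]
    rw [hξe (ω y) (hωr.le ⟨y, rfl⟩), he₁ω]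
  have hP₀ := isCentric_of_invariant_conj D.inv hP
    (isConj_img F hω (le_sup_left : P ≤ Y))
  have hn_z : ∀ n (hn : n ∈ N), ∃ x : P,
      e₂ ⟨n, Subgroup.mem_sup_left hn⟩ =
        Φ' (⟨n, Subgroup.mem_sup_left hn⟩ * ⟨x, Subgroup.mem_sup_left (hPN x.2)⟩) := by
    intro n hn
    set n' : ↥(N ⊔ C) := ⟨n, Subgroup.mem_sup_left hn⟩
    have hz : (Φ' n')⁻¹ * e₂ n' ∈ img ω P := by
      refine hP₀.2 (mem_centralizerIn_iff_conj.2 ⟨T.mul_mem
        (T.inv_mem (StronglyClosed.map_mem D.inv.2.1 hΦ'F _ (hNT hn)))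
        (StronglyClosed.map_mem D.inv.2.1 he₂ _ (hNT hn)), ?_⟩)
      rintro _ ⟨x, hx, rfl⟩
      have hnx : n * (x : Ω) * n⁻¹ ∈ P := conj_mem_of_mem_normalizer hn.2 hx
      let x' : ↥(N ⊔ C) := ⟨x, hYN x.2⟩
      have h1 : Φ' n' * ω x * (Φ' n')⁻¹ = ω ⟨_, Subgroup.mem_sup_left hnx⟩ := by
        rw [← hΦ'Y x x'.2, ← map_inv, ← map_mul, ← map_mul]
        exact hΦ'Y ⟨_, Subgroup.mem_sup_left hnx⟩ _
      have h2 : e₂ n' * ω x * (e₂ n')⁻¹ = ω ⟨_, Subgroup.mem_sup_left hnx⟩ := by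
        have h3 : e₂ x' = ω x := (he₂Y x _).trans (congrArg ω (hεP x hx))
        rw [← h3, ← map_inv, ← map_mul, ← map_mul]
        exact (he₂Y ⟨_, Subgroup.mem_sup_left hnx⟩ _).trans
          (congrArg ω (hεP ⟨_, Subgroup.mem_sup_left hnx⟩ hnx))
      generalize Φ' n' = u at h1 ⊢
      generalize e₂ n' = v at h2 ⊢
      calc u⁻¹ * v * ω x * (u⁻¹ * v)⁻¹ = u⁻¹ * (v * ω x * v⁻¹) * u := by group
        _ = u⁻¹ * (u * ω x * u⁻¹) * u := by rw [h2, h1]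
        _ = ω x := by group
    obtain ⟨x, hx, hxz⟩ := hz
    refine ⟨⟨x, hx⟩, ?_⟩
    rw [map_mul, hΦ'Y x, hxz, mul_inv_cancel_left]
  have he₂r : ∀ y, e₂ y ∈ Φ'.range := by
    intro y
    have h1 : e₂.range ≤ Φ'.range := by
      rw [← img_self, img_sup e₂ le_sup_left le_sup_right]
      refine sup_le ?_ ?_
      · rintro _ ⟨⟨n, hn'⟩, hn, rfl⟩
        obtain ⟨x, hx⟩ := hn_z n hn
        exact ⟨_, hx.symm⟩
      · rintro _ ⟨⟨c, hc'⟩, hc, rfl⟩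
        rw [he₂Y ⟨c, Subgroup.mem_sup_right hc⟩ hc']
        exact ⟨⟨_, hYN (ε _).2⟩, hΦ'Y _ _⟩
    exact h1 ⟨y, rfl⟩
  obtain ⟨Φi, hΦi, hΦir, hΦl, -⟩ := exists_inv F hΦ'F rfl
  let e₃ := compose e₂ Φi he₂r
  have he₃ : e₃ ∈ F.Hom (N ⊔ C) := compose_mem F he₂ hΦi he₂r
  have hNCS : N ⊔ C ≤ S := sup_le (hNT.trans hTS) (centralizerIn_le S T)
  have := finite_of_le hNCS
  have he₃r : e₃.range = N ⊔ C := by
    refine Subgroup.eq_of_le_of_card_ge ?_ (card_range_eq (F.injective_of_mem he₃)).ge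
    rintro _ ⟨x, rfl⟩
    exact hΦir.le ⟨_, rfl⟩
  set ε' : MulAut ↥(N ⊔ C) := isoOf e₃ (F.injective_of_mem he₃) he₃r with hε'
  have hε'Y : ∀ (y : Y) (h : (y : Ω) ∈ N ⊔ C),
      ((ε' ⟨y, h⟩ : ↥(N ⊔ C)) : Ω) = ((ε y : Y) : Ω) := by
    intro y h
    show Φi ⟨e₂ ⟨y, h⟩, _⟩ = _
    have e : e₂ ⟨y, h⟩ = Φ' ⟨ε y, hYN (ε y).2⟩ := by rw [he₂Y, hΦ'Y]
    simp only [e]
    exact hΦl _ _
  have hε'N : ∀ n (hn : n ∈ N), ∃ x : P, ε' ⟨n, Subgroup.mem_sup_left hn⟩ =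
      ⟨n, Subgroup.mem_sup_left hn⟩ * ⟨x, Subgroup.mem_sup_left (hPN x.2)⟩ := by
    intro n hn
    obtain ⟨x, hx⟩ := hn_z n hn
    refine ⟨x, Subtype.ext ?_⟩
    show Φi ⟨e₂ _, _⟩ = _
    simp only [hx]
    exact hΦl _ _
  obtain ⟨m, hm⟩ : ∃ m, Nat.card P = p ^ m := IsPGroup.iff_card.1 (hTp.to_le hP.1)
  refine ⟨m, ?_⟩
  have hε'P : ∀ x : ↥(N ⊔ C), (x : Ω) ∈ P → ε' x = x := fun x hx => Subtype.ext
    ((hε'Y ⟨x, Subgroup.mem_sup_left hx⟩ x.2).trans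
      (congrArg Subtype.val (hεP ⟨x, Subgroup.mem_sup_left hx⟩ hx)))
  have hε'M : ∀ n (hn : n ∈ N),
      (ε' ^ p ^ m) ⟨n, Subgroup.mem_sup_left hn⟩ = ⟨n, Subgroup.mem_sup_left hn⟩ := by
    intro n hn
    obtain ⟨x, hx⟩ := hε'N n hn
    set n' : ↥(N ⊔ C) := ⟨n, Subgroup.mem_sup_left hn⟩
    set x' : ↥(N ⊔ C) := ⟨x, Subgroup.mem_sup_left (hPN x.2)⟩
    have hk : ∀ k : ℕ, (ε' ^ k) n' = n' * x' ^ k := by
      intro k
      induction k with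
      | zero => simp
      | succ k ih =>
        rw [pow_succ', MulAut.mul_apply, ih, map_mul, map_pow, hε'P x' x.2, hx, mul_assoc,
          ← pow_succ']
    rw [hk, ← hm, show x' ^ Nat.card P = 1 from Subtype.ext (by
      have h1 := congrArg (fun z : P => (z : Ω)) (pow_card_eq_one' (x := x))
      simp only [SubmonoidClass.coe_pow, OneMemClass.coe_one] at h1 ⊢
      exact h1), mul_one]
  have hε'pow : ∀ (j : ℕ) (y : Y) (h : (y : Ω) ∈ N ⊔ C),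
      (((ε' ^ j) ⟨y, h⟩ : ↥(N ⊔ C)) : Ω) = (((ε ^ j) y : Y) : Ω) := by
    intro j
    induction j with
    | zero => intro y h; rfl
    | succ j ih =>
      intro y h
      rw [pow_succ', pow_succ', MulAut.mul_apply, MulAut.mul_apply]
      rw [show (ε' ^ j) ⟨y, h⟩ = ⟨((ε ^ j) y : Y), hYN ((ε ^ j) y).2⟩ from Subtype.ext (ih y h)]
      exact hε'Y _ _
  have hNCX : N ⊔ C ≤ ctr S T := sup_le_sup_right hNT _
  have hχpow : ∀ (j : ℕ) (t : T),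
      (((χ ^ j) ⟨t, le_ctr S T t.2⟩ : ctr S T) : Ω) = (((a ^ j) t : T) : Ω) := by
    intro j
    induction j with
    | zero => intro t; rfl
    | succ j ih =>
      intro t
      rw [pow_succ', pow_succ', MulAut.mul_apply, MulAut.mul_apply, ← hχe ((a ^ j) t)]
      exact congrArg (fun z => ((χ z : ctr S T) : Ω)) (Subtype.ext (ih t))
  have htriv : ∀ (j : ℕ) (y : Y),
      (y : Ω)⁻¹ * (((χ ^ j) ⟨(ε ^ j) y, hYX ((ε ^ j) y).2⟩ : ctr S T) : Ω) ∈ T := by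
    intro j
    induction j with
    | zero =>
      intro y
      show (y : Ω)⁻¹ * (y : Ω) ∈ T
      rw [inv_mul_cancel]
      exact T.one_mem
    | succ j ih =>
      intro y
      set z : Y := (ε ^ j) y with hz
      have ht : (z : Ω)⁻¹ * ψ z ∈ T := hψT z
      have e0 : χ ⟨(ε ^ (j + 1)) y, hYX ((ε ^ (j + 1)) y).2⟩ = ⟨ψ z, hψX z⟩ := by
        refine Subtype.ext ?_
        refine Eq.trans ?_ (hχε z)
        exact congrArg (fun w => ((χ w : ctr S T) : Ω))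
          (Subtype.ext (congrArg (fun w : Y => (w : Ω)) (by rw [pow_succ', MulAut.mul_apply] : (ε ^ (j + 1)) y = ε z)))
      have e1 : (⟨ψ z, hψX z⟩ : ctr S T) = ⟨z, hYX z.2⟩ * ⟨_, le_ctr S T ht⟩ :=
        Subtype.ext (mul_inv_cancel_left _ _).symm
      rw [pow_succ, MulAut.mul_apply, e0, e1, map_mul, Subgroup.coe_mul,
        hχpow j ⟨_, ht⟩, ← mul_assoc]
      exact T.mul_mem (ih y) (SetLike.coe_mem _)
  refine ⟨compose (autHom (ε' ^ p ^ m)) (autHom (χ ^ p ^ m)) (fun y => hNCX ((ε' ^ p ^ m) y).2),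
    compose_mem F (autHom_mem F hNCS (pow_mem (mem_autGroup_of_hom F he₃) _))
      (autHom_mem F (ctr_le hTS) (pow_mem hχ _)) _, fun x h => ?_, fun c hc h => ?_⟩
  · rw [compose_apply]
    have e : (⟨autHom (ε' ^ p ^ m) ⟨x, h⟩, hNCX ((ε' ^ p ^ m) ⟨x, h⟩).2⟩ : ctr S T) =
        ⟨x, le_ctr S T (hNT x.2)⟩ := Subtype.ext (congrArg (fun w : ↥(N ⊔ C) => (w : Ω)) (hε'M x x.2))
    rw [e]
    exact hχpow _ ⟨x, hNT x.2⟩
  · rw [compose_apply]
    let y : Y := ⟨c, Subgroup.mem_sup_right hc⟩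
    have e : (⟨autHom (ε' ^ p ^ m) ⟨c, h⟩, hNCX ((ε' ^ p ^ m) ⟨c, h⟩).2⟩ : ctr S T) =
        ⟨(ε ^ p ^ m) y, hYX ((ε ^ p ^ m) y).2⟩ := Subtype.ext (hε'pow _ y h)
    rw [e]
    exact htriv _ y

theorem twistAut_le (D : WNData p F E) : (twistSystem D).autGroup T ≤ E.autGroup T := fun _ ha =>
  mem_autGroup_of_hom E (autHom_mem (twistSystem D) le_rfl ha).1

theorem twistAut_normal (D : WNData p F E) :
    (((twistSystem D).autGroup T).subgroupOf (E.autGroup T)).Normal := by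
  have := D.finite
  have hTS := D.le
  refine ⟨fun b hb g => ?_⟩
  obtain ⟨hbE, hbt⟩ := autHom_mem (twistSystem D) le_rfl (Subgroup.mem_subgroupOf.1 hb)
  obtain ⟨ψ, hψ, h₁, h₂⟩ := hbt (isCentric_self E)
  have hψr := twist_range D (isCentric_self E) hbE hψ h₁ h₂
  have hψT := twist_trivMod D le_rfl (fun x => ((b : MulAut T) x).2) h₁ h₂
  obtain ⟨χ, hχ, hχe⟩ := exists_extension D.pgroup D.saturated D.fullyNormalized
    (autGroup_le_of_isSubsystemOf D.inv.1 le_rfl g.2)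
  refine Subgroup.mem_subgroupOf.2 (mem_autGroup_of_hom _ ⟨autHom_mem E le_rfl (mul_mem
    (mul_mem g.2 b.2) (inv_mem g.2)), fun _ => ?_⟩)
  have hm1 : ∀ y, autHom χ⁻¹ y ∈ ctr S T := fun y => (χ⁻¹ y).2
  have hm2 : ∀ y, compose (autHom χ⁻¹) ψ hm1 y ∈ ctr S T := fun y => by
    have h : ψ ⟨autHom χ⁻¹ y, hm1 y⟩ ∈
        (autHom (b : MulAut T)).range ⊔ centralizerIn S T := hψr.le ⟨_, rfl⟩
    rw [range_autHom] at h
    exact h
  refine ⟨compose (compose (autHom χ⁻¹) ψ hm1) (autHom χ) hm2,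
    compose_mem F (compose_mem F (autHom_mem F (ctr_le hTS) (inv_mem hχ)) hψ hm1)
      (autHom_mem F (ctr_le hTS) hχ) hm2, fun x h => ?_, fun c hc h => ?_⟩
  · have hx' : χ⁻¹ ⟨x, h⟩ = ⟨(((g : MulAut T)⁻¹ x : T) : Ω),
        le_ctr S T ((g : MulAut T)⁻¹ x).2⟩ := by
      rw [MulAut.inv_apply, MulEquiv.symm_apply_eq]
      refine Subtype.ext ?_
      rw [hχe ((g : MulAut T)⁻¹ x), MulAut.inv_apply, MulEquiv.apply_symm_apply]
    show ((χ ⟨ψ ⟨autHom χ⁻¹ ⟨x, h⟩, _⟩, _⟩ : ctr S T) : Ω) = _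
    have e1 : ψ ⟨autHom χ⁻¹ ⟨x, h⟩, hm1 _⟩ =
        (((b : MulAut T) ((g : MulAut T)⁻¹ x) : T) : Ω) := by
      refine Eq.trans (congrArg ψ (Subtype.ext (a2 := ⟨_, le_ctr S T ((g : MulAut T)⁻¹ x).2⟩) ?_))
        (h₁ _ _)
      exact congrArg Subtype.val hx'
    simp only [e1]
    exact hχe ((b : MulAut T) ((g : MulAut T)⁻¹ x))
  · set u : ctr S T := χ⁻¹ ⟨c, h⟩ with hu
    have ht : (u : Ω)⁻¹ * ψ u ∈ T := hψT u
    show c⁻¹ * ((χ ⟨ψ u, _⟩ : ctr S T) : Ω) ∈ T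
    have e1 : (⟨ψ u, hm2 ⟨c, h⟩⟩ : ctr S T) = u * ⟨_, le_ctr S T ht⟩ :=
      Subtype.ext (mul_inv_cancel_left _ _).symm
    have hχu : χ u = ⟨c, h⟩ := χ.apply_symm_apply _
    rw [e1, map_mul, hχu, Subgroup.coe_mul]
    show c⁻¹ * (c * autHom χ _) ∈ T
    rw [inv_mul_cancel_left]
    exact StronglyClosed.map_mem D.inv.2.1 (autHom_mem F (ctr_le hTS) hχ) _ ht

/-- A `p`-power in the twistable automorphisms puts the element itself there. -/
theorem mem_twistAut_of_pow (D : WNData p F E) {a : MulAut T} (ha : a ∈ E.autGroup T) {m : ℕ}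
    (h : a ^ p ^ m ∈ (twistSystem D).autGroup T) : a ∈ (twistSystem D).autGroup T := by
  have := D.finite
  have := finite_mulAut (S := T) (P := T) le_rfl
  set A := E.autGroup T
  haveI hn := twistAut_normal D
  set B := ((twistSystem D).autGroup T).subgroupOf A with hB
  have hTn : E.IsFullyNormalized T := by
    refine ⟨le_rfl, fun Q hQ => ?_⟩
    rw [normalizerIn_self]
    exact Subgroup.card_le_of_le (normalizerIn_le T Q)
  obtain ⟨⟨-, R, hR⟩, -⟩ := IsSaturated.automized_receptive D.pgroupT D.satE hTn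
  have hRB : (R : Subgroup A) ≤ B := by
    rw [hR]
    exact fun x hx => autInducedBy_le_autGroup (twistSystem D) le_rfl hx
  have hnd : ¬ p ∣ B.index := fun hd => R.not_dvd_index (hd.trans (Subgroup.index_dvd_of_le hRB))
  have h1 : ((⟨a, ha⟩ : A) : A ⧸ B) ^ p ^ m = 1 := by
    rw [← QuotientGroup.mk_pow, QuotientGroup.eq_one_iff]
    exact h
  have h2 : orderOf ((⟨a, ha⟩ : A) : A ⧸ B) = 1 := by
    refine Nat.eq_one_of_dvd_coprimes ?_ (orderOf_dvd_natCard _) (orderOf_dvd_of_pow_eq_one h1)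
    exact (Nat.Coprime.pow_right m (((Fact.out : p.Prime).coprime_iff_not_dvd).2 hnd).symm)
  exact (QuotientGroup.eq_one_iff (N := B) (⟨a, ha⟩ : A)).1 (orderOf_eq_one_iff.1 h2)

/-- Twistable on some centric subgroup means twistable. -/
theorem mem_twistAut (D : WNData p F E) {P : Subgroup Ω} (hP : E.IsCentric P) {a : MulAut T}
    (ha : a ∈ E.autGroup T) (htw : Twist F T (restr hP.1 (autHom a))) :
    a ∈ (twistSystem D).autGroup T := by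
  have := D.finite
  suffices key : ∀ n, ∀ (P : Subgroup Ω) (hP : E.IsCentric P), Nat.card T ≤ Nat.card P + n →
      ∀ a ∈ E.autGroup T, Twist F T (restr hP.1 (autHom a)) → a ∈ (twistSystem D).autGroup T from
    key (Nat.card T) P hP (Nat.le_add_left _ _) a ha htw
  intro n
  induction n using Nat.strong_induction_on with
  | _ n ih =>
  intro P hP hn a ha htw
  rcases hP.1.eq_or_lt with e | hlt
  · subst e
    exact mem_autGroup_of_hom _ ⟨autHom_mem E le_rfl ha, fun _ => htw⟩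
  obtain ⟨m, hm⟩ := twist_raise D hP ha htw
  refine mem_twistAut_of_pow D ha (m := m) ?_
  have hNT := normalizerIn_le T P
  have hcard : Nat.card P < Nat.card (normalizerIn T P) := by
    have := finite_of_le (hNT.trans D.le)
    by_contra hge
    exact (lt_normalizerIn D.pgroupT hlt).ne
      (Subgroup.eq_of_le_of_card_ge (le_normalizerIn hP.1) (not_lt.1 hge))
  have := Subgroup.card_le_of_le hNT
  exact ih (Nat.card T - Nat.card (normalizerIn T P)) (by omega) _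
    (isCentric_of_le hP (le_normalizerIn hP.1) hNT) (by omega) _ (pow_mem ha _) hm

/-- The forced automorphisms are twistable. -/
theorem baseAut_le_twist (D : WNData p F E) : baseAut E p ≤ (twistSystem D).autGroup T := by
  refine (Subgroup.closure_le _).2 ?_
  rintro a ⟨ha, P, hP, hPc, haP⟩
  exact mem_twistAut D hPc ha ((gen_le_twist D P haP).2 hPc)

theorem gen_transport (D : WNData p F E) {a : MulAut T} (ha : a ∈ F.autGroup T) :
    gen E p ≤ Cfsg.Agent.S5120.transportSystem (gen E p) a := by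
  have := D.finite
  refine gen_le_of fun R hR τ hτ hp => ?_
  have hRT := hR.1
  refine ⟨hRT, fun x => hRT (τ x).2, R.subtype_injective.comp τ.injective, ?_⟩
  set θ := restr hRT (autHom a) with hθd
  have hθ : θ ∈ F.Hom R := restr_mem F (autHom_mem F D.le ha) hRT
  have hθr : θ.range = img (autHom a) R := range_restr hRT _
  set e := isoOf _ (F.injective_of_mem hθ) hθr with he
  have hc : E.IsCentric (img (autHom a) R) := by
    obtain ⟨h1, -⟩ := isCentric_of_invariant_conj D.inv hR ⟨θ, hθ, hθr⟩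
    refine ⟨h1, fun Q hQ => ?_⟩
    refine (isCentric_of_invariant_conj D.inv hR ?_).2
    obtain ⟨f, hf, hfr⟩ := hQ
    exact isConj_trans ⟨θ, hθ, hθr⟩ ⟨f, D.inv.1 _ hf, hfr⟩
  refine ⟨autHom (MulAut.congr e τ), genProp_gen E p _ hc _
    (congr_mem_of_invariant D.inv hRT hθ hθr hτ) (hp.map (MulAut.congr e).toMonoidHom),
    fun x hx hφ h => ?_⟩
  have hex : (⟨autHom a ⟨x, hx⟩, h⟩ : img (autHom a) R) = e x := Subtype.ext rfl
  show autHom (MulAut.congr e τ) ⟨autHom a ⟨x, hx⟩, h⟩ = _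
  rw [hex, autHom_apply]
  show ((e (τ (e.symm (e x))) : img (autHom a) R) : Ω) = _
  rw [e.symm_apply_apply, he, isoOf_coe]
  rfl

theorem baseAut_invariant (D : WNData p F E) {a b : MulAut T} (ha : a ∈ F.autGroup T)
    (hb : b ∈ baseAut E p) : a * b * a⁻¹ ∈ baseAut E p := by
  have := D.finite
  induction hb using Subgroup.closure_induction with
  | mem b hb =>
    refine Subgroup.subset_closure ?_
    obtain ⟨hbA, P, hP, hPc, hbP⟩ := hb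
    obtain ⟨-, -, -, χ, hχ, hχe⟩ := gen_transport D ha P hbP
    set P' := img (autHom a) P with hP'
    have hP'T : P' ≤ T := (img_le_range _ P).trans (range_autHom a).le
    refine ⟨conj_mem_autGroup_of_invariant D.inv D.le le_rfl ha hbA, P', hP'T, ?_, ?_⟩
    · have hθ : restr hP (autHom a) ∈ F.Hom P := restr_mem F (autHom_mem F D.le ha) hP
      refine ⟨hP'T, fun Q hQ => ?_⟩
      refine (isCentric_of_invariant_conj D.inv hPc ?_).2
      obtain ⟨f, hf, hfr⟩ := hQ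
      exact isConj_trans ⟨_, hθ, range_restr hP _⟩ ⟨f, D.inv.1 _ hf, hfr⟩
    · have e : restr hP'T (autHom (a * b * a⁻¹)) = χ := by
        refine MonoidHom.ext ?_
        rintro ⟨_, x, hx, rfl⟩
        have h1 := hχe ⟨x, hx⟩ x.2 ((b _).2) ⟨x, hx, rfl⟩
        refine Eq.trans ?_ h1.symm
        show ((a (b (a.symm (a x))) : T) : Ω) = _
        rw [MulEquiv.symm_apply_apply]
        rfl
      rw [e]
      exact hχ
  | one => simp
  | mul x y _ _ hx hy =>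
    rw [show a * (x * y) * a⁻¹ = a * x * a⁻¹ * (a * y * a⁻¹) by group]
    exact mul_mem hx hy
  | inv x _ hx =>
    rw [show a * x⁻¹ * a⁻¹ = (a * x * a⁻¹)⁻¹ by group]
    exact inv_mem hx

/-- The residual of a weakly normal subsystem is normal. -/
theorem residual_isNormalIn (D : WNData p F E) [Finite T] :
    (subSystem D.pgroupT E (baseAut E p)).IsNormalIn F p := by
  have hTp := D.pgroupT
  refine ⟨⟨isSaturated_subSystem hTp D.satE le_rfl, D.saturated,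
    fun P φ hφ => D.inv.1 P hφ.1, D.inv.2.1, ?_, ?_⟩, ?_⟩
  · rintro P hP φ ⟨-, β, hβ, hlab⟩ a ha
    obtain ⟨-, b, hb, -, e, he, hex⟩ := hlab
    have hγ : a * (β * b) * a⁻¹ ∈ baseAut E p := baseAut_invariant D ha (mul_mem hβ hb)
    obtain ⟨-, -, -, χ, hχ, hχe⟩ := gen_transport D ha P he
    have hγE : a * (β * b) * a⁻¹ ∈ E.autGroup T := baseAut_le hγ
    have hχT : ∀ y, χ y ∈ T := apply_mem hχ
    have hd : Dec E p (a * (β * b) * a⁻¹) (compose χ (autHom (a * (β * b) * a⁻¹)) hχT) :=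
      ⟨hγE, χ, hχ, fun x hx => rfl⟩
    refine ⟨compose χ (autHom (a * (β * b) * a⁻¹)) hχT, ⟨hd.mem, _, hγ, Lab.of_dec hd⟩,
      fun x hφx hαx => ?_⟩
    have hxT : (x : Ω) ∈ T := hP x.2
    have h1 := hχe x hxT (apply_mem he x) hαx
    show ((((a * (β * b) * a⁻¹) ⟨χ ⟨autHom a ⟨x, hxT⟩, hαx⟩, _⟩ : T)) : Ω) = _
    have e1 : (⟨χ ⟨autHom a ⟨x, hxT⟩, hαx⟩, hχT _⟩ : T) = a ⟨e x, apply_mem he x⟩ :=
      Subtype.ext h1
    rw [e1, MulAut.mul_apply, MulAut.mul_apply, MulAut.inv_apply, MulEquiv.symm_apply_apply]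
    refine congrArg (fun z => ((a z : T) : Ω)) (Subtype.ext ?_)
    exact (hex x _).symm
  · intro P hP φ hφ
    obtain ⟨a, ha, e₀, he₀, h0⟩ := D.inv.2.2.2 P hP φ hφ
    obtain ⟨β, hβ, e, he, hex⟩ := exists_dec (p := p) hTp D.satE he₀
    refine ⟨a * β, mul_mem ha (autGroup_le_of_isSubsystemOf D.inv.1 le_rfl hβ), e,
      gen_le_subSystem hTp _ P he, fun x hx => ?_⟩
    rw [h0 x (apply_mem he₀ x), MulAut.mul_apply]
    exact congrArg (fun z => ((a z : T) : Ω)) (Subtype.ext (hex x hx))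
  · intro a ha
    have haB := (mem_autGroup_subSystem hTp le_rfl baseAut_le).1 ha
    obtain ⟨haE, hat⟩ := autHom_mem (twistSystem D) le_rfl (baseAut_le_twist D haB)
    obtain ⟨ψ, hψ, h₁, h₂⟩ := hat (isCentric_self E)
    have hψr := twist_range D (isCentric_self E) haE hψ h₁ h₂
    rw [range_autHom] at hψr
    refine ⟨isoOf ψ (F.injective_of_mem hψ) hψr, mem_autGroup_of_hom F hψ, fun x => h₁ x _,
      fun c hc => ⟨h₂ c hc c.2, ?_⟩⟩
    refine Subgroup.mul_mem _ (Subgroup.inv_mem _ hc.2) (Subgroup.mem_centralizer_iff.2 ?_)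
    intro y hy
    obtain ⟨x, hx⟩ : ∃ x : T, autHom a x = y := (range_autHom a).ge hy
    show y * ψ c = ψ c * y
    rw [← hx, ← h₁ x (Subgroup.mem_sup_left x.2), ← map_mul, ← map_mul]
    exact congrArg ψ (Subtype.ext (Subgroup.mem_centralizer_iff.1 hc.2 (x : Ω) x.2))

end Cfsg.Agent.Lib.Fusion.PrimeIndex
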