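import Cfsg.Agent.Lib.Fusion.PrimeIndex.Generated
import Cfsg.Agent.S5140
import Cfsg.Agent.S5141
import Cfsg.Agent.S5142
import Cfsg.Agent.S5203

/-!
Residual limits exist and do not change on passing to normal subsystems of index a power of `p` or
prime to `p`.
-/

set_option autoImplicit false
set_option linter.unusedSectionVars false

namespace Cfsg.Agent.Lib.Fusion.PrimeIndex

open Cfsg Cfsg.FusionSystem

universe u

variable {Ω : Type u} [Group Ω] {p : ℕ} [Fact p.Prime]

/-- A saturated system is normal in itself. -/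
theorem isNormalIn_self {S : Subgroup Ω} [Finite S] (hS : IsPGroup p S) {F : FusionSystem S}
    (hF : F.IsSaturated p) : F.IsNormalIn F p := by
  have h := isNormalIn_subSystem hS hF (B' := F.autGroup S) baseAut_le le_rfl
    fun α hα b hb => mul_mem (mul_mem hα hb) (inv_mem hα)
  have e : subSystem hS F (F.autGroup S) = F :=
    le_antisymm_hom (subSystem_le hS _) fun P φ hφ => by
      obtain ⟨α, hα⟩ := exists_dec (p := p) hS hF hφ
      exact ⟨hφ, α, hα.1, Lab.of_dec hα⟩
  rwa [e] at h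

/-- A step, with the base named. -/
theorem limit_of_step {S V T : Subgroup Ω} {G : FusionSystem S} (hV : G.hyperfocalSubgroup p = V)
    {D D' : FusionSystem V} (hs : D.IsSaturated p) (hi : D.HasPPowerIndexIn G p)
    (hD' : D.IsPPrimeResidual p D') {L : FusionSystem T} (hL : L.IsResidualLimitOf D' p) :
    L.IsResidualLimitOf G p := by
  subst hV
  exact .step G p D D' ⟨hs, hi⟩ hD' hL

theorem hasPPowerIndexIn_self {S : Subgroup Ω} (F : FusionSystem S) :
    F.HasPPowerIndexIn F p :=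
  ⟨fun _ _ h => h, hyperfocalSubgroup_le F, fun _ _ => Subgroup.map_subtype_le _⟩

/-- The residual of a residual. -/
theorem isPPrimeResidual_idem {S : Subgroup Ω} {F K : FusionSystem S}
    (hK : F.IsPPrimeResidual p K) : K.IsPPrimeResidual p K := by
  refine ⟨hK.1, ⟨fun _ _ h => h, fun P _ => Subgroup.map_subtype_le _⟩, fun D hDs hDi => ?_⟩
  refine hK.2.2 D hDs ⟨fun P φ h => hK.2.1.1 P (hDi.1 P h), fun P hP => ?_⟩
  rw [Subgroup.map_le_iff_le_comap, Subgroup.closure_le]
  rintro a ⟨k, hk⟩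
  have ha : (a : MulAut P) ∈ K.autGroup P :=
    hK.2.1.2 P hP ⟨a, Subgroup.subset_closure ⟨k, hk⟩, rfl⟩
  refine hDi.2 P hP ⟨⟨a, ha⟩, Subgroup.subset_closure ⟨k, ?_⟩, rfl⟩
  rwa [Subgroup.orderOf_mk, Subgroup.orderOf_coe]

/-- Every saturated system has a residual limit. -/
theorem exists_limit {S : Subgroup Ω} [Finite S] (hS : IsPGroup p S) (F : FusionSystem S)
    (hF : F.IsSaturated p) :
    ∃ (T : Subgroup Ω) (L : FusionSystem T), L.IsResidualLimitOf F p := by
  suffices key : ∀ n, ∀ {S : Subgroup Ω}, ∀ [Finite S], Nat.card S = n → IsPGroup p S →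
      ∀ F : FusionSystem S, F.IsSaturated p →
        ∃ (T : Subgroup Ω) (L : FusionSystem T), L.IsResidualLimitOf F p from key _ rfl hS F hF
  intro n
  induction n using Nat.strong_induction_on with
  | _ n ih =>
  intro S _ hn hS F hF
  have below : ∀ G : FusionSystem S, G.IsSaturated p → G.hyperfocalSubgroup p ≠ S →
      ∃ (T : Subgroup Ω) (L : FusionSystem T), L.IsResidualLimitOf G p := by
    intro G hG hne
    have hle := hyperfocalSubgroup_le (p := p) G
    have := finite_of_le hle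
    obtain ⟨D, hDs, hDi⟩ := exists_pPowerIndex hS G hG hle le_rfl
    obtain ⟨D', hD'⟩ := Cfsg.Agent.S5140.result p (hS.to_le hle) D hDs
    have hlt : Nat.card (G.hyperfocalSubgroup p) < n := by
      rw [← hn]
      by_contra hge
      exact hne (Subgroup.eq_of_le_of_card_ge hle (not_lt.1 hge))
    obtain ⟨T, L, hL⟩ := ih _ hlt rfl (hS.to_le hle) D' hD'.1
    exact ⟨T, L, limit_of_step rfl hDs hDi hD' hL⟩
  by_cases hh : F.hyperfocalSubgroup p = S
  · obtain ⟨K, hK⟩ := Cfsg.Agent.S5140.result p hS F hF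
    by_cases hk : K.hyperfocalSubgroup p = S
    · exact ⟨S, K, limit_of_step hh hF (hasPPowerIndexIn_self F) hK
        (.stable K p hk (isPPrimeResidual_idem hK))⟩
    · obtain ⟨T, L, hL⟩ := below K hK.1 hk
      exact ⟨T, L, limit_of_step hh hF (hasPPowerIndexIn_self F) hK hL⟩
  · exact below F hF hh

theorem limit_isSubsystemOf_aux {T S : Subgroup Ω} {L : FusionSystem T} {F : FusionSystem S}
    {q : ℕ} (h : L.IsResidualLimitOf F q) : L.IsSubsystemOf F := by
  induction h with
  | stable F q _ _ => exact fun _ _ h => h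
  | step F q D D' hD hD' _ ih => exact fun P φ h => hD.2.1 P (hD'.2.1.1 P (ih P h))

/-- Normal subsystems over the same subgroup have the same `p'`-residual. -/
theorem residual_eq_of_normal {S V : Subgroup Ω} [Finite S] (hS : IsPGroup p S)
    {G : FusionSystem S} (hG : G.IsSaturated p) {E₁ E₂ D₁ D₂ : FusionSystem V}
    (h₁ : E₁.IsNormalIn G p) (h₂ : E₂.IsNormalIn G p) (hD₁ : E₁.IsPPrimeResidual p D₁)
    (hD₂ : E₂.IsPPrimeResidual p D₂) : D₁ = D₂ :=
  le_antisymm_hom
    (Cfsg.Agent.S5142.result p hS G hG E₁ h₁ D₁ hD₁ D₂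
      (Cfsg.Agent.S5141.result p hS G hG E₂ h₂.1 D₂ hD₂))
    (Cfsg.Agent.S5142.result p hS G hG E₂ h₂ D₂ hD₂ D₁
      (Cfsg.Agent.S5141.result p hS G hG E₁ h₁.1 D₁ hD₁))

/-- A system and its `p'`-residual have the same limits. -/
theorem limit_residual {S : Subgroup Ω} [Finite S] (hS : IsPGroup p S) {G K : FusionSystem S}
    (hG : G.IsSaturated p) (hK : G.IsPPrimeResidual p K) {T T' : Subgroup Ω} {L : FusionSystem T}
    {L' : FusionSystem T'} (hL : L.IsResidualLimitOf G p) (hL' : L'.IsResidualLimitOf K p) :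
    ∀ P, L.Hom P = L'.Hom P := by
  suffices key : ∀ n, ∀ {S : Subgroup Ω}, ∀ [Finite S], Nat.card S = n → IsPGroup p S →
      ∀ {G K : FusionSystem S}, G.IsSaturated p → G.IsPPrimeResidual p K →
      ∀ {T T' : Subgroup Ω} {L : FusionSystem T} {L' : FusionSystem T'},
        L.IsResidualLimitOf G p → L'.IsResidualLimitOf K p → ∀ P, L.Hom P = L'.Hom P from
    key _ rfl hS hG hK hL hL'
  intro n
  induction n using Nat.strong_induction_on with
  | _ n ih =>
  intro S _ hn hS G K hG hK T T' L L' hL hL'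
  by_cases hh : G.hyperfocalSubgroup p = S
  · exact residualLimit_unique hL hS (limit_of_step hh hG (hasPPowerIndexIn_self G) hK hL')
  have hle := hyperfocalSubgroup_le (p := p) G
  generalize hV : G.hyperfocalSubgroup p = V at hh hle
  have := finite_of_le hle
  have hVp := hS.to_le hle
  have hVn : (V.subgroupOf S).Normal := (Subgroup.normal_subgroupOf_iff hle).2
    fun t g ht hg => by
      subst hV
      exact conj_mem_hyperfocal G p hg ht
  obtain ⟨D, hDs, hDi⟩ := exists_pPowerIndex hS G hG hle hV.le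
  have hKV : K.hyperfocalSubgroup p ≤ V :=
    (hyperfocal_mono le_rfl hK.2.1.1).trans hV.le
  obtain ⟨M, hMs, hMi⟩ := exists_pPowerIndex hS K hK.1 hle hKV
  have hDn := Cfsg.Agent.S5120.result p hS G hG V hle hVn hV.le D hDs hDi
  have hMK := Cfsg.Agent.S5120.result p hS K hK.1 V hle hVn hKV M hMs hMi
  have hKn : K.IsNormalIn G p :=
    Cfsg.Agent.S5141.result p hS G hG G (isNormalIn_self hS hG).1 K hK
  have hMn : M.IsNormalIn G p := by
    refine ⟨⟨hMs, hG, invariant_trans hKn.1.2.2 hMK.1.2.2 hDn.1.2.2.2.1 fun α hα => ?_⟩,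
      fun β hβ => ?_⟩
    · refine isSubsystemOf_of_coprime hVp hMs le_rfl fun P hP β hβ hc => ?_
      refine mem_autGroup_of_hom _ ⟨hP, fun x => hP (β x).2,
        P.subtype_injective.comp β.injective, ?_⟩
      let th : P →* Ω := restr hP (autHom α)
      have hth : th ∈ G.Hom P := restr_mem G (autHom_mem G hle hα) hP
      have hr : th.range = img (Cfsg.Agent.S5120.amb α) P := range_restr hP _
      let e := isoOf th (G.injective_of_mem hth) hr
      have hβK : β ∈ K.autGroup P := Fusion.autGroup_le_of_isSubsystemOf hMi.1 P hβ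
      have h1 := congr_mem_of_invariant hKn.1.2.2 (hP.trans hle) hth hr hβK
      have hP' := Cfsg.Agent.S5120.amb_img_le α P
      have h2 : MulAut.congr e β ∈ M.autGroup (img (Cfsg.Agent.S5120.amb α) P) :=
        hMi.2.2 _ hP' (mem_map_pResidual_of_coprime _ h1 (by rw [MulEquiv.orderOf_eq]; exact hc))
      refine ⟨autHom (MulAut.congr e β), autHom_mem M hP' h2, fun x hx hφ h => ?_⟩
      rw [show (⟨Cfsg.Agent.S5120.amb α ⟨x, hx⟩, h⟩ : img (Cfsg.Agent.S5120.amb α) P) = e x from
        Subtype.ext rfl, autHom_apply]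
      show ((e (β (e.symm (e x))) : img (Cfsg.Agent.S5120.amb α) P) : Ω) = _
      rw [e.symm_apply_apply]
      rfl
    · obtain ⟨b, hb, h1, h2⟩ := hMK.2 β hβ
      exact ⟨b, Fusion.autGroup_le_of_isSubsystemOf hKn.1.2.2.1 _ hb, h1, h2⟩
  obtain ⟨D', hD'⟩ := Cfsg.Agent.S5140.result p hVp D hDs
  obtain ⟨M', hM'⟩ := Cfsg.Agent.S5140.result p hVp M hMs
  obtain rfl : D' = M' := residual_eq_of_normal hS hG hDn hMn hD' hM'
  obtain ⟨T₁, L₁, hL₁⟩ := exists_limit hVp D' hD'.1
  have hlt : Nat.card V < n := by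
    rw [← hn]
    by_contra hge
    exact hh (Subgroup.eq_of_le_of_card_ge hle (not_lt.1 hge))
  obtain ⟨T₂, L₂, hL₂⟩ := exists_limit hVp M hMs
  intro P
  rw [residualLimit_unique hL hS (limit_of_step hV hDs hDi hD' hL₁) P,
    ← ih _ hlt rfl hVp hMs hM' hL₂ hL₁ P]
  exact (Cfsg.Agent.S5203.result p hS K hK.1 M hMK hMi L' hL' L₂ hL₂ P).symm

/-- Normal subsystems over the same subgroup have the same limits. -/
theorem limit_eq_of_normal {S V : Subgroup Ω} [Finite S] (hS : IsPGroup p S)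
    {G : FusionSystem S} (hG : G.IsSaturated p) {E₁ E₂ : FusionSystem V}
    (h₁ : E₁.IsNormalIn G p) (h₂ : E₂.IsNormalIn G p) {T T' : Subgroup Ω} {L : FusionSystem T}
    {L' : FusionSystem T'} (hL : L.IsResidualLimitOf E₁ p) (hL' : L'.IsResidualLimitOf E₂ p) :
    ∀ P, L.Hom P = L'.Hom P := by
  have hV := h₁.1.2.2.2.1.1
  have := finite_of_le hV
  have hVp := hS.to_le hV
  obtain ⟨D₁, hD₁⟩ := Cfsg.Agent.S5140.result p hVp E₁ h₁.1.1
  obtain ⟨D₂, hD₂⟩ := Cfsg.Agent.S5140.result p hVp E₂ h₂.1.1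
  obtain rfl : D₁ = D₂ := residual_eq_of_normal hS hG h₁ h₂ hD₁ hD₂
  obtain ⟨T₀, L₀, hL₀⟩ := exists_limit hVp D₁ hD₁.1
  intro P
  rw [limit_residual hVp h₁.1.1 hD₁ hL hL₀ P, limit_residual hVp h₂.1.1 hD₂ hL' hL₀ P]

end Cfsg.Agent.Lib.Fusion.PrimeIndex
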