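import Cfsg.Agent.Lib.Fusion.QuotientHyperfocal
import Cfsg.Agent.Lib.Fusion.CenterFactor
import Cfsg.Agent.Lib.Fusion.Solvable
import Cfsg.Agent.Lib.Fusion.PrimeIndex.Components

/-!
Isomorphisms of fusion systems given by their graphs, and transport of normal subsystems,
quasisimplicity and components along them.
-/

set_option autoImplicit false
set_option linter.unusedSectionVars false

namespace Cfsg.Agent.Lib.Fusion.PrimeIndex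

open Cfsg Cfsg.FusionSystem

variable {Ω Ω' Ω'' : Type*} [Group Ω] [Group Ω'] [Group Ω'']

/-- The graph of an injective partial homomorphism. -/
structure IsGraph (Γ : Subgroup (Ω × Ω')) : Prop where
  left : ∀ {x : Ω} {y y' : Ω'}, (x, y) ∈ Γ → (x, y') ∈ Γ → y = y'
  right : ∀ {x x' : Ω} {y : Ω'}, (x, y) ∈ Γ → (x', y) ∈ Γ → x = x'

/-- The inverse graph. -/
def swapG (Γ : Subgroup (Ω × Ω')) : Subgroup (Ω' × Ω) :=
  Γ.comap (MulEquiv.prodComm : Ω' × Ω ≃* Ω × Ω').toMonoidHom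

theorem mem_swapG {Γ : Subgroup (Ω × Ω')} {x : Ω} {y : Ω'} : (y, x) ∈ swapG Γ ↔ (x, y) ∈ Γ :=
  Iff.rfl

theorem swapG_swapG (Γ : Subgroup (Ω × Ω')) : swapG (swapG Γ) = Γ := rfl

theorem IsGraph.swap {Γ : Subgroup (Ω × Ω')} (h : IsGraph Γ) : IsGraph (swapG Γ) :=
  ⟨fun h1 h2 => h.right h1 h2, fun h1 h2 => h.left h1 h2⟩

/-- The image of a subgroup under a graph. -/
def gimg (Γ : Subgroup (Ω × Ω')) (P : Subgroup Ω) : Subgroup Ω' :=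
  (Γ ⊓ P.prod ⊤).map (MonoidHom.snd Ω Ω')

theorem mem_gimg {Γ : Subgroup (Ω × Ω')} {P : Subgroup Ω} {y : Ω'} :
    y ∈ gimg Γ P ↔ ∃ x ∈ P, (x, y) ∈ Γ := by
  constructor
  · rintro ⟨⟨x, z⟩, ⟨hΓ, hP, -⟩, rfl⟩
    exact ⟨x, hP, hΓ⟩
  · rintro ⟨x, hx, hΓ⟩
    exact ⟨(x, y), ⟨hΓ, hx, trivial⟩, rfl⟩

theorem gimg_mono (Γ : Subgroup (Ω × Ω')) {P Q : Subgroup Ω} (h : P ≤ Q) :
    gimg Γ P ≤ gimg Γ Q := fun y hy => by
  obtain ⟨x, hx, hxy⟩ := mem_gimg.1 hy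
  exact mem_gimg.2 ⟨x, h hx, hxy⟩

/-- Two maps correspond under a graph. -/
def Rel (Γ : Subgroup (Ω × Ω')) {P : Subgroup Ω} {P' : Subgroup Ω'} (φ : P →* Ω)
    (φ' : P' →* Ω') : Prop :=
  ∀ (x : P) (y : P'), ((x : Ω), (y : Ω')) ∈ Γ → (φ x, φ' y) ∈ Γ

theorem Rel.swap {Γ : Subgroup (Ω × Ω')} {P : Subgroup Ω} {P' : Subgroup Ω'} {φ : P →* Ω}
    {φ' : P' →* Ω'} (h : Rel Γ φ φ') : Rel (swapG Γ) φ' φ := fun y x hxy => h x y hxy

variable {U : Subgroup Ω} {U' : Subgroup Ω'} {U'' : Subgroup Ω''}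

/-- An isomorphism of fusion systems, given by its graph. -/
structure SysIso (Γ : Subgroup (Ω × Ω')) (D : FusionSystem U) (D' : FusionSystem U') : Prop where
  graph : IsGraph Γ
  dom : ∀ x ∈ U, ∃ y ∈ U', (x, y) ∈ Γ
  cod : ∀ y ∈ U', ∃ x ∈ U, (x, y) ∈ Γ
  fwd : ∀ (P : Subgroup Ω), ∀ φ ∈ D.Hom P, ∃ φ' ∈ D'.Hom (gimg Γ P), Rel Γ φ φ'
  bwd : ∀ (P' : Subgroup Ω'), ∀ φ' ∈ D'.Hom P', ∃ φ ∈ D.Hom (gimg (swapG Γ) P'), Rel Γ φ φ'

namespace SysIso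

variable {Γ : Subgroup (Ω × Ω')} {D : FusionSystem U} {D' : FusionSystem U'}

theorem symm (h : SysIso Γ D D') : SysIso (swapG Γ) D' D := by
  refine ⟨h.graph.swap, h.cod, h.dom, fun P' φ' hφ' => ?_, fun P φ hφ => ?_⟩
  · obtain ⟨φ, hφ, hr⟩ := h.bwd P' φ' hφ'
    exact ⟨φ, hφ, hr.swap⟩
  · rw [swapG_swapG]
    obtain ⟨φ', hφ', hr⟩ := h.fwd P φ hφ
    exact ⟨φ', hφ', hr.swap⟩

theorem gimg_le (h : SysIso Γ D D') {P : Subgroup Ω} (hP : P ≤ U) : gimg Γ P ≤ U' := fun y hy => by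
  obtain ⟨x, hx, hxy⟩ := mem_gimg.1 hy
  obtain ⟨y', hy', hxy'⟩ := h.dom x (hP hx)
  rwa [h.graph.left hxy hxy']

theorem gimg_gimg (h : SysIso Γ D D') {P : Subgroup Ω} (hP : P ≤ U) :
    gimg (swapG Γ) (gimg Γ P) = P := by
  ext x
  constructor
  · intro hx
    obtain ⟨y, hy, hyx⟩ := mem_gimg.1 hx
    obtain ⟨x', hx', hxy'⟩ := mem_gimg.1 hy
    rwa [h.graph.right (mem_swapG.1 hyx) hxy']
  · intro hx
    obtain ⟨y, -, hxy⟩ := h.dom x (hP hx)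
    exact mem_gimg.2 ⟨y, mem_gimg.2 ⟨x, hx, hxy⟩, hxy⟩

theorem gimg_gimg' (h : SysIso Γ D D') {P' : Subgroup Ω'} (hP' : P' ≤ U') :
    gimg Γ (gimg (swapG Γ) P') = P' := h.symm.gimg_gimg hP'

theorem gimg_top (h : SysIso Γ D D') : gimg Γ U = U' :=
  le_antisymm (h.gimg_le le_rfl) fun y hy => by
    obtain ⟨x, hx, hxy⟩ := h.cod y hy
    exact mem_gimg.2 ⟨x, hx, hxy⟩

theorem gimg_sup (h : SysIso Γ D D') {A B : Subgroup Ω} (hA : A ≤ U) (hB : B ≤ U) :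
    gimg Γ (A ⊔ B) = gimg Γ A ⊔ gimg Γ B := by
  refine le_antisymm ?_ (sup_le (gimg_mono Γ le_sup_left) (gimg_mono Γ le_sup_right))
  have h1 : A ⊔ B ≤ gimg (swapG Γ) (gimg Γ A ⊔ gimg Γ B) :=
    sup_le ((h.gimg_gimg hA).ge.trans (gimg_mono _ le_sup_left))
      ((h.gimg_gimg hB).ge.trans (gimg_mono _ le_sup_right))
  refine (gimg_mono Γ h1).trans (h.gimg_gimg' ?_).le
  exact sup_le (h.gimg_le hA) (h.gimg_le hB)

theorem exists_left (h : SysIso Γ D D') {P : Subgroup Ω} (hP : P ≤ U) (x : P) :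
    ∃ y : gimg Γ P, ((x : Ω), (y : Ω')) ∈ Γ := by
  obtain ⟨y, -, hxy⟩ := h.dom x (hP x.2)
  exact ⟨⟨y, mem_gimg.2 ⟨x, x.2, hxy⟩⟩, hxy⟩

theorem rel_unique (h : SysIso Γ D D') {P : Subgroup Ω} {φ : P →* Ω}
    {ψ ψ' : gimg Γ P →* Ω'} (h1 : Rel Γ φ ψ) (h2 : Rel Γ φ ψ') : ψ = ψ' := by
  ext y
  obtain ⟨x, hx, hxy⟩ := mem_gimg.1 y.2
  exact h.graph.left (h1 ⟨x, hx⟩ y hxy) (h2 ⟨x, hx⟩ y hxy)

theorem mem_of_rel (h : SysIso Γ D D') {P : Subgroup Ω} {φ : P →* Ω} (hφ : φ ∈ D.Hom P)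
    {ψ : gimg Γ P →* Ω'} (hr : Rel Γ φ ψ) : ψ ∈ D'.Hom (gimg Γ P) := by
  obtain ⟨φ', hφ', hr'⟩ := h.fwd P φ hφ
  rwa [h.rel_unique hr hr']

theorem fwd_eq (h : SysIso Γ D D') {P : Subgroup Ω} {φ : P →* Ω} (hφ : φ ∈ D.Hom P)
    {P' : Subgroup Ω'} (hP' : gimg Γ P = P') : ∃ φ' ∈ D'.Hom P', Rel Γ φ φ' := by
  subst hP'
  exact h.fwd P φ hφ

theorem bwd_eq (h : SysIso Γ D D') {P' : Subgroup Ω'} {φ' : P' →* Ω'} (hφ' : φ' ∈ D'.Hom P')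
    {P : Subgroup Ω} (hP : gimg (swapG Γ) P' = P) : ∃ φ ∈ D.Hom P, Rel Γ φ φ' := by
  subst hP
  exact h.bwd P' φ' hφ'

theorem rel_range (h : SysIso Γ D D') {P : Subgroup Ω} {φ : P →* Ω} (hP : P ≤ U)
    {φ' : gimg Γ P →* Ω'} (hr : Rel Γ φ φ') : φ'.range = gimg Γ φ.range := by
  ext z
  constructor
  · rintro ⟨y, rfl⟩
    obtain ⟨x, hx, hxy⟩ := mem_gimg.1 y.2
    exact mem_gimg.2 ⟨φ ⟨x, hx⟩, ⟨_, rfl⟩, hr ⟨x, hx⟩ y hxy⟩
  · intro hz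
    obtain ⟨_, ⟨x, rfl⟩, hxz⟩ := mem_gimg.1 hz
    obtain ⟨y, hxy⟩ := h.exists_left hP x
    exact ⟨y, h.graph.left (hr x y hxy) hxz⟩

theorem mem_autGroup (h : SysIso Γ D D') {P : Subgroup Ω} (hP : P ≤ U) {α : MulAut P}
    (hα : α ∈ D.autGroup P) {P' : Subgroup Ω'} (hP' : gimg Γ P = P') :
    ∃ α' ∈ D'.autGroup P', ∀ (x : P) (y : P'),
      ((x : Ω), (y : Ω')) ∈ Γ → (((α x : P) : Ω), ((α' y : P') : Ω')) ∈ Γ := by
  subst hP'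
  obtain ⟨φ', hφ', hr⟩ := h.fwd P _ (autHom_mem D hP hα)
  have hr' : φ'.range = gimg Γ P := (h.rel_range hP hr).trans (by rw [range_autHom])
  exact ⟨isoOf φ' (D'.injective_of_mem hφ') hr', mem_autGroup_of_hom D' hφ', fun x y hxy =>
    hr x y hxy⟩

/-- The isomorphism as a homomorphism. -/
noncomputable def toHom (h : SysIso Γ D D') : U →* Ω' :=
  MonoidHom.mk' (fun x => (h.dom x x.2).choose) fun a b =>
    h.graph.left (h.dom _ (a * b).2).choose_spec.2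
      (Γ.mul_mem (h.dom a a.2).choose_spec.2 (h.dom b b.2).choose_spec.2)

theorem toHom_mem (h : SysIso Γ D D') (x : U) : ((x : Ω), h.toHom x) ∈ Γ :=
  (h.dom x x.2).choose_spec.2

theorem toHom_range (h : SysIso Γ D D') : h.toHom.range = U' := by
  ext y
  constructor
  · rintro ⟨x, rfl⟩
    exact (h.dom x x.2).choose_spec.1
  · intro hy
    obtain ⟨x, hx, hxy⟩ := h.cod y hy
    exact ⟨⟨x, hx⟩, h.graph.left (h.toHom_mem ⟨x, hx⟩) hxy⟩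

theorem toHom_eq_one (h : SysIso Γ D D') (x : U) : h.toHom x = 1 ↔ (x : Ω) ∈ (⊥ : Subgroup Ω) := by
  rw [Subgroup.mem_bot]
  constructor
  · intro hx
    refine h.graph.right ?_ Γ.one_mem
    have := h.toHom_mem x
    rwa [hx] at this
  · intro hx
    refine h.graph.left (h.toHom_mem x) ?_
    rw [hx]
    exact Γ.one_mem

theorem preimage_toHom (h : SysIso Γ D D') {P' : Subgroup Ω'} (hP' : P' ≤ U') :
    preimageAlong h.toHom P' = gimg (swapG Γ) P' := by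
  ext x
  constructor
  · rintro ⟨x, hx, rfl⟩
    exact mem_gimg.2 ⟨_, hx, h.toHom_mem x⟩
  · intro hx
    obtain ⟨y, hy, hyx⟩ := mem_gimg.1 hx
    obtain ⟨x', hx', hxy'⟩ := h.cod y (hP' hy)
    obtain rfl := h.graph.right (mem_swapG.1 hyx) hxy'
    refine ⟨⟨x, hx'⟩, ?_, rfl⟩
    rw [SetLike.mem_coe, Subgroup.mem_comap, h.graph.left (h.toHom_mem ⟨x, hx'⟩) (mem_swapG.1 hyx)]
    exact hy

theorem isFactorSystem (h : SysIso Γ D D') : D.IsFactorSystem ⊥ h.toHom D' := by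
  refine ⟨bot_le, h.toHom_eq_one, h.toHom_range, fun P' φ' => ⟨fun hφ' => ?_, ?_⟩⟩
  · have hP' := source_le hφ'
    obtain ⟨φ, hφ, hr⟩ := h.bwd_eq hφ' (h.preimage_toHom hP').symm
    refine ⟨hP', φ, hφ, preimage_le _ _, apply_mem hφ,
      fun x => (mem_preimage_iff (θ := h.toHom) (P' := P') ⟨x, preimage_le _ _ x.2⟩).1 x.2,
      fun x => ?_⟩
    exact h.graph.left (hr x _ (h.toHom_mem ⟨x, preimage_le _ _ x.2⟩))
      (h.toHom_mem ⟨φ x, apply_mem hφ x⟩)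
  · rintro ⟨hP', φ, hφ, hQ, hφU, hm, hind⟩
    obtain ⟨ψ, hψ, hr⟩ := h.fwd_eq (P' := P') hφ
      (by rw [h.preimage_toHom hP', h.gimg_gimg' hP'])
    have : φ' = ψ := by
      ext y
      obtain ⟨x, hx⟩ := h.toHom_range.ge (hP' y.2)
      have hxP : (x : Ω) ∈ preimageAlong h.toHom P' := (mem_preimage_iff x).2 (hx ▸ y.2)
      rw [show y = ⟨h.toHom ⟨x, hQ hxP⟩, hm ⟨x, hxP⟩⟩ from Subtype.ext hx.symm, hind ⟨x, hxP⟩]
      exact h.graph.left (h.toHom_mem _) (hr ⟨x, hxP⟩ _ (h.toHom_mem _))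
    rwa [this]

theorem enlarge (h : SysIso Γ D D') {Δ : Subgroup (Ω × Ω')} (hΔ : IsGraph Δ) (hle : Γ ≤ Δ) :
    SysIso Δ D D' := by
  have hfw : ∀ P : Subgroup Ω, P ≤ U → gimg Δ P = gimg Γ P := fun P hP => by
    refine le_antisymm (fun y hy => ?_) fun y hy => ?_
    · obtain ⟨x, hx, hxy⟩ := mem_gimg.1 hy
      obtain ⟨y', -, hxy'⟩ := h.dom x (hP hx)
      exact mem_gimg.2 ⟨x, hx, hΔ.left hxy (hle hxy') ▸ hxy'⟩
    · obtain ⟨x, hx, hxy⟩ := mem_gimg.1 hy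
      exact mem_gimg.2 ⟨x, hx, hle hxy⟩
  have hbw : ∀ P' : Subgroup Ω', P' ≤ U' → gimg (swapG Δ) P' = gimg (swapG Γ) P' := fun P' hP' => by
    refine le_antisymm (fun x hx => ?_) fun x hx => ?_
    · obtain ⟨y, hy, hyx⟩ := mem_gimg.1 hx
      obtain ⟨x', -, hxy'⟩ := h.cod y (hP' hy)
      exact mem_gimg.2 ⟨y, hy, hΔ.right (mem_swapG.1 hyx) (hle hxy') ▸ hxy'⟩
    · obtain ⟨y, hy, hyx⟩ := mem_gimg.1 hx
      exact mem_gimg.2 ⟨y, hy, hle hyx⟩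
  have hrel : ∀ {P : Subgroup Ω} {P' : Subgroup Ω'} {φ : P →* Ω} {φ' : P' →* Ω'},
      P ≤ U → Rel Γ φ φ' → Rel Δ φ φ' := fun {P P' φ φ'} hP hr x y hxy => by
    obtain ⟨y', -, hxy'⟩ := h.dom x (hP x.2)
    refine hle (hr x y ?_)
    rwa [hΔ.left hxy (hle hxy')]
  refine ⟨hΔ, fun x hx => ?_, fun y hy => ?_, fun P φ hφ => ?_, fun P' φ' hφ' => ?_⟩
  · obtain ⟨y, hy, hxy⟩ := h.dom x hx
    exact ⟨y, hy, hle hxy⟩
  · obtain ⟨x, hx, hxy⟩ := h.cod y hy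
    exact ⟨x, hx, hle hxy⟩
  · obtain ⟨φ', hφ', hr⟩ := h.fwd_eq hφ (hfw P (source_le hφ)).symm
    exact ⟨φ', hφ', hrel (source_le hφ) hr⟩
  · obtain ⟨φ, hφ, hr⟩ := h.bwd_eq hφ' (hbw P' (source_le hφ')).symm
    exact ⟨φ, hφ, hrel (source_le hφ) hr⟩

end SysIso

/-- A system is its own factor system by the trivial subgroup. -/
theorem isFactorSystem_self (D : FusionSystem U) : D.IsFactorSystem ⊥ U.subtype D := by
  have hpre : ∀ P : Subgroup Ω, P ≤ U → preimageAlong U.subtype P = P := fun P hP => by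
    refine le_antisymm ?_ fun x hx => ⟨⟨x, hP hx⟩, hx, rfl⟩
    rintro _ ⟨x, hx, rfl⟩
    exact hx
  refine ⟨bot_le, fun x => Iff.rfl.trans (Subgroup.mem_bot).symm, U.range_subtype,
    fun P φ => ⟨fun hφ => ?_, ?_⟩⟩
  · have hP := source_le hφ
    refine ⟨hP, φ.comp (Subgroup.inclusion (hpre P hP).le), restr_mem D hφ _, preimage_le _ _,
      fun x => apply_mem hφ _, fun x => (hpre P hP).le x.2, fun x => rfl⟩
  · rintro ⟨hP, ψ, hψ, h1, h2, h3, hind⟩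
    have : φ = ψ.comp (Subgroup.inclusion (hpre P hP).ge) := by
      ext x
      exact hind ⟨x, (hpre P hP).ge x.2⟩
    rw [this]
    exact restr_mem D hψ _

section Factors

variable {W : Subgroup Ω} {D : FusionSystem W} {Z : Subgroup Ω} {Ω₁ Ω₂ : Type*} [Group Ω₁]
  [Group Ω₂] {S₁ : Subgroup Ω₁} {S₂ : Subgroup Ω₂} {θ₁ : W →* Ω₁} {θ₂ : W →* Ω₂}
  {E₁ : FusionSystem S₁} {E₂ : FusionSystem S₂}

theorem mem_prodRange {x : Ω₁} {y : Ω₂} :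
    (x, y) ∈ (θ₁.prod θ₂).range ↔ ∃ w : W, θ₁ w = x ∧ θ₂ w = y :=
  ⟨fun ⟨w, hw⟩ => ⟨w, congrArg Prod.fst hw, congrArg Prod.snd hw⟩,
    fun ⟨w, h1, h2⟩ => ⟨w, Prod.ext h1 h2⟩⟩

theorem factor_fwd (hZ : D.StronglyClosed Z) (h₁ : D.IsFactorSystem Z θ₁ E₁)
    (h₂ : D.IsFactorSystem Z θ₂ E₂) {P : Subgroup Ω₁} {φ₁ : P →* Ω₁} (hφ₁ : φ₁ ∈ E₁.Hom P) :
    ∃ φ₂ ∈ E₂.Hom (gimg (θ₁.prod θ₂).range P), Rel (θ₁.prod θ₂).range φ₁ φ₂ := by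
  obtain ⟨-, hk₁, hr₁, hiff₁⟩ := h₁
  obtain ⟨-, hk₂, hr₂, hiff₂⟩ := h₂
  obtain ⟨hP, φ, hφ, hQ, hφW, hm₁, hind₁⟩ := (hiff₁ P φ₁).1 hφ₁
  have himg : imageAlong θ₂ (preimageAlong θ₁ P) = gimg (θ₁.prod θ₂).range P := by
    ext y
    rw [mem_image_iff, mem_gimg]
    constructor
    · rintro ⟨w, hw, rfl⟩
      exact ⟨θ₁ w, (mem_preimage_iff w).1 hw, mem_prodRange.2 ⟨w, rfl, rfl⟩⟩
    · rintro ⟨x, hx, hxy⟩
      obtain ⟨w, rfl, rfl⟩ := mem_prodRange.1 hxy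
      exact ⟨w, (mem_preimage_iff w).2 hx, rfl⟩
  have hpre : preimageAlong θ₂ (gimg (θ₁.prod θ₂).range P) = preimageAlong θ₁ P := by
    rw [← himg, preimage_imageAlong hk₂ hZ.1 (preimage_le _ _), sup_eq_left]
    intro z hz
    refine (mem_preimage_iff (θ := θ₁) (P' := P) ⟨z, hZ.1 hz⟩).2 ?_
    rw [(hk₁ ⟨z, hZ.1 hz⟩).2 hz]
    exact one_mem _
  have hle : gimg (θ₁.prod θ₂).range P ≤ S₂ := by
    rw [← himg, ← hr₂]
    rintro _ ⟨w, -, rfl⟩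
    exact ⟨w, rfl⟩
  obtain ⟨φ₂, hφ₂⟩ : ∃ φ₂ : gimg (θ₁.prod θ₂).range P →* Ω₂, InducedAlong θ₂ φ φ₂ := by
    have := exists_induced hk₂ hZ hφ
    rwa [himg] at this
  refine ⟨φ₂, (hiff₂ _ _).2 ⟨hle, ?_⟩, fun x y hxy => ?_⟩
  · rw [hpre]
    exact ⟨φ, hφ, hφ₂⟩
  · obtain ⟨hQ₂, hφW₂, hm₂, hind₂⟩ := hφ₂
    obtain ⟨w, hw₁, hw₂⟩ := mem_prodRange.1 hxy
    have hwP : (w : Ω) ∈ preimageAlong θ₁ P := (mem_preimage_iff w).2 (hw₁ ▸ x.2)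
    refine mem_prodRange.2 ⟨⟨φ ⟨w, hwP⟩, hφW _⟩, ?_, ?_⟩
    · rw [show x = ⟨θ₁ ⟨w, hQ hwP⟩, hm₁ ⟨w, hwP⟩⟩ from Subtype.ext hw₁.symm, hind₁ ⟨w, hwP⟩]
    · rw [show y = ⟨θ₂ ⟨w, hQ hwP⟩, hm₂ ⟨w, hwP⟩⟩ from Subtype.ext hw₂.symm, hind₂ ⟨w, hwP⟩]

theorem isGraph_factors (h₁ : D.IsFactorSystem Z θ₁ E₁) (h₂ : D.IsFactorSystem Z θ₂ E₂) :
    IsGraph (θ₁.prod θ₂).range := by
  constructor
  · intro x y y' h h'
    obtain ⟨w, rfl, rfl⟩ := mem_prodRange.1 h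
    obtain ⟨w', hw', rfl⟩ := mem_prodRange.1 h'
    exact eq_of_ker h₂.2.1 w w' (mem_of_eq_ker h₁.2.1 w w' hw'.symm)
  · intro x x' y h h'
    obtain ⟨w, rfl, rfl⟩ := mem_prodRange.1 h
    obtain ⟨w', rfl, hw'⟩ := mem_prodRange.1 h'
    exact eq_of_ker h₁.2.1 w w' (mem_of_eq_ker h₂.2.1 w w' hw'.symm)

theorem swapG_prodRange : swapG (θ₁.prod θ₂).range = (θ₂.prod θ₁).range := by
  ext ⟨y, x⟩
  rw [mem_swapG, mem_prodRange, mem_prodRange]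
  exact ⟨fun ⟨w, a, b⟩ => ⟨w, b, a⟩, fun ⟨w, a, b⟩ => ⟨w, b, a⟩⟩

/-- Two factor systems modulo the same subgroup are isomorphic. -/
theorem sysIso_factors (hZ : D.StronglyClosed Z) (h₁ : D.IsFactorSystem Z θ₁ E₁)
    (h₂ : D.IsFactorSystem Z θ₂ E₂) : SysIso (θ₁.prod θ₂).range E₁ E₂ := by
  refine ⟨isGraph_factors h₁ h₂, fun x hx => ?_, fun y hy => ?_,
    fun P φ hφ => factor_fwd hZ h₁ h₂ hφ, fun P' φ' hφ' => ?_⟩
  · obtain ⟨w, rfl⟩ := h₁.2.2.1.ge hx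
    exact ⟨θ₂ w, h₂.2.2.1 ▸ ⟨w, rfl⟩, mem_prodRange.2 ⟨w, rfl, rfl⟩⟩
  · obtain ⟨w, rfl⟩ := h₂.2.2.1.ge hy
    exact ⟨θ₁ w, h₁.2.2.1 ▸ ⟨w, rfl⟩, mem_prodRange.2 ⟨w, rfl, rfl⟩⟩
  · rw [swapG_prodRange]
    obtain ⟨φ, hφ, hr⟩ := factor_fwd hZ h₂ h₁ hφ'
    refine ⟨φ, hφ, ?_⟩
    rw [← swapG_prodRange (θ₁ := θ₂) (θ₂ := θ₁)]
    exact hr.swap

end Factors

/-- The image of a system along a graph. -/
theorem exists_image {Γ : Subgroup (Ω × Ω')} (hΓ : IsGraph Γ) (D : FusionSystem U) [Finite U]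
    (hdom : ∀ x ∈ U, ∃ y, (x, y) ∈ Γ) :
    ∃ D' : FusionSystem (gimg Γ U), SysIso Γ D D' := by
  let θ : U →* Ω' := MonoidHom.mk' (fun x => (hdom x x.2).choose) fun a b =>
    hΓ.left (hdom _ (a * b).2).choose_spec
      (Γ.mul_mem (hdom a a.2).choose_spec (hdom b b.2).choose_spec)
  have hθ : ∀ x : U, ((x : Ω), θ x) ∈ Γ := fun x => (hdom x x.2).choose_spec
  have hker : ∀ x : U, θ x = 1 ↔ (x : Ω) ∈ (⊥ : Subgroup Ω) := fun x => by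
    rw [Subgroup.mem_bot]
    constructor
    · intro hx
      have := hθ x
      rw [hx] at this
      exact hΓ.right this Γ.one_mem
    · intro hx
      refine hΓ.left (hθ x) ?_
      rw [hx]
      exact Γ.one_mem
  have hr : θ.range = gimg Γ U := by
    ext y
    rw [mem_gimg]
    constructor
    · rintro ⟨x, rfl⟩
      exact ⟨x, x.2, hθ x⟩
    · rintro ⟨x, hx, hxy⟩
      exact ⟨⟨x, hx⟩, hΓ.left (hθ ⟨x, hx⟩) hxy⟩
  refine ⟨factorSystem D (stronglyClosed_bot D) θ hker hr,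
    (sysIso_factors (stronglyClosed_bot D) (isFactorSystem_self D)
      (factorSystem_spec (stronglyClosed_bot D) hker hr)).enlarge hΓ ?_⟩
  rintro ⟨x, y⟩ hxy
  obtain ⟨w, rfl, rfl⟩ := mem_prodRange.1 hxy
  exact hθ w

namespace SysIso

variable {Γ : Subgroup (Ω × Ω')} {D : FusionSystem U} {D' : FusionSystem U'}

theorem comp (h : SysIso Γ D D') {Γ' : Subgroup (Ω' × Ω'')} {D'' : FusionSystem U''}
    (h' : SysIso Γ' D' D'') {Δ : Subgroup (Ω × Ω'')} (hΔ : IsGraph Δ)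
    (hc : ∀ x ∈ U, ∀ y z, (x, y) ∈ Γ → (y, z) ∈ Γ' → (x, z) ∈ Δ) : SysIso Δ D D'' := by
  have key : ∀ {P : Subgroup Ω}, P ≤ U → ∀ {x : Ω} {z : Ω''}, x ∈ P → (x, z) ∈ Δ →
      ∃ y : gimg Γ P, (x, (y : Ω')) ∈ Γ ∧ ((y : Ω'), z) ∈ Γ' := by
    intro P hP x z hx hxz
    obtain ⟨y, hy, hxy⟩ := h.dom x (hP hx)
    obtain ⟨z', -, hyz⟩ := h'.dom y hy
    exact ⟨⟨y, mem_gimg.2 ⟨x, hx, hxy⟩⟩, hxy, (hΔ.left (hc x (hP hx) y z' hxy hyz) hxz) ▸ hyz⟩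
  refine ⟨hΔ, fun x hx => ?_, fun z hz => ?_, fun P φ hφ => ?_, fun P'' φ'' hφ'' => ?_⟩
  · obtain ⟨y, hy, hxy⟩ := h.dom x hx
    obtain ⟨z, hz, hyz⟩ := h'.dom y hy
    exact ⟨z, hz, hc x hx y z hxy hyz⟩
  · obtain ⟨y, hy, hyz⟩ := h'.cod z hz
    obtain ⟨x, hx, hxy⟩ := h.cod y hy
    exact ⟨x, hx, hc x hx y z hxy hyz⟩
  · obtain ⟨φ', hφ', hr⟩ := h.fwd P φ hφ
    have hP := source_le hφ
    obtain ⟨φ'', hφ'', hr'⟩ := h'.fwd_eq (P' := gimg Δ P) hφ' (by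
      ext z
      rw [mem_gimg, mem_gimg]
      constructor
      · rintro ⟨y, hy, hyz⟩
        obtain ⟨x, hx, hxy⟩ := mem_gimg.1 hy
        exact ⟨x, hx, hc x (hP hx) y z hxy hyz⟩
      · rintro ⟨x, hx, hxz⟩
        obtain ⟨y, -, hyz⟩ := key hP hx hxz
        exact ⟨y, y.2, hyz⟩)
    refine ⟨φ'', hφ'', fun x z hxz => ?_⟩
    obtain ⟨y, hxy, hyz⟩ := key hP x.2 hxz
    exact hc _ (apply_mem hφ x) _ _ (hr x y hxy) (hr' y z hyz)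
  · obtain ⟨φ', hφ', hr'⟩ := h'.bwd P'' φ'' hφ''
    have hP'' := source_le hφ''
    obtain ⟨φ, hφ, hr⟩ := h.bwd_eq (P := gimg (swapG Δ) P'') hφ' (by
      ext x
      rw [mem_gimg, mem_gimg]
      constructor
      · rintro ⟨y, hy, hyx⟩
        obtain ⟨z, hz, hzy⟩ := mem_gimg.1 hy
        obtain ⟨x', hx', hxy'⟩ := h.cod y (source_le hφ' (mem_gimg.2 ⟨z, hz, hzy⟩))
        obtain rfl := h.graph.right (mem_swapG.1 hyx) hxy'
        exact ⟨z, hz, hc x hx' y z hyx hzy⟩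
      · rintro ⟨z, hz, hzx⟩
        obtain ⟨y, hy, hyz⟩ := h'.cod z (hP'' hz)
        obtain ⟨x', hx', hxy'⟩ := h.cod y hy
        obtain rfl := hΔ.right (mem_swapG.1 hzx) (hc x' hx' y z hxy' hyz)
        exact ⟨y, mem_gimg.2 ⟨z, hz, hyz⟩, hxy'⟩)
    refine ⟨φ, hφ, fun x z hxz => ?_⟩
    obtain ⟨y, hxy, hyz⟩ := key (source_le hφ) x.2 hxz
    have hy : (y : Ω') ∈ gimg (swapG Γ') P'' := mem_gimg.2 ⟨z, z.2, hyz⟩
    exact hc _ (apply_mem hφ x) _ _ (hr x ⟨y, hy⟩ hxy) (hr' ⟨y, hy⟩ z hyz)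

theorem unique (h : SysIso Γ D D') {U₁ : Subgroup Ω'} {D₁ : FusionSystem U₁}
    (h₁ : SysIso Γ D D₁) : U' = U₁ ∧ ∀ P', D'.Hom P' = D₁.Hom P' := by
  have key : ∀ {V V₁ : Subgroup Ω'} {E : FusionSystem V} {E₁ : FusionSystem V₁},
      SysIso Γ D E → SysIso Γ D E₁ → ∀ P', E.Hom P' ⊆ E₁.Hom P' := by
    intro V V₁ E E₁ hE hE₁ P' φ' hφ'
    have heq := hE.gimg_gimg' (source_le hφ')
    obtain ⟨φ, hφ, hr⟩ := hE.bwd P' φ' hφ'
    obtain ⟨ψ, hψ, hr'⟩ := hE₁.fwd_eq hφ heq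
    have : φ' = ψ := by
      ext y
      obtain ⟨x, hx, hxy⟩ := mem_gimg.1 (heq.ge y.2)
      exact hE.graph.left (hr ⟨x, hx⟩ y hxy) (hr' ⟨x, hx⟩ y hxy)
    rwa [this]
  exact ⟨h.gimg_top.symm.trans h₁.gimg_top,
    fun P' => Set.Subset.antisymm (key h h₁ P') (key h₁ h P')⟩

variable {p : ℕ} [Fact p.Prime]

theorem finite_cod (h : SysIso Γ D D') [Finite U] : Finite U' := by
  rw [← h.toHom_range]
  exact Finite.of_surjective _ h.toHom.rangeRestrict_surjective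

theorem isPGroup_cod (h : SysIso Γ D D') (hU : IsPGroup p U) : IsPGroup p U' := by
  have := hU.of_surjective _ h.toHom.rangeRestrict_surjective
  rwa [h.toHom_range] at this

theorem isSaturated (h : SysIso Γ D D') [Finite U] (hU : IsPGroup p U) (hD : D.IsSaturated p) :
    D'.IsSaturated p :=
  factor_isSaturated hU hD (stronglyClosed_bot D) h.isFactorSystem

theorem hyperfocal_top (h : SysIso Γ D D') [Finite U] (hU : IsPGroup p U)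
    (hD : D.IsSaturated p) (hh : D.hyperfocalSubgroup p = U) :
    D'.hyperfocalSubgroup p = U' := by
  rw [hyperfocal_factor hU hD (stronglyClosed_bot D) h.isFactorSystem, hh,
    Subgroup.subgroupOf_self, ← MonoidHom.range_eq_map, h.toHom_range]

theorem isCentral (h : SysIso Γ D D') {Q : Subgroup Ω} (hQ : D.IsCentral Q) :
    D'.IsCentral (gimg Γ Q) := by
  obtain ⟨hQU, hext⟩ := hQ
  refine ⟨h.gimg_le hQU, fun P' φ' hφ' => ?_⟩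
  have hP' := source_le hφ'
  obtain ⟨φ, hφ, hr⟩ := h.bwd P' φ' hφ'
  obtain ⟨ψ, hψ, hψP, hψQ⟩ := hext _ φ hφ
  obtain ⟨ψ', hψ', hr'⟩ := h.fwd_eq (P' := P' ⊔ gimg Γ Q) hψ
    (by rw [h.gimg_sup (source_le hφ) hQU, h.gimg_gimg' hP'])
  refine ⟨ψ', hψ', fun y => ?_, fun y => ?_⟩
  · obtain ⟨x, hx, hxy⟩ := mem_gimg.1 ((h.gimg_gimg' hP').ge y.2)
    have h1 := hr' ⟨x, Subgroup.mem_sup_left hx⟩ (Subgroup.inclusion le_sup_left y) hxy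
    rw [show ψ ⟨x, Subgroup.mem_sup_left hx⟩ = φ ⟨x, hx⟩ from hψP ⟨x, hx⟩] at h1
    exact h.graph.left h1 (hr ⟨x, hx⟩ y hxy)
  · obtain ⟨x, hx, hxy⟩ := mem_gimg.1 y.2
    have h1 := hr' ⟨x, Subgroup.mem_sup_right hx⟩ (Subgroup.inclusion le_sup_right y) hxy
    rw [show ψ ⟨x, Subgroup.mem_sup_right hx⟩ = x from hψQ ⟨x, hx⟩] at h1
    exact h.graph.left h1 hxy

theorem center_le (h : SysIso Γ D D') : D.center ≤ gimg (swapG Γ) D'.center := by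
  refine sSup_le fun Q hQ => ?_
  exact (h.gimg_gimg hQ.1).ge.trans (gimg_mono _ (le_sSup (h.isCentral hQ)))

theorem gimg_center (h : SysIso Γ D D') : gimg Γ D.center = D'.center := by
  have hc' : D'.center ≤ U' := sSup_le fun Q hQ => hQ.1
  refine le_antisymm ?_ ?_
  · exact (gimg_mono Γ h.center_le).trans (h.gimg_gimg' hc').le
  · exact h.symm.center_le

theorem stronglyClosed (h : SysIso Γ D D') {T : Subgroup Ω} (hT : D.StronglyClosed T) :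
    D'.StronglyClosed (gimg Γ T) := by
  refine ⟨h.gimg_le hT.1, fun R' hR' φ' hφ' y => ?_⟩
  have heq := h.gimg_gimg' (source_le hφ')
  obtain ⟨φ, hφ, hr⟩ := h.bwd R' φ' hφ'
  obtain ⟨x, hx, hxy⟩ := mem_gimg.1 (heq.ge y.2)
  refine mem_gimg.2 ⟨φ ⟨x, hx⟩, hT.2 _ ?_ φ hφ ⟨x, hx⟩, hr ⟨x, hx⟩ y hxy⟩
  exact (gimg_mono _ hR').trans (h.gimg_gimg hT.1).le

theorem gimg_centralizerIn (h : SysIso Γ D D') {T : Subgroup Ω} (hT : T ≤ U) :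
    gimg Γ (centralizerIn U T) = centralizerIn U' (gimg Γ T) := by
  ext y
  constructor
  · intro hy
    obtain ⟨x, hx, hxy⟩ := mem_gimg.1 hy
    obtain ⟨hxU, hxT⟩ := Subgroup.mem_inf.1 hx
    refine Subgroup.mem_inf.2 ⟨h.gimg_le (centralizerIn_le U T) hy, fun t ht => ?_⟩
    obtain ⟨s, hs, hst⟩ := mem_gimg.1 ht
    refine h.graph.left (Γ.mul_mem hst hxy) ?_
    show (s * x, y * t) ∈ Γ
    rw [hxT s hs]
    exact Γ.mul_mem hxy hst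
  · intro hy
    obtain ⟨hyU, hyT⟩ := Subgroup.mem_inf.1 hy
    obtain ⟨x, hx, hxy⟩ := h.cod y hyU
    refine mem_gimg.2 ⟨x, Subgroup.mem_inf.2 ⟨hx, fun s hs => ?_⟩, hxy⟩
    obtain ⟨t, -, hst⟩ := h.dom s (hT hs)
    refine h.graph.right (Γ.mul_mem hst hxy) ?_
    show (x * s, t * y) ∈ Γ
    rw [hyT t (mem_gimg.2 ⟨s, hs, hst⟩)]
    exact Γ.mul_mem hxy hst

end SysIso

section Normal

variable {S : Subgroup Ω} {S' : Subgroup Ω'} {F : FusionSystem S} {F' : FusionSystem S'}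
  {Γ : Subgroup (Ω × Ω')} {D : FusionSystem U} {D' : FusionSystem U'} {p : ℕ} [Fact p.Prime]

theorem SysIso.isInvariantIn (h : SysIso Γ F F') (hD : SysIso Γ D D')
    (hinv : D.IsInvariantIn F) : D'.IsInvariantIn F' := by
  obtain ⟨hsub, hsc, hconj, hfrat⟩ := hinv
  have hUS : U ≤ S := hsc.1
  have hU' : U' = gimg Γ U := hD.gimg_top.symm
  refine ⟨fun P' φ' hφ' => ?_, hU' ▸ h.stronglyClosed hsc, ?_, ?_⟩
  · have heq := hD.gimg_gimg' (source_le hφ')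
    obtain ⟨φ, hφ, hr⟩ := hD.bwd P' φ' hφ'
    obtain ⟨ψ, hψ, hr'⟩ := h.fwd_eq (hsub _ hφ) heq
    have : φ' = ψ := by
      ext y
      obtain ⟨x, hx, hxy⟩ := mem_gimg.1 (heq.ge y.2)
      exact h.graph.left (hr ⟨x, hx⟩ y hxy) (hr' ⟨x, hx⟩ y hxy)
    rwa [this]
  · intro P' hP' φ' hφ' α' hα'
    obtain ⟨φ, hφ, hr⟩ := hD.bwd P' φ' hφ'
    obtain ⟨α, hα, hαr⟩ := h.symm.mem_autGroup (hU' ▸ h.gimg_le hUS) hα' hD.symm.gimg_top
    obtain ⟨χ, hχ, hχe⟩ := hconj _ (source_le hφ) φ hφ α hα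
    have hpt : ∀ (z : U'), ∃ w : U, ((w : Ω), (z : Ω')) ∈ Γ ∧
        (((α w : U) : Ω), ((α' z : U') : Ω')) ∈ Γ := fun z => by
      obtain ⟨w, hw, hwz⟩ := hD.cod z z.2
      exact ⟨⟨w, hw⟩, hwz, hαr z ⟨w, hw⟩ hwz⟩
    obtain ⟨χ', hχ', hr'⟩ := hD.fwd_eq
      (P' := (P'.subgroupOf U').map (U'.subtype.comp α'.toMonoidHom)) hχ (by
      ext z
      rw [mem_gimg]
      constructor
      · rintro ⟨_, ⟨⟨x, hxU⟩, hxP, rfl⟩, hxz⟩
        obtain ⟨y, hy, hyx⟩ := mem_gimg.1 hxP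
        exact ⟨⟨y, hP' hy⟩, hy, hD.graph.left (hαr ⟨y, hP' hy⟩ ⟨x, hxU⟩ hyx) hxz⟩
      · rintro ⟨⟨y, hyU⟩, hy, rfl⟩
        obtain ⟨w, hwy, hαw⟩ := hpt ⟨y, hyU⟩
        exact ⟨_, ⟨w, mem_gimg.2 ⟨y, hy, hwy⟩, rfl⟩, hαw⟩)
    refine ⟨χ', hχ', fun y hφy hαy => ?_⟩
    obtain ⟨w, hwy, hαw⟩ := hpt ⟨(y : Ω'), hP' y.2⟩
    have hwP : (w : Ω) ∈ gimg (swapG Γ) P' := mem_gimg.2 ⟨y, y.2, hwy⟩
    have hφx : φ ⟨w, hwP⟩ ∈ U := apply_mem hφ _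
    have hαm : ((α ⟨w, w.2⟩ : U) : Ω) ∈
        ((gimg (swapG Γ) P').subgroupOf U).map (U.subtype.comp α.toMonoidHom) :=
      ⟨w, hwP, rfl⟩
    have h1 := hχe ⟨w, hwP⟩ hφx hαm
    have h2 := hr' ⟨_, hαm⟩ ⟨_, hαy⟩ hαw
    rw [h1] at h2
    exact hD.graph.left h2
      (hαr ⟨φ' y, hφy⟩ ⟨φ ⟨w, hwP⟩, hφx⟩ (hr ⟨w, hwP⟩ y hwy))
  · intro P' hP' φ' hφ'
    have heq : gimg (swapG Γ) P' ≤ U :=
      (gimg_mono _ hP').trans hD.symm.gimg_top.le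
    obtain ⟨φ, hφ, hr⟩ := h.bwd P' φ' hφ'
    obtain ⟨α, hα, φ₀, hφ₀, he⟩ := hfrat _ heq φ hφ
    obtain ⟨α', hα', hαr⟩ := h.mem_autGroup hUS hα hD.gimg_top
    obtain ⟨φ₀', hφ₀', hr₀⟩ := hD.fwd_eq hφ₀ (hD.gimg_gimg' hP')
    refine ⟨α', hα', φ₀', hφ₀', fun y hy => ?_⟩
    obtain ⟨x, hx, hxy⟩ := mem_gimg.1 ((hD.gimg_gimg' hP').ge y.2)
    have h0 := hr₀ ⟨x, hx⟩ y hxy
    have h1 := hr ⟨x, hx⟩ y hxy
    rw [he ⟨x, hx⟩ (apply_mem hφ₀ _)] at h1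
    exact h.graph.left h1 (hαr ⟨_, apply_mem hφ₀ _⟩ ⟨_, hy⟩ h0)

theorem SysIso.isNormalIn (h : SysIso Γ F F') [Finite S] (hS : IsPGroup p S)
    (hD : SysIso Γ D D') (hn : D.IsNormalIn F p) : D'.IsNormalIn F' p := by
  obtain ⟨⟨hDs, hFs, hinv⟩, hext⟩ := hn
  have hUS : U ≤ S := hinv.2.1.1
  have := finite_of_le hUS
  refine ⟨⟨hD.isSaturated (hS.to_le hUS) hDs, h.isSaturated hS hFs, h.isInvariantIn hD hinv⟩,
    fun α' hα' => ?_⟩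
  obtain ⟨α, hα, hαr⟩ := hD.symm.mem_autGroup le_rfl hα' hD.symm.gimg_top
  obtain ⟨β, hβ, hβα, hβC⟩ := hext α hα
  have hC : gimg Γ (centralizerIn S U) = centralizerIn S' U' := by
    rw [h.gimg_centralizerIn hUS, hD.gimg_top]
  have hV : U ⊔ centralizerIn S U ≤ S := sup_le hUS (centralizerIn_le S U)
  obtain ⟨β', hβ', hβr⟩ := h.mem_autGroup hV hβ
    (P' := U' ⊔ centralizerIn S' U')
    (by rw [h.gimg_sup hUS (centralizerIn_le S U), hC, hD.gimg_top])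
  refine ⟨β', hβ', fun y => ?_, fun c hc => ?_⟩
  · obtain ⟨x, hx, hxy⟩ := hD.cod y y.2
    have h1 := hβr (Subgroup.inclusion le_sup_left ⟨x, hx⟩) (Subgroup.inclusion le_sup_left y) hxy
    rw [hβα ⟨x, hx⟩] at h1
    exact h.graph.left h1 (hαr y ⟨x, hx⟩ hxy)
  · obtain ⟨x, hx, hxc⟩ := mem_gimg.1 (hC.ge hc)
    have hxV : x ∈ U ⊔ centralizerIn S U := Subgroup.mem_sup_right hx
    obtain ⟨hzU, hzC⟩ := Subgroup.mem_inf.1 (hβC ⟨x, hxV⟩ hx)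
    have h2 := Γ.mul_mem (Γ.inv_mem hxc) (hβr ⟨x, hxV⟩ c hxc)
    refine Subgroup.mem_inf.2 ⟨?_, fun t ht => ?_⟩
    · obtain ⟨y, hy, hzy⟩ := hD.dom _ hzU
      exact h.graph.left hzy h2 ▸ hy
    · obtain ⟨s, hs, hst⟩ := hD.cod t ht
      refine h.graph.left (Γ.mul_mem hst h2) ?_
      have h3 := Γ.mul_mem h2 hst
      simp only [Prod.mk_mul_mk, Prod.inv_mk] at h3 ⊢
      rw [hzC s hs]
      exact h3

theorem exists_subnormal_aux {T : Subgroup Ω} {C : FusionSystem T} {S₀ : Subgroup Ω}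
    {F₀ : FusionSystem S₀} {q : ℕ} (hC : C.IsSubnormalIn F₀ q) :
    Fact q.Prime → Finite S₀ → IsPGroup q S₀ →
      ∀ {R : Subgroup Ω'} {G : FusionSystem R}, SysIso Γ F₀ G →
        ∃ (V : Subgroup Ω') (C' : FusionSystem V), C'.IsSubnormalIn G q ∧ SysIso Γ C C' := by
  induction hC with
  | refl F r => exact fun _ _ _ {R G} h => ⟨R, G, .refl G r, h⟩
  | @step U S C D F r _ hDF ih =>
    intro hr hfin hS R G h
    have hUS : U ≤ S := hDF.1.2.2.2.1.1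
    have := finite_of_le hUS
    obtain ⟨D', hD'⟩ := exists_image h.graph D fun x hx => by
      obtain ⟨y, -, hxy⟩ := h.dom x (hUS hx)
      exact ⟨y, hxy⟩
    obtain ⟨V, C', hsub, hCC⟩ := ih hr this (hS.to_le hUS) hD'
    exact ⟨V, C', hsub.step (h.isNormalIn hS hD' hDF), hCC⟩

/-- Subnormal subsystems are transported along isomorphisms. -/
theorem SysIso.exists_subnormal [hfin : Finite S] (hS : IsPGroup p S) {T : Subgroup Ω}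
    {C : FusionSystem T} (hC : C.IsSubnormalIn F p) {R : Subgroup Ω'} {G : FusionSystem R}
    (h : SysIso Γ F G) :
    ∃ (V : Subgroup Ω') (C' : FusionSystem V), C'.IsSubnormalIn G p ∧ SysIso Γ C C' :=
  exists_subnormal_aux hC ‹_› hfin hS h

theorem SysIso.isSimple (h : SysIso Γ D D') [Finite U] (hU : IsPGroup p U)
    (hs : D.IsSimple p) : D'.IsSimple p := by
  obtain ⟨hsat, hne, huni⟩ := hs
  refine ⟨h.isSaturated hU hsat, fun hbot => hne ?_, fun T' N' hN' => ?_⟩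
  · rw [← h.symm.gimg_top, hbot, Subgroup.eq_bot_iff_forall]
    intro x hx
    obtain ⟨y, hy, hyx⟩ := mem_gimg.1 hx
    rw [Subgroup.mem_bot] at hy
    subst hy
    exact h.graph.right (mem_swapG.1 hyx) Γ.one_mem
  · have := h.finite_cod
    have hT' : T' ≤ U' := hN'.1.2.2.2.1.1
    have := finite_of_le hT'
    obtain ⟨N, hN⟩ := exists_image h.symm.graph N' fun y hy => by
      obtain ⟨x, -, hxy⟩ := h.cod y (hT' hy)
      exact ⟨x, hxy⟩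
    rcases huni _ N (h.symm.isNormalIn (h.isPGroup_cod hU) hN hN') with hb | ⟨hTU, hall⟩
    · left
      rw [← h.gimg_gimg' hT', hb, Subgroup.eq_bot_iff_forall]
      intro y hy
      obtain ⟨x, hx, hxy⟩ := mem_gimg.1 hy
      rw [Subgroup.mem_bot] at hx
      subst hx
      exact h.graph.left hxy Γ.one_mem
    · right
      have hN2 : SysIso Γ N N' := hN.symm
      refine ⟨?_, fun P' => ?_⟩
      · rw [← hN2.gimg_top, hTU, h.gimg_top]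
      · have h' : SysIso Γ D N' := by
          refine ⟨h.graph, fun x hx => hN2.dom x (hTU.ge hx), fun y hy => ?_,
            fun P φ hφ => hN2.fwd P φ (hall P ▸ hφ), fun P φ' hφ' => ?_⟩
          · obtain ⟨x, hx, hxy⟩ := hN2.cod y hy
            exact ⟨x, hTU.le hx, hxy⟩
          · obtain ⟨φ, hφ, hr⟩ := hN2.bwd P φ' hφ'
            exact ⟨φ, hall _ ▸ hφ, hr⟩
        exact (h'.unique h).2 P'

theorem SysIso.quasisimple (h : SysIso Γ D D') [Finite U] (hU : IsPGroup p U)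
    (hq : D.Quasisimple p) : D'.Quasisimple p := by
  obtain ⟨hsat, hhyp, hsimp⟩ := hq
  refine ⟨h.isSaturated hU hsat, h.hyperfocal_top hU hsat hhyp, fun E' hE' => ?_⟩
  have hc : D.center ≤ U := sSup_le fun Q hQ => hQ.1
  obtain ⟨-, hk', -, hiff'⟩ := hE'
  have hrange : ∀ x : U, h.toHom x ∈ U' := fun x => h.toHom_range.le ⟨x, rfl⟩
  set θ' : U →* U' := h.toHom.codRestrict U' hrange
  set π' := QuotientGroup.mk' ((D'.center).subgroupOf U')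
  have hθc : ∀ x : U, h.toHom x ∈ D'.center ↔ (x : Ω) ∈ D.center := fun x => by
    rw [← h.gimg_center, mem_gimg]
    refine ⟨?_, fun hx => ⟨x, hx, h.toHom_mem x⟩⟩
    rintro ⟨x', hx', hxy⟩
    rwa [h.graph.right (h.toHom_mem x) hxy]
  have hsurj : Function.Surjective θ' := fun y => by
    obtain ⟨x, hx⟩ := h.toHom_range.ge y.2
    exact ⟨x, Subtype.ext hx⟩
  have hcomp : D.IsFactorSystem D.center (π'.comp θ') E' := by
    refine ⟨hc, fun x => (hk' (θ' x)).trans (hθc x), ?_, fun Q φ'' => ?_⟩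
    · rw [MonoidHom.range_eq_top]
      exact (QuotientGroup.mk'_surjective _).comp hsurj
    have hpre : preimageAlong (π'.comp θ') Q = gimg (swapG Γ) (preimageAlong π' Q) := by
      ext x
      rw [mem_gimg]
      constructor
      · rintro ⟨x, hx, rfl⟩
        exact ⟨h.toHom x, ⟨θ' x, hx, rfl⟩, h.toHom_mem x⟩
      · rintro ⟨_, ⟨y, hy, rfl⟩, hyx⟩
        obtain ⟨w, rfl⟩ := hsurj y
        obtain rfl : x = w := h.graph.right (mem_swapG.1 hyx) (h.toHom_mem w)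
        exact ⟨w, hy, rfl⟩
    rw [hiff']
    refine and_congr_right fun _ => ⟨?_, ?_⟩
    · rintro ⟨φ', hφ', hQ', hφU', hm', hind'⟩
      obtain ⟨φ, hφ, hr⟩ := h.bwd_eq hφ' hpre.symm
      refine ⟨φ, hφ, preimage_le _ _, apply_mem hφ,
        fun x => (mem_preimage_iff (θ := π'.comp θ') (P' := Q) ⟨x, preimage_le _ _ x.2⟩).1 x.2,
        fun x => ?_⟩
      have hy : h.toHom ⟨x, preimage_le _ _ x.2⟩ ∈ preimageAlong π' Q :=
        ⟨θ' ⟨x, preimage_le _ _ x.2⟩,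
          (mem_preimage_iff (θ := π'.comp θ') (P' := Q) ⟨x, preimage_le _ _ x.2⟩).1 x.2, rfl⟩
      refine (hind' ⟨_, hy⟩).trans (congrArg π' (Subtype.ext ?_))
      exact h.graph.left (hr x ⟨_, hy⟩ (h.toHom_mem ⟨x, preimage_le _ _ x.2⟩))
        (h.toHom_mem ⟨φ x, apply_mem hφ x⟩)
    · rintro ⟨φ, hφ, hQ, hφU, hm, hind⟩
      obtain ⟨φ', hφ', hr⟩ := h.fwd_eq (P' := preimageAlong π' Q) hφ
        (by rw [hpre, h.gimg_gimg' (preimage_le _ _)])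
      refine ⟨φ', hφ', preimage_le _ _, apply_mem hφ',
        fun y => (mem_preimage_iff (θ := π') (P' := Q) ⟨y, preimage_le _ _ y.2⟩).1 y.2,
        fun y => ?_⟩
      obtain ⟨w, hw⟩ := hsurj ⟨y, preimage_le _ _ y.2⟩
      have hwy : h.toHom w = y := congrArg Subtype.val hw
      have hwQ : (w : Ω) ∈ preimageAlong (π'.comp θ') Q := by
        rw [hpre]
        exact mem_gimg.2 ⟨y, y.2, hwy ▸ h.toHom_mem w⟩
      have h1 := hind ⟨w, hwQ⟩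
      have e1 : (⟨(π'.comp θ') ⟨w, hQ hwQ⟩, hm ⟨w, hwQ⟩⟩ : Q) =
          ⟨π' ⟨y, preimage_le _ _ y.2⟩,
            (mem_preimage_iff (θ := π') (P' := Q) ⟨y, preimage_le _ _ y.2⟩).1 y.2⟩ :=
        Subtype.ext (congrArg π' hw)
      rw [e1] at h1
      refine h1.trans (congrArg π' (Subtype.ext ?_))
      exact h.graph.left (h.toHom_mem ⟨φ ⟨w, hwQ⟩, hφU _⟩) (hr ⟨w, hwQ⟩ y (hwy ▸ h.toHom_mem w))
  set π := QuotientGroup.mk' ((D.center).subgroupOf U)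
  have hk : ∀ x : U, π x = 1 ↔ (x : Ω) ∈ D.center := fun x =>
    (QuotientGroup.eq_one_iff x).trans Subgroup.mem_subgroupOf
  have hr : π.range = (⊤ : Subgroup (U ⧸ (D.center).subgroupOf U)) :=
    MonoidHom.range_eq_top.2 (QuotientGroup.mk'_surjective _)
  have hzc := stronglyClosed_center D
  have hspec := factorSystem_spec hzc hk hr
  have hiso := sysIso_factors hzc hspec hcomp
  refine hiso.isSimple ?_ (hsimp _ hspec)
  exact (hU.to_quotient _).of_equiv Subgroup.topEquiv.symm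

end Normal

end Cfsg.Agent.Lib.Fusion.PrimeIndex
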